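import Mathlib
import Cfsg.Prelude.Def_Local

set_option autoImplicit false

namespace Cfsg.Agent.Lib.Helper12

theorem center_map_mulEquiv {H H' : Type*} [Group H] [Group H'] (e : H ≃* H') :
    (Subgroup.center H).map e.toMonoidHom = Subgroup.center H' := by
  ext x
  simp only [Subgroup.mem_map, Subgroup.mem_center_iff, MulEquiv.coe_toMonoidHom]
  constructor
  · rintro ⟨y, hy, rfl⟩ g
    obtain ⟨g', rfl⟩ := e.surjective g
    rw [← map_mul, ← map_mul, hy g']
  · intro hx
    refine ⟨e.symm x, fun g => ?_, by simp⟩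
    apply e.injective
    simp only [map_mul, MulEquiv.apply_symm_apply]
    exact hx (e g)

theorem isQuasisimple_of_mulEquiv {H H' : Type*} [Group H] [Group H'] (e : H ≃* H')
    (h : Cfsg.IsQuasisimple H) : Cfsg.IsQuasisimple H' := by
  obtain ⟨hp, hs⟩ := h
  refine ⟨?_, ?_⟩
  · have := hp
    exact Group.IsPerfect.ofSurjective (f := e.toMonoidHom) e.surjective
  · have e' : H ⧸ Subgroup.center H ≃* H' ⧸ Subgroup.center H' :=
      QuotientGroup.congr (Subgroup.center H) (Subgroup.center H') e (center_map_mulEquiv e)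
    have := hs
    exact MulEquiv.isSimpleGroup e'.symm

theorem isComponent_map_mulEquiv {G G' : Type*} [Group G] [Group G'] (e : G ≃* G')
    {K : Subgroup G} (hK : Cfsg.IsComponent K) : Cfsg.IsComponent (K.map e.toMonoidHom) := by
  refine ⟨hK.1.map (f := e.toMonoidHom) e.surjective, ?_⟩
  exact isQuasisimple_of_mulEquiv (K.equivMapOfInjective e.toMonoidHom e.injective) hK.2

theorem map_sSup_mulEquiv {G G' : Type*} [Group G] [Group G'] (e : G ≃* G')
    (S : Set (Subgroup G)) (S' : Set (Subgroup G'))
    (h1 : ∀ K ∈ S, K.map e.toMonoidHom ∈ S') (h2 : ∀ K ∈ S', K.map e.symm.toMonoidHom ∈ S) :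
    (sSup S).map e.toMonoidHom = sSup S' := by
  apply le_antisymm
  · rw [Subgroup.map_le_iff_le_comap]
    apply sSup_le
    intro K hK
    rw [← Subgroup.map_le_iff_le_comap]
    exact le_sSup (h1 K hK)
  · apply sSup_le
    intro K hK
    have h3 : K.map e.symm.toMonoidHom ≤ sSup S := le_sSup (h2 K hK)
    have h4 := Subgroup.map_mono (f := e.toMonoidHom) h3
    rw [Subgroup.map_map] at h4
    have h5 : e.toMonoidHom.comp e.symm.toMonoidHom = MonoidHom.id G' := by
      ext x; simp
    rwa [h5, Subgroup.map_id] at h4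

theorem layer_map_mulEquiv {G G' : Type*} [Group G] [Group G'] (e : G ≃* G') :
    (Cfsg.layer G).map e.toMonoidHom = Cfsg.layer G' :=
  map_sSup_mulEquiv e _ _ (fun _ hK => isComponent_map_mulEquiv e hK)
    (fun _ hK => isComponent_map_mulEquiv e.symm hK)

theorem isNilpotent_map_mulEquiv {G G' : Type*} [Group G] [Group G'] (e : G ≃* G')
    {K : Subgroup G} (hK : Group.IsNilpotent K) : Group.IsNilpotent (K.map e.toMonoidHom) := by
  have := hK
  exact Group.nilpotent_of_mulEquiv (K.equivMapOfInjective e.toMonoidHom e.injective)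

theorem fittingSubgroup_map_mulEquiv {G G' : Type*} [Group G] [Group G'] (e : G ≃* G') :
    (Cfsg.fittingSubgroup G).map e.toMonoidHom = Cfsg.fittingSubgroup G' :=
  map_sSup_mulEquiv e _ _
    (fun _ hK => ⟨have := hK.1; Subgroup.Normal.map hK.1 _ e.surjective, isNilpotent_map_mulEquiv e hK.2⟩)
    (fun _ hK => ⟨have := hK.1; Subgroup.Normal.map hK.1 _ e.symm.surjective, isNilpotent_map_mulEquiv e.symm hK.2⟩)

theorem generalizedFittingSubgroup_map_mulEquiv {G G' : Type*} [Group G] [Group G'] (e : G ≃* G') :
    (Cfsg.generalizedFittingSubgroup G).map e.toMonoidHom = Cfsg.generalizedFittingSubgroup G' := by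
  show (Cfsg.layer G ⊔ Cfsg.fittingSubgroup G).map e.toMonoidHom = Cfsg.layer G' ⊔ Cfsg.fittingSubgroup G'
  rw [Subgroup.map_sup, layer_map_mulEquiv, fittingSubgroup_map_mulEquiv]

theorem characteristic_of_map_mulEquiv {G : Type*} [Group G] (H : Subgroup G)
    (h : ∀ e : G ≃* G, H.map e.toMonoidHom = H) : H.Characteristic := by
  rw [Subgroup.characteristic_iff_map_eq]
  exact h

theorem layer_characteristic (G : Type*) [Group G] : (Cfsg.layer G).Characteristic :=
  characteristic_of_map_mulEquiv _ (fun e => layer_map_mulEquiv e)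

theorem fittingSubgroup_characteristic (G : Type*) [Group G] :
    (Cfsg.fittingSubgroup G).Characteristic :=
  characteristic_of_map_mulEquiv _ (fun e => fittingSubgroup_map_mulEquiv e)

theorem generalizedFittingSubgroup_characteristic (G : Type*) [Group G] :
    (Cfsg.generalizedFittingSubgroup G).Characteristic :=
  characteristic_of_map_mulEquiv _ (fun e => generalizedFittingSubgroup_map_mulEquiv e)

theorem generalizedFittingSubgroup_normal (G : Type*) [Group G] :
    (Cfsg.generalizedFittingSubgroup G).Normal := by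
  have := generalizedFittingSubgroup_characteristic G
  infer_instance

theorem le_fittingSubgroup {G : Type*} [Group G] {N : Subgroup G} (hN : N.Normal)
    (hp : Group.IsNilpotent N) : N ≤ Cfsg.fittingSubgroup G :=
  le_sSup ⟨hN, hp⟩

theorem fittingSubgroup_le_generalizedFittingSubgroup (G : Type*) [Group G] :
    Cfsg.fittingSubgroup G ≤ Cfsg.generalizedFittingSubgroup G := le_sup_right

end Cfsg.Agent.Lib.Helper12
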