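import Mathlib
import Cfsg.Agent.Lib.helper14.BGL.SPDefs
import Cfsg.Agent.Lib.helper14.BGL.SPDefs2

/-!
# Project BGL, block SP (designer helper14), rows SPO1 = O1 `spOrb_spec` + O4 `spBase_spec`: VERBATIM
-/

set_option autoImplicit false

namespace Cfsg.Agent.Lib.helper14.BGLSP

open Cfsg.Lie Cfsg.Lie.ChevalleyDatum Cfsg.Agent.Lib.helper8 Cfsg.Agent.Lib.Helper10.BGL Matrix

universe u

variable {K : Type u} [Field K] (D : ChevalleyDatum)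

/-- O1 [S] -/
theorem spOrb_spec {lam dep par : List ℕ} (h : spOrbChk D lam dep par = true) :
    0 < D.nroots ∧ D.neg 0 = D.nroots - 1 ∧ 0 ∈ lam ∧ ∀ s ∈ lam, s < D.nroots ∧ D.neg s ∈ lam := by
  unfold spOrbChk at h
  simp only [Bool.and_eq_true, decide_eq_true_eq, List.all_eq_true, List.contains_iff_mem] at h
  obtain ⟨⟨⟨h1, h2⟩, h3⟩, h4⟩ := h
  exact ⟨h1, h2, h3, fun s hs => ⟨(h4 s hs).1.1, (h4 s hs).1.2⟩⟩

/-- O4 [S] -/
theorem spBase_spec (h : spBaseChk D = true) :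
    (∀ r < D.nroots, D.neg r < D.nroots ∧ D.neg r ≠ r ∧ D.neg (D.neg r) = r ∧
      ∀ e ∈ (D.chain.getD r #[]).toList, ∀ q ∈ e.2.toList, q.1 ≠ r) ∧
    ∀ i < D.rank, D.simple i < D.nroots ∧ D.cartan i (D.simple i) = 2 ∧ cor D (D.simple i) i = 1 ∧
      cor D (D.neg (D.simple i)) i = -1 := by
  unfold spBaseChk at h
  simp only [Bool.and_eq_true, decide_eq_true_eq, List.all_eq_true, List.mem_range, ne_eq, decide_not,
    Bool.not_eq_eq_eq_not, Bool.not_true, decide_eq_false_iff_not] at h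
  obtain ⟨h1, h2⟩ := h
  refine ⟨fun r hr => ?_, fun i hi => ?_⟩
  · obtain ⟨⟨⟨a, b⟩, c⟩, d⟩ := h1 r hr
    exact ⟨a, b, c, d⟩
  · obtain ⟨⟨⟨a, b⟩, c⟩, d⟩ := h2 i hi
    exact ⟨a, b, c, d⟩

end Cfsg.Agent.Lib.helper14.BGLSP
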