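import Mathlib
import Cfsg.Agent.Lib.helper14.BGL.SPDefs
import Cfsg.Agent.Lib.helper14.BGL.SPDefs2

/-!
# Project BGL, block SP (designer helper14), row SPR2 `row_alpha`: CORE

Hypotheses: the statements of O1 `spOrb_spec`, O4 `spBase_spec` (first half), X4 `x_mulVec_self`, R1 `row_lam`.
-/

set_option autoImplicit false

namespace Cfsg.Agent.Lib.helper14.BGLSP

open Cfsg.Lie Cfsg.Lie.ChevalleyDatum Cfsg.Agent.Lib.helper8 Cfsg.Agent.Lib.Helper10.BGL Matrix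

universe u

variable {K : Type u} [Field K]

/-- R2, core -/
theorem bglspr2_core {D : ChevalleyDatum} {lam : List ℕ} {P : (D.Idx → K) → Prop} (hP : StabP D P)
    (hO1 : ∀ s ∈ lam, s < D.nroots ∧ D.neg s ∈ lam)
    (hO4 : ∀ r < D.nroots, D.neg r < D.nroots ∧ D.neg r ≠ r ∧ D.neg (D.neg r) = r ∧
      ∀ e ∈ (D.chain.getD r #[]).toList, ∀ q ∈ e.2.toList, q.1 ≠ r)
    (hX4 : ∀ {r : ℕ} (_ : r < D.nroots) (_ : D.neg r ≠ r)
      (_ : ∀ e ∈ (D.chain.getD r #[]).toList, ∀ q ∈ e.2.toList, q.1 ≠ r) (t : K) (w : D.Idx → K),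
      rc D (D.x K r t *ᵥ w) r = rc D w r - t * alpha D r w - t ^ 2 * rc D w (D.neg r))
    (hR1 : ∀ s ∈ lam, ∀ w, P w → rc D w s = 0) :
    ∀ s ∈ lam, ∀ w, P w → alpha D s w = 0 := by
  intro s hs w hw
  obtain ⟨hsn, hns⟩ := hO1 s hs
  obtain ⟨_, hne, _, hself⟩ := hO4 s hsn
  have h1 := hX4 hsn hne hself 1 w
  rw [hR1 s hs _ (hP s hsn w hw).1, hR1 s hs w hw, hR1 _ hns w hw] at h1
  have h2 : (0 : K) = -alpha D s w := by
    rw [h1]
    ring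
  exact neg_eq_zero.1 h2.symm

end Cfsg.Agent.Lib.helper14.BGLSP
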