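import Mathlib
import Cfsg.Agent.Lib.helper7.BD.D1Defs
import Cfsg.Agent.Lib.helper7.BD.D1Defs2
import Cfsg.Agent.Lib.Helper25.BDTSTAB
import Cfsg.Agent.Lib.Helper25.CharBasic
import Cfsg.Agent.Lib.Helper13.BD3CJ

/-!
# Project BD, piece 3-REPS (main part): orbit representatives for `T` on `b ∖ {θ}`

`helper12_reps_of` proves the conclusion of `root_exists_reps` from `RootHyp` together with the conclusions of the
pieces CARDB (`Nat.card b = p`) and FREE (an element of `T` fixing a member of `b ∖ {θ}` centralizes `P`).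
-/

set_option autoImplicit false
set_option linter.unusedVariables false
set_option linter.unusedSectionVars false
set_option linter.style.haveILetI false

namespace Cfsg.Agent.Lib.helper7.BD

open Cfsg.Agent.Lib.helper7

universe u

section loc

variable {G : Type u} [Group G] [Fintype G] {M : Ideal Cfsg.AlgInt} {p : ℕ} [Fact p.Prime]
  {P : Sylow p G} {B : Set (Cfsg.IrrCharacter G)}
  {b : Set (Cfsg.IrrCharacter (Subgroup.centralizer ((P : Subgroup G) : Set G)))}
  {θ : Cfsg.IrrCharacter (Subgroup.centralizer ((P : Subgroup G) : Set G))} {T : Subgroup G}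

local notation "CP" => Subgroup.centralizer ((P : Subgroup G) : Set G)

/-- elements of `T` normalize `C_G(P)` -/
theorem helper12_T_normalizes (h : RootHyp p M P B b θ T) {n : G} (hn : n ∈ T) :
    n ∈ Subgroup.normalizer
      ((Subgroup.centralizer ((P : Subgroup G) : Set G) : Subgroup G) : Set G) :=
  Cfsg.Agent.Lib.Helper24.ci_normalizer_le (P : Subgroup G) ((h.hT n).mp hn).1

/-- elements of `T` fix `θ` -/
theorem helper12_T_fixes (h : RootHyp p M P B b θ T) {n : G} (hn : n ∈ T) :
    cjIrr (Subgroup.centralizer ((P : Subgroup G) : Set G)) n θ = θ := by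
  have hconj : Cfsg.IsConjCharOf (Subgroup.centralizer ((P : Subgroup G) : Set G)) n
      (θ : Subgroup.centralizer ((P : Subgroup G) : Set G) → ℂ)
      (θ : Subgroup.centralizer ((P : Subgroup G) : Set G) → ℂ) :=
    fun c c' hc => ((h.hT n).mp hn).2 c c' hc
  exact (eq_cjIrr_of_isConjCharOf _ (helper12_T_normalizes h hn) θ θ hconj).symm

/-- elements of `T` map `b` into `b` -/
theorem helper12_T_maps (h : RootHyp p M P B b θ T) {n : G} (hn : n ∈ T)
    {ξ : Cfsg.IrrCharacter (Subgroup.centralizer ((P : Subgroup G) : Set G))} (hξ : ξ ∈ b) :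
    cjIrr (Subgroup.centralizer ((P : Subgroup G) : Set G)) n ξ ∈ b := by
  have hs := (root_stab h n ((h.hT n).mp hn).1).mp hn
  rw [← hs]
  exact ⟨ξ, hξ, rfl⟩

/-- REPS, from the conclusions of CARDB and FREE -/
theorem helper12_reps_of (h : RootHyp p M P B b θ T) (hcard : Nat.card b = p)
    (hfree : ∀ n ∈ T, ∀ ξ ∈ b, ξ ≠ θ →
      cjIrr (Subgroup.centralizer ((P : Subgroup G) : Set G)) n ξ = ξ →
        n ∈ Subgroup.centralizer ((P : Subgroup G) : Set G)) :
    ∃ (t : ℕ) (r : Fin t → Cfsg.IrrCharacter (Subgroup.centralizer ((P : Subgroup G) : Set G))),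
      IsReps P b θ T ((Subgroup.centralizer ((P : Subgroup G) : Set G)).relIndex T) t r := by
  classical
  -- the set acted upon
  let X : Type u := {ξ : Cfsg.IrrCharacter CP // ξ ∈ b ∧ ξ ≠ θ}
  haveI : Finite X := Subtype.finite
  haveI : Fintype X := Fintype.ofFinite X
  have hmapne : ∀ {n : G}, n ∈ T → ∀ {ξ : Cfsg.IrrCharacter CP}, ξ ≠ θ → cjIrr CP n ξ ≠ θ := by
    intro n hn ξ hne heq
    apply hne
    apply cjIrr_injective CP (helper12_T_normalizes h hn)
    rw [heq, helper12_T_fixes h hn]
  letI act : MulAction ↥T X :=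
    { smul := fun n x => ⟨cjIrr CP (n : G) x.1, helper12_T_maps h n.2 x.2.1, hmapne n.2 x.2.2⟩
      one_smul := fun x => Subtype.ext (cjIrr_of_mem_self CP (one_mem CP) x.1)
      mul_smul := fun n n' x => Subtype.ext
        (cjIrr_mul CP (helper12_T_normalizes h n.2) (helper12_T_normalizes h n'.2) x.1) }
  have hsmul : ∀ (n : ↥T) (x : X), (n • x).1 = cjIrr CP (n : G) x.1 := fun n x => rfl
  -- point stabilizers
  have hstab : ∀ x : X, MulAction.stabilizer ↥T x = Subgroup.subgroupOf CP T := by
    intro x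
    ext n
    rw [MulAction.mem_stabilizer_iff, Subgroup.mem_subgroupOf]
    constructor
    · intro hn
      have := congrArg Subtype.val hn
      rw [hsmul] at this
      exact hfree n n.2 x.1 x.2.1 x.2.2 this
    · intro hn
      apply Subtype.ext
      rw [hsmul]
      exact cjIrr_of_mem_self CP hn x.1
  have horb : ∀ x : X, Nat.card (MulAction.orbit ↥T x) = Subgroup.relIndex CP T := by
    intro x
    rw [Nat.card_coe_set_eq, ← MulAction.index_stabilizer, hstab x]
    rfl
  -- cardinality of `X`
  have hXcard : Nat.card X = p - 1 := by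
    have hbfin : b.Finite := Set.toFinite b
    have h1 : Nat.card X = (b \ {θ}).ncard := by
      rw [← Nat.card_coe_set_eq]
      apply Nat.card_congr
      exact Equiv.subtypeEquivRight (fun ξ => by
        rw [Set.mem_sdiff, Set.mem_singleton_iff])
    rw [h1, Set.ncard_sdiff_singleton_of_mem h.hθ, ← Nat.card_coe_set_eq, hcard]
  -- the orbits
  let Q := MulAction.orbitRel.Quotient ↥T X
  haveI : Finite Q := Quotient.finite _
  haveI : Fintype Q := Fintype.ofFinite Q
  let t := Nat.card Q
  let eq : Fin t ≃ Q := (Finite.equivFin Q).symm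
  let r : Fin t → Cfsg.IrrCharacter CP := fun j => ((eq j).out : X).1
  let hsigma : X ≃ Σ ω : Q, MulAction.orbit ↥T ω.out := MulAction.selfEquivSigmaOrbits ↥T X
  have horbq : ∀ ω : Q, Nat.card (MulAction.orbit ↥T ω.out) = Subgroup.relIndex CP T := fun ω => horb _
  refine ⟨t, r, ?_, ?_, ?_, ?_, ?_⟩
  · -- `e * t = p - 1`
    rw [← hXcard, Nat.card_congr hsigma, Nat.card_sigma]
    simp only [horbq, Finset.sum_const, Finset.card_univ, smul_eq_mul]
    rw [mul_comm]
    exact congrArg (· * _) (Nat.card_eq_fintype_card (α := Q))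
  · intro j
    exact ((eq j).out : X).2.1
  · intro j
    exact ((eq j).out : X).2.2
  · intro j j' n hn hnj
    apply eq.injective
    have h1 : ((⟨n, hn⟩ : ↥T) • ((eq j).out : X)) = ((eq j').out : X) := Subtype.ext hnj
    have h2 : (Quotient.mk'' ((eq j').out : X) : Q) = Quotient.mk'' ((eq j).out : X) := by
      rw [Quotient.eq'']
      exact ⟨⟨n, hn⟩, h1⟩
    rw [Quotient.out_eq', Quotient.out_eq'] at h2
    exact h2.symm
  · -- the sum formula
    intro g hg
    have hgX : ∀ (n : ↥T) (x : X), g (n • x).1 = g x.1 := fun n x => by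
      rw [hsmul]
      exact hg n n.2 x.1 x.2.1
    have h1 : ∑ᶠ ξ ∈ b \ {θ}, g ξ = ∑ x : X, g x.1 := by
      rw [finsum_mem_eq_finite_toFinset_sum _ (Set.toFinite _)]
      refine Finset.sum_bij' (fun ξ hξ => (⟨ξ, by
          rw [Set.Finite.mem_toFinset, Set.mem_sdiff, Set.mem_singleton_iff] at hξ
          exact hξ⟩ : X)) (fun x _ => x.1) ?_ ?_ ?_ ?_ ?_
      · intro ξ hξ
        exact Finset.mem_univ _
      · intro x _
        rw [Set.Finite.mem_toFinset, Set.mem_sdiff, Set.mem_singleton_iff]
        exact x.2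
      · intro ξ hξ
        rfl
      · intro x _
        rfl
      · intro ξ hξ
        rfl
    rw [h1, ← Equiv.sum_comp hsigma.symm, Fintype.sum_sigma]
    have h2 : ∀ ω : Q, ∑ y : MulAction.orbit ↥T ω.out, g (hsigma.symm ⟨ω, y⟩).1 =
        (Subgroup.relIndex CP T : ℂ) * g (ω.out : X).1 := by
      intro ω
      have h3 : ∀ y : MulAction.orbit ↥T ω.out, g (hsigma.symm ⟨ω, y⟩).1 = g (ω.out : X).1 := by
        intro y
        have hy : hsigma.symm ⟨ω, y⟩ = (y : X) := rfl
        rw [hy]
        obtain ⟨n, hn⟩ := y.2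
        rw [← hn]
        exact hgX n _
      rw [Finset.sum_congr rfl (fun y _ => h3 y), Finset.sum_const, Finset.card_univ,
        ← Nat.card_eq_fintype_card, horbq ω, nsmul_eq_mul]
    rw [Finset.sum_congr rfl (fun ω _ => h2 ω), ← Finset.mul_sum]
    congr 1
    exact (Equiv.sum_comp eq (fun ω : Q => g (ω.out : X).1)).symm

end loc

end Cfsg.Agent.Lib.helper7.BD
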