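import Mathlib
import Cfsg.Agent.Lib.Helper12.BD3REPSa
import Cfsg.Agent.Lib.Helper1.BD3CARDB
import Cfsg.Agent.Lib.Helper1.BD3FREE

/-!
# Project BD, piece 3-REPS: orbit representatives for `T` on `b ∖ {θ}`

`root_exists_reps`, verbatim from `Skeleton3`; the work is in `BD3REPSa` (`helper12_reps_of`), combined here with
the pieces CARDB (`root_card_b`) and FREE (`root_free`).
-/

set_option autoImplicit false
set_option linter.unusedVariables false
set_option linter.unusedSectionVars false

namespace Cfsg.Agent.Lib.helper7.BD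

open Cfsg.Agent.Lib.helper7

universe u

variable {G : Type u} [Group G] [Fintype G] {M : Ideal Cfsg.AlgInt} {p : ℕ} [Fact p.Prime]
  {P : Sylow p G} {B : Set (Cfsg.IrrCharacter G)}
  {b : Set (Cfsg.IrrCharacter (Subgroup.centralizer ((P : Subgroup G) : Set G)))}
  {θ : Cfsg.IrrCharacter (Subgroup.centralizer ((P : Subgroup G) : Set G))} {T : Subgroup G}

/-- REPS : orbit representatives for `T` on `b ∖ {θ}`; in particular `e ∣ p - 1` -/
theorem root_exists_reps (h : RootHyp p M P B b θ T) :
    ∃ (t : ℕ) (r : Fin t → Cfsg.IrrCharacter (Subgroup.centralizer ((P : Subgroup G) : Set G))),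
      IsReps P b θ T ((Subgroup.centralizer ((P : Subgroup G) : Set G)).relIndex T) t r :=
  helper12_reps_of h (root_card_b h) (fun n hn ξ hξ hne hfix => root_free h n hn ξ hξ hne hfix)

end Cfsg.Agent.Lib.helper7.BD
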