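import Mathlib
import Cfsg.Agent.Lib.helper17.SLP.Defs
import Cfsg.Agent.Lib.helper17.SL3.Defs

/-!
# Project SL3 (S2287), row A6 (core): the A-part of the presentation of `SL₃(F)`, from the
statements of the rows A3, A5, M1, M2 (helper12).  The P2 facts for `wordsA2`, `wordsA3` are proved
here under the names `sl3a6_ev2`, `sl3a6_ev3`.
-/

set_option autoImplicit false

namespace Cfsg.Agent.Lib.helper17.SL3

open Cfsg.Agent.Lib.helper17.SLP
open Polynomial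

universe u v

/-- the relations of `wordsA2` spelled out (= row P2 `ev4_wordsA2`) -/
theorem sl3a6_ev2 {G : Type*} [Group G] (u d w c : G) (p : ℕ) (m : (ZMod p)[X]) :
    (∀ r ∈ wordsA2 p m, ev4 u d w c r = 1) ↔ (u ^ p = 1 ∧ pw p d u 1 m = 1) := by
  simp only [wordsA2, List.forall_mem_cons, List.not_mem_nil, false_imp_iff, implies_true,
    and_true, map_pow, map_pw, ev4_qU, ev4_qD]

/-- the relations of `wordsA3` spelled out (= row P2 `ev4_wordsA3`) -/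
theorem sl3a6_ev3 {G : Type*} [Group G] (u d w c : G) (p : ℕ) (k : ℤ) (m : (ZMod p)[X]) :
    (∀ r ∈ wordsA3 p k m, ev4 u d w c r = 1) ↔
      (u ^ p = 1 ∧ cj d u k = cj d u 1 * u ∧ pw p d u 1 m = 1) := by
  simp only [wordsA3, List.forall_mem_cons, List.not_mem_nil, false_imp_iff, implies_true,
    and_true, map_mul, map_pow, map_inv, map_cj, map_pw, ev4_qU, ev4_qD, mul_inv_eq_one]

/-- A6 with the statements of A3, A5, M1 (`xM3_mul xM3_zero xM3_pow cj_M3`), M2 as hypotheses. -/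
theorem sl3a6_core {F : Type u} [Field F] [Fintype F] (p : ℕ) [Fact p.Prime] [CharP F p] (ζ : Fˣ)
    (hA3 : 4 ≤ Fintype.card F → ∃ k : ℕ, (ζ : F) ^ k = (ζ : F) + 1)
    (hA5 : ∀ [Algebra (ZMod p) F] (G : Type) [Group G] (u d : G), u ^ p = 1 →
      Commute u (cj d u 1) → pw p d u 1 (minpoly (ZMod p) (ζ : F)) = 1 →
      (Fintype.card F < p ^ 3 ∨ ∃ k : ℤ, (ζ : F) ^ k = (ζ : F) + 1 ∧ cj d u k = cj d u 1 * u) →
      ∃ x : F → G, (∀ s t, x (s + t) = x s * x t) ∧ (∀ t, d * x t * d⁻¹ = x ((ζ : F) * t)) ∧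
        x 1 = u)
    (hxM_mul : ∀ s t : F, xM3 s * xM3 t = xM3 (s + t))
    (hxM_zero : xM3 (0 : F) = 1)
    (hxM_pow : ∀ (t : F) (n : ℕ), xM3 t ^ n = xM3 ((n : F) * t))
    (hcj_M : ∀ (s : Fˣ) (t : F) (i : ℤ), cj (dM3 s) (xM3 t) i = xM3 (((s ^ i : Fˣ) : F) * t))
    (hpw_M : ∀ [Algebra (ZMod p) F] (s : Fˣ) (f : (ZMod p)[X]),
      pw p (dM3 s) (xM3 (1 : F)) 1 f = xM3 (aeval (s : F) f)) :
    ∃ A : List (FreeGroup (Fin 4)), A.length ≤ 3 ∧ (Fintype.card F < p ^ 3 → A.length ≤ 2) ∧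
      (∀ r ∈ A, ev4 (xM3 (1 : F)) (dM3 ζ) wM3 cM3 r = 1) ∧
      ∀ (G : Type) [Group G] (u d w c : G), (∀ r ∈ A, ev4 u d w c r = 1) → Commute u (cj d u 1) →
        ∃ x : F → G, (∀ s t, x (s + t) = x s * x t) ∧ (∀ t, d * x t * d⁻¹ = x ((ζ : F) * t)) ∧
          x 1 = u := by
  letI : Algebra (ZMod p) F := ZMod.algebra F p
  have hp0 : ((p : ℕ) : F) * 1 = 0 := by
    rw [mul_one]
    exact CharP.cast_eq_zero F p
  have h1 : xM3 (1 : F) ^ p = 1 := by rw [hxM_pow, hp0, hxM_zero]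
  have h3 : pw p (dM3 ζ) (xM3 (1 : F)) 1 (minpoly (ZMod p) (ζ : F)) = 1 := by
    rw [hpw_M, minpoly.aeval, hxM_zero]
  by_cases hlt : Fintype.card F < p ^ 3
  · refine ⟨wordsA2 p (minpoly (ZMod p) (ζ : F)), by simp [wordsA2], fun _ => by simp [wordsA2],
      ?_, ?_⟩
    · rw [sl3a6_ev2]
      exact ⟨h1, h3⟩
    · intro G _ u d w c hrel hcomm
      rw [sl3a6_ev2] at hrel
      obtain ⟨a1, a4⟩ := hrel
      exact hA5 G u d a1 hcomm a4 (Or.inl hlt)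
  · have hp2 : 2 ≤ p := (Fact.out : p.Prime).two_le
    have h8 : 8 ≤ p ^ 3 := by
      calc 8 = 2 ^ 3 := by norm_num
        _ ≤ p ^ 3 := Nat.pow_le_pow_left hp2 3
    have hq : 4 ≤ Fintype.card F := by omega
    obtain ⟨k, hk⟩ := hA3 hq
    refine ⟨wordsA3 p (k : ℤ) (minpoly (ZMod p) (ζ : F)), by simp [wordsA3],
      fun h => absurd h hlt, ?_, ?_⟩
    · rw [sl3a6_ev3]
      refine ⟨h1, ?_, h3⟩
      rw [hcj_M, hcj_M, hxM_mul]
      congr 1
      rw [zpow_natCast, zpow_one, mul_one, mul_one, Units.val_pow_eq_pow_val, hk]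
    · intro G _ u d w c hrel hcomm
      rw [sl3a6_ev3] at hrel
      obtain ⟨a1, a3, a4⟩ := hrel
      have hk' : (ζ : F) ^ (k : ℤ) = (ζ : F) + 1 := by
        rw [zpow_natCast]
        exact hk
      exact hA5 G u d a1 hcomm a4 (Or.inr ⟨(k : ℤ), hk', a3⟩)

end Cfsg.Agent.Lib.helper17.SL3
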