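import Mathlib
import Cfsg.Agent.Lib.Helper1.SLN.Defs

/-!
# Project SLN / SL7 (designer helper1), row S1 (verbatim, helper12): the hom out of `SL_n(F)` given by a Steinberg system
-/

set_option autoImplicit false

namespace Cfsg.Agent.Lib.Helper1.SLN

open Matrix Equiv
open Cfsg.Agent.Lib.helper17.SLP

universe u v

/-- S1 [S-M] -/
theorem st_hom {F : Type u} [Field F] [Finite F] {n : ℕ} (hn : 3 ≤ n) {G : Type v} [Group G]
    (X : Fin n → Fin n → F → G) (H : StSys X) :
    ∃ Φ : Matrix.SpecialLinearGroup (Fin n) F →* G, ∀ (i j : Fin n) (h : i ≠ j) (t : F),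
      Φ (Matrix.SpecialLinearGroup.transvection h t) = X i j t := by
  obtain ⟨e, he⟩ := Cfsg.Agent.Lib.helper7.St.steinberg_presentation F n hn
  let f : {ij : Fin n × Fin n // ij.1 ≠ ij.2} × F → G := fun p => X p.1.1.1 p.1.1.2 p.2
  have hrel : ∀ r ∈ Cfsg.Agent.Lib.helper7.St.rels F n, FreeGroup.lift f r = 1 := by
    rintro r ((⟨a, t, u, rfl⟩ | ⟨a, b, t, u, h1, h2, rfl⟩) | ⟨a, b, h, t, u, h1, rfl⟩)
    · simp only [map_mul, map_inv, FreeGroup.lift_apply_of, f]
      rw [H.add a.1.1 a.1.2 a.2 t u, mul_inv_cancel]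
    · simp only [map_mul, map_inv, FreeGroup.lift_apply_of, f]
      rw [H.comm a.1.1 a.1.2 b.1.1 b.1.2 a.2 b.2 h1 h2 t u, mul_inv_cancel_right, mul_inv_cancel]
    · obtain ⟨⟨i, j⟩, hij⟩ := a
      obtain ⟨⟨j', k⟩, hjk⟩ := b
      simp only at h1 h hij hjk
      subst h1
      simp only [map_mul, map_inv, FreeGroup.lift_apply_of, f]
      rw [H.cmm i j k hij hjk h t u, mul_inv_cancel]
  refine ⟨(PresentedGroup.toGroup hrel).comp e.symm.toMonoidHom, fun i j h t => ?_⟩
  have hE : e (PresentedGroup.of (⟨(i, j), h⟩, t)) = Matrix.SpecialLinearGroup.transvection h t := by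
    apply Subtype.ext
    rw [he ⟨(i, j), h⟩ t, Matrix.SpecialLinearGroup.transvection_coe]
    rfl
  show (PresentedGroup.toGroup hrel) (e.symm (Matrix.SpecialLinearGroup.transvection h t)) = X i j t
  rw [← hE, e.symm_apply_apply, PresentedGroup.toGroup.of]

end Cfsg.Agent.Lib.Helper1.SLN
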