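import Mathlib
import Cfsg.Agent.Lib.Helper1.SLN.Defs
import Cfsg.Agent.Lib.Lead.SLn
import Cfsg.Agent.Lib.Helper16.SLNM3

/-!
# Project SLN / SL7 (designer helper1), row MG5 core (helper12): the 2×2 block commutes with its `(0 2)(1 3)`-conjugate
-/

set_option autoImplicit false

namespace Cfsg.Agent.Lib.Helper1.SLN

open Matrix Equiv
open Cfsg.Agent.Lib.helper17.SLP

universe u v

section MG

variable {F : Type u} [Field F]

/-- a transvection of `SL₂(F)` is `xU c` or `xL c`. -/
theorem slnmg5_tv2 (k l : Fin 2) (h : k ≠ l) (c : F) :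
    Matrix.SpecialLinearGroup.transvection h c = xU c ∨
      Matrix.SpecialLinearGroup.transvection h c = xL c := by
  fin_cases k <;> fin_cases l
  · exact absurd rfl h
  · left; rfl
  · right; rfl
  · exact absurd rfl h

theorem slnmg5_rho0 (M : ℕ) : ((rho M : alternatingGroup (Fin (M + 4))) : Equiv.Perm (Fin (M + 4))) (inc M 0) = i2 M := by
  rw [rho_coe, Equiv.Perm.mul_apply, inc_zero, Equiv.swap_apply_of_ne_of_ne (i01 M) (i03 M),
    Equiv.swap_apply_left]

theorem slnmg5_rho1 (M : ℕ) : ((rho M : alternatingGroup (Fin (M + 4))) : Equiv.Perm (Fin (M + 4))) (inc M 1) = i3 M := by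
  rw [rho_coe, Equiv.Perm.mul_apply, inc_one, Equiv.swap_apply_left,
    Equiv.swap_apply_of_ne_of_ne (i03 M).symm (i23 M).symm]

/-- commuting transvections (`Commute` form of `helper7.St.transvection_comm'`). -/
theorem slnmg5_tv_comm {n : ℕ} {i j k l : Fin n} (hij : i ≠ j) (hkl : k ≠ l) (hil : i ≠ l) (hjk : j ≠ k) (t u : F) :
    Commute (Matrix.SpecialLinearGroup.transvection hij t) (Matrix.SpecialLinearGroup.transvection hkl u) :=
  Cfsg.Agent.Lib.helper7.St.transvection_comm' hij hkl hil hjk t u

/-- MG5 core: `alphaM_rho` from the statements of MG0a (`alphaM_conj_tv`) and MG0b (`betaM_tv`). -/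
theorem slnmg5_core (M : ℕ)
    (hMG0a : ∀ (σ : alternatingGroup (Fin (M + 4))) (i j : Fin (M + 4)) (h : i ≠ j) (t : F),
      alphaM σ * Matrix.SpecialLinearGroup.transvection h t * (alphaM σ)⁻¹ =
        Matrix.SpecialLinearGroup.transvection (i := (σ : Equiv.Perm (Fin (M + 4))) i)
          (j := (σ : Equiv.Perm (Fin (M + 4))) j)
          (fun e => h ((σ : Equiv.Perm (Fin (M + 4))).injective e)) t)
    (hMG0b : ∀ (a b : Fin 3) (h : a ≠ b) (t : F),
      betaM M (Matrix.SpecialLinearGroup.transvection h t) =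
        Matrix.SpecialLinearGroup.transvection (i := inc M a) (j := inc M b)
          (fun e => h (inc_injective M e)) t)
    (m m' : Matrix.SpecialLinearGroup (Fin 2) F) :
    Commute (betaM M (emb23 m)) (alphaM (rho M) * betaM M (emb23 m') * (alphaM (rho M))⁻¹) := by
  -- step A: a transvection with indices outside `{2, 3}` commutes with the conjugated block
  have stepA : ∀ (a b : Fin (M + 4)) (hab : a ≠ b), a ≠ i2 M → a ≠ i3 M → b ≠ i2 M → b ≠ i3 M →
      ∀ (t : F) (m' : Matrix.SpecialLinearGroup (Fin 2) F),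
        Commute (Matrix.SpecialLinearGroup.transvection hab t)
          (alphaM (rho M) * betaM M (emb23 m') * (alphaM (rho M))⁻¹) := by
    intro a b hab ha2 ha3 hb2 hb3 t m'
    refine Cfsg.Agent.Lib.Lead.SL_transvection_induction
      (fun m' => Commute (Matrix.SpecialLinearGroup.transvection hab t)
        (alphaM (rho M) * betaM M (emb23 m') * (alphaM (rho M))⁻¹)) ?_ ?_ m'
    · intro k l h c
      show Commute _ (alphaM (rho M) * betaM M (emb23 (Matrix.SpecialLinearGroup.transvection h c)) *
        (alphaM (rho M))⁻¹)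
      rcases slnmg5_tv2 k l h c with e | e
      · rw [e, emb23_xU, hMG0b, hMG0a]
        apply slnmg5_tv_comm
        · rw [slnmg5_rho1]; exact ha3
        · rw [slnmg5_rho0]; exact hb2
      · rw [e, emb23_xL, hMG0b, hMG0a]
        apply slnmg5_tv_comm
        · rw [slnmg5_rho0]; exact ha2
        · rw [slnmg5_rho1]; exact hb3
    · intro A B hA hB
      show Commute _ (alphaM (rho M) * betaM M (emb23 (A * B)) * (alphaM (rho M))⁻¹)
      have h : alphaM (rho M) * betaM M (emb23 (A * B)) * (alphaM (rho M))⁻¹ =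
          (alphaM (rho M) * betaM M (emb23 A) * (alphaM (rho M))⁻¹) *
            (alphaM (rho M) * betaM M (emb23 B) * (alphaM (rho M))⁻¹) := by
        rw [map_mul, map_mul]
        group
      rw [h]
      exact hA.mul_right hB
  -- step B: induction on `m`
  refine Cfsg.Agent.Lib.Lead.SL_transvection_induction
    (fun m => Commute (betaM M (emb23 m)) (alphaM (rho M) * betaM M (emb23 m') * (alphaM (rho M))⁻¹)) ?_ ?_ m
  · intro k l h c
    show Commute (betaM M (emb23 (Matrix.SpecialLinearGroup.transvection h c))) _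
    rcases slnmg5_tv2 k l h c with e | e
    · rw [e, emb23_xU, hMG0b]
      exact stepA _ _ _ (i02 M) (i03 M) (i12 M) (i13 M) c m'
    · rw [e, emb23_xL, hMG0b]
      exact stepA _ _ _ (i12 M) (i13 M) (i02 M) (i03 M) c m'
  · intro A B hA hB
    show Commute (betaM M (emb23 (A * B))) _
    rw [map_mul, map_mul]
    exact hA.mul_left hB

end MG

end Cfsg.Agent.Lib.Helper1.SLN
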