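import Mathlib
import Cfsg.Agent.Lib.Helper1.PLK.Defs
import Cfsg.Agent.Lib.Helper1.SLKD2

/-!
# Project PLK (S2480), row U4a (verbatim): the kernel of `g` on `F[X]/(g f)` has dimension `deg g`
(helper12).
-/

set_option autoImplicit false

namespace Cfsg.Agent.Lib.Helper1.PLK

open Polynomial
open Cfsg.Agent.Lib.Helper29.GLK
open Cfsg.Agent.Lib.Helper1.SLK

universe u

/-- the kernel of `g` on `F[X]/(g f)` is the range of `slkd2_j g f` -/
theorem plku4a_ker {F : Type u} [Field F] (f g : F[X]) (hg : g ≠ 0) :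
    LinearMap.ker (sm g (F[X] ⧸ Ideal.span {g * f})) =
      LinearMap.range ((slkd2_j g f).restrictScalars F) := by
  ext y
  obtain ⟨h, rfl⟩ := Ideal.Quotient.mk_surjective y
  rw [LinearMap.mem_ker, sm_apply, LinearMap.mem_range]
  have e : g • (Ideal.Quotient.mk (Ideal.span {g * f}) h) =
      Ideal.Quotient.mk (Ideal.span {g * f}) (g * h) := rfl
  rw [e, Ideal.Quotient.eq_zero_iff_mem, Ideal.mem_span_singleton]
  constructor
  · rintro ⟨c, hc⟩
    have hh : h = f * c := mul_left_cancel₀ hg (by rw [hc]; ring)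
    refine ⟨Ideal.Quotient.mk _ c, ?_⟩
    show slkd2_j g f (Ideal.Quotient.mk _ c) = _
    rw [slkd2_j_mk, hh]
  · rintro ⟨z, hz⟩
    obtain ⟨c, rfl⟩ := Ideal.Quotient.mk_surjective z
    have hz' : slkd2_j g f (Ideal.Quotient.mk _ c) = Ideal.Quotient.mk _ h := hz
    rw [slkd2_j_mk, Ideal.Quotient.eq, Ideal.mem_span_singleton] at hz'
    obtain ⟨d, hd⟩ := hz'
    refine ⟨c - g * d, ?_⟩
    linear_combination (-g) * hd

theorem finrank_ker_quot_mul {F : Type u} [Field F] (f g : F[X]) (hf : f ≠ 0) (hg : g ≠ 0) :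
    Module.finrank F (LinearMap.ker (sm g (F[X] ⧸ Ideal.span {g * f}))) = g.natDegree := by
  rw [plku4a_ker f g hg, LinearMap.finrank_range_of_inj, finrank_quotient_span_eq_natDegree]
  exact slkd2_j_injective g f hf

end Cfsg.Agent.Lib.Helper1.PLK
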