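import Cfsg.Agent.Lib.Helper19.MOD.Basic
import Cfsg.Agent.Lib.Helper26.MODG12

/-!
# MOD (block of project PSU, S2291; designer helper19): block G rows G1 - G11 and G13, VERBATIM vs `Helper19/MOD/Skel.lean.txt`

`Hgen` is the definition of the skeleton.  The facts `dd_zero dd_smul dd_inh dd_inh_inv` of `helper2.SUnP2` carry a `Fintype F` instance (section variable),
which the rows do not have: they are reproved here without it (`modg_dd_*`).
-/

set_option autoImplicit false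

namespace Cfsg.Agent.Lib.Helper19.MOD

open Matrix Cfsg.Agent.Lib.helper15.SUn Cfsg.Agent.Lib.helper3.STC Cfsg.Agent.Lib.Helper27.STU
  Cfsg.Agent.Lib.helper15.St2

universe u

section ddcalc

variable {F : Type*} [Field F] {n : ℕ} {q : ℕ} {σ : F ≃+* F}

theorem modg_dd_zero (H : Subgroup ↥(Cfsg.SU n F q)) : (0 : Fin n → F) ∈ DD σ H := by
  refine ⟨herm_zero_left _, fun c _ => ?_⟩
  have h1 : TV σ (0 : Fin n → F) c = 1 := by
    unfold TV
    rw [R_zero_left, smul_zero, add_zero]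
  rw [h1]
  exact InH.one

theorem modg_dd_smul (hσ : ∀ x, σ x = x ^ q)
    (hf : Cfsg.Geo.IsUnitaryForm σ (Cfsg.hermForm n F q)) {H : Subgroup ↥(Cfsg.SU n F q)}
    {y : Fin n → F} (hy : y ∈ DD σ H) (k : F) : k • y ∈ DD σ H := by
  obtain ⟨hy0, hyT⟩ := hy
  refine ⟨?_, fun c hc => ?_⟩
  · rw [herm_smul_left, herm_smul_right hσ, hy0, mul_zero, mul_zero]
  · rw [TV_smul]
    apply hyT
    rw [map_mul, map_mul, hf.involutive, hc]
    ring

theorem modg_inh_conj_TV (hσ : ∀ x, σ x = x ^ q) {H : Subgroup ↥(Cfsg.SU n F q)}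
    {M : Matrix (Fin n) (Fin n) F} (hM : InH H M) {y : Fin n → F} {c : F}
    (hT : InH H (TV σ y c)) : InH H (TV σ (M *ᵥ y) c) := by
  obtain ⟨A, hA, rfl⟩ := hM
  have hMi := su_mul_inv A
  have h1 := conj_TV hσ hMi (su_iso A) y c
  rw [← h1]
  exact ((InH.of_mem hA).mul hT).mul (InH.of_mem (H.inv_mem hA))

theorem modg_dd_inh (hσ : ∀ x, σ x = x ^ q) {H : Subgroup ↥(Cfsg.SU n F q)}
    {y : Fin n → F} (hy : y ∈ DD σ H) {M : Matrix (Fin n) (Fin n) F} (hM : InH H M) :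
    M *ᵥ y ∈ DD σ H := by
  obtain ⟨hy0, hyT⟩ := hy
  refine ⟨?_, fun c hc => modg_inh_conj_TV hσ hM (hyT c hc)⟩
  obtain ⟨A, _, rfl⟩ := hM
  rw [su_iso A, hy0]

theorem modg_dd_inh_inv (hσ : ∀ x, σ x = x ^ q) {H : Subgroup ↥(Cfsg.SU n F q)}
    {y : Fin n → F} {M : Matrix (Fin n) (Fin n) F} (hM : InH H M) (hy : M *ᵥ y ∈ DD σ H) :
    y ∈ DD σ H := by
  obtain ⟨A, hA, rfl⟩ := hM
  have h1 := modg_dd_inh hσ hy (InH.of_mem (H.inv_mem hA))
  rwa [Matrix.mulVec_mulVec, su_inv_mul, Matrix.one_mulVec] at h1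

end ddcalc

section rows

variable {F : Type*} [Field F] [StarRing F] {n q m : ℕ} {od : Prop} (C : Ctx F n q m od)

/-- the subgroup generated by the root elements -/
def Hgen : Subgroup ↥(Cfsg.SU n F q) :=
  Subgroup.closure ({g | ∃ a b t, a ≠ b ∧ a ≠ ng b ∧ g = C.xsE a b t} ∪ {g | ∃ a ξ, g = C.xlE a ξ})

/-- G1 [S] -/
theorem inh_xs (a b : Fin m ⊕ Fin m) (hab : a ≠ b) (hab' : a ≠ ng b) (t : F) : InH (Hgen C) (C.xsM a b t) :=
  ⟨C.xsE a b t, Subgroup.subset_closure (Or.inl ⟨a, b, t, hab, hab', rfl⟩), C.coe_xsE hab t⟩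

/-- G2 [S] -/
theorem inh_xl (a : Fin m ⊕ Fin m) (ξ : Lam F od) : InH (Hgen C) (C.xlM a ξ) :=
  ⟨C.xlE a ξ, Subgroup.subset_closure (Or.inr ⟨a, ξ, rfl⟩), C.coe_xlE a ξ⟩

/-- G3 [S]  (`TV σ (fr a) c = xlM a ⟨0, c, _, _⟩`) -/
theorem fr_mem_dd (a : Fin m ⊕ Fin m) : C.fr a ∈ DD C.σ (Hgen C) := by
  refine ⟨C.gram_self a, fun c hc => ?_⟩
  have hξ : c + star c + (0 : F) * star (0 : F) = 0 := by
    rw [C.hs, hc]
    ring
  have h := inh_xl C a ⟨0, c, hξ, fun _ => rfl⟩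
  have e : C.xlM a ⟨0, c, hξ, fun _ => rfl⟩ = TV C.σ (C.fr a) c := by
    unfold Ctx.xlM Eh TV
    simp only [map_zero, zero_smul, R_zero_left, R_zero_right, add_zero, sub_zero]
  rwa [e] at h

/-- G4 [S]  the coordinates of `xsM a b t *ᵥ x` -/
theorem co_xs (a b : Fin m ⊕ Fin m) (hab : a ≠ b) (hab' : a ≠ ng b) (t : F) (x : Fin n → F) (c : Fin m ⊕ Fin m) :
    C.co (C.xsM a b t *ᵥ x) c = C.co x c + (if c = a then t * C.co x b else 0) -
      (if c = ng b then C.σ t * C.co x (ng a) else 0) := by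
  unfold Ctx.co
  rw [C.xsM_mulVec, herm_sub_left, herm_add_left, herm_smul_left, herm_smul_left, C.gram, C.gram]
  simp only [ng_inj, ng_eq_iff, ng_ng]
  split_ifs <;> ring

/-- G5 [S] -/
theorem cd_xs (a b : Fin m ⊕ Fin m) (hab : a ≠ b) (hab' : a ≠ ng b) (t : F) (x : Fin n → F) :
    C.cd (C.xsM a b t *ᵥ x) = C.cd x := by
  unfold Ctx.cd
  rw [C.xsM_mulVec, herm_sub_left, herm_add_left, herm_smul_left, herm_smul_left, C.gram_fd, C.gram_fd]
  ring

/-- G6 [S]  the coordinates of `xlM a ξ *ᵥ x` -/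
theorem co_xl (a : Fin m ⊕ Fin m) (ξ : Lam F od) (x : Fin n → F) (c : Fin m ⊕ Fin m) :
    C.co (C.xlM a ξ *ᵥ x) c = C.co x c + (if c = a then ξ.v * C.cd x + ξ.c * C.co x (ng a) else 0) := by
  unfold Ctx.co Ctx.cd
  rw [C.xlM_mulVec, herm_sub_left, herm_add_left, herm_smul_left, herm_smul_left, C.gram, C.gram_d, ng_ng]
  simp only [ng_inj]
  split_ifs <;> ring

/-- G7 [S] -/
theorem cd_xl (a : Fin m ⊕ Fin m) (ξ : Lam F od) (x : Fin n → F) :
    C.cd (C.xlM a ξ *ᵥ x) = C.cd x - C.σ ξ.v * C.co x (ng a) * Cfsg.hermForm n F q C.dv C.dv := by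
  unfold Ctx.co Ctx.cd
  rw [C.xlM_mulVec, herm_sub_left, herm_add_left, herm_smul_left, herm_smul_left, C.gram_fd, ng_ng]
  ring

/-- G8 [S]  (`C.span`) -/
theorem eq_of_co {x : Fin n → F} {p : Fin m ⊕ Fin m} (h1 : ∀ b, b ≠ p → C.co x b = 0) (h2 : C.cd x = 0) :
    x = C.co x p • C.fr p := by
  have h := C.span x
  have hs : ∑ a, Cfsg.hermForm n F q x (C.fr (ng a)) • C.fr a = C.co x p • C.fr p := by
    rw [Finset.sum_eq_single p]
    · rfl
    · intro b _ hb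
      have := h1 b hb
      unfold Ctx.co at this
      rw [this, zero_smul]
    · intro hp
      exact absurd (Finset.mem_univ p) hp
  have h2' : Cfsg.hermForm n F q x C.dv = 0 := h2
  rw [hs, h2', zero_smul, add_zero] at h
  exact h

/-- G9 [S]  the form in coordinates, for a vector with only three coordinates -/
theorem herm_co {x : Fin n → F} {p : Fin m ⊕ Fin m} (h1 : ∀ b, b ≠ p → b ≠ ng p → C.co x b = 0) :
    Cfsg.hermForm n F q x x = C.co x p * C.σ (C.co x (ng p)) + C.co x (ng p) * C.σ (C.co x p) + C.cd x * C.σ (C.cd x) := by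
  have h := C.span x
  have hs : ∑ a, Cfsg.hermForm n F q x (C.fr (ng a)) • C.fr a = C.co x p • C.fr p + C.co x (ng p) • C.fr (ng p) := by
    rw [Finset.sum_eq_add p (ng p) (ne_ng p)]
    · rfl
    · intro b _ hb
      have := h1 b hb.1 hb.2
      unfold Ctx.co at this
      rw [this, zero_smul]
    · intro hp
      exact absurd (Finset.mem_univ p) hp
    · intro hp
      exact absurd (Finset.mem_univ _) hp
  rw [hs] at h
  have e : Cfsg.hermForm n F q x x =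
      Cfsg.hermForm n F q x (C.co x p • C.fr p + C.co x (ng p) • C.fr (ng p) + C.cd x • C.dv) := by
    have h' : C.co x p • C.fr p + C.co x (ng p) • C.fr (ng p) + C.cd x • C.dv = x := h.symm
    rw [h']
  rw [e, herm_add_right C.hσ, herm_add_right C.hσ, herm_smul_right C.hσ, herm_smul_right C.hσ, herm_smul_right C.hσ]
  have e1 : Cfsg.hermForm n F q x (C.fr p) = C.co x (ng p) := by
    unfold Ctx.co
    rw [ng_ng]
  rw [e1]
  unfold Ctx.co Ctx.cd
  ring

/-- G10 [M]  clearing the coordinates `b ≠ ± p` with the `xs b p t` (induction on the finite set `T`) -/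
theorem clear (y : Fin n → F) (p : Fin m ⊕ Fin m) (hp : C.co y p ≠ 0) (T : Finset (Fin m ⊕ Fin m))
    (hT : ∀ b ∈ T, b ≠ p ∧ b ≠ ng p) :
    ∃ M : Matrix (Fin n) (Fin n) F, InH (Hgen C) M ∧ C.co (M *ᵥ y) p = C.co y p ∧ ∀ b ∈ T, C.co (M *ᵥ y) b = 0 := by
  classical
  induction T using Finset.induction_on with
  | empty =>
    exact ⟨1, InH.one, by rw [Matrix.one_mulVec], fun b hb => absurd hb (Finset.notMem_empty b)⟩
  | insert b₀ T hb₀ ih =>
    obtain ⟨M, hM, hMp, hMT⟩ := ih (fun b hb => hT b (Finset.mem_insert_of_mem hb))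
    obtain ⟨hb1, hb2⟩ := hT b₀ (Finset.mem_insert_self b₀ T)
    have hp' : C.co (M *ᵥ y) p ≠ 0 := by rw [hMp]; exact hp
    refine ⟨C.xsM b₀ p (-(C.co (M *ᵥ y) b₀) / C.co (M *ᵥ y) p) * M, (inh_xs C b₀ p hb1 hb2 _).mul hM, ?_, ?_⟩
    · rw [← Matrix.mulVec_mulVec, co_xs C b₀ p hb1 hb2, if_neg hb1.symm, if_neg (ne_ng p), hMp]
      ring
    · intro b hb
      rw [← Matrix.mulVec_mulVec, co_xs C b₀ p hb1 hb2]
      rcases Finset.mem_insert.1 hb with rfl | hbT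
      · rw [if_pos rfl, if_neg hb2]
        field_simp
        ring
      · have hbb : b ≠ b₀ := fun h => hb₀ (h ▸ hbT)
        rw [if_neg hbb, if_neg (hT b hb).2, hMT b hbT]
        ring

/-- G11 [M]  the last step: `xl (ng p) ξ` clears the coordinates `ng p` and `dv` -/
theorem clear_last (y : Fin n → F) (hy : Cfsg.hermForm n F q y y = 0) (p : Fin m ⊕ Fin m) (hp : C.co y p ≠ 0)
    (h1 : ∀ b, b ≠ p → b ≠ ng p → C.co y b = 0) :
    ∃ ξ : Lam F od, C.xlM (ng p) ξ *ᵥ y = C.co y p • C.fr p := by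
  have hB : C.co y p * C.σ (C.co y (ng p)) + C.co y (ng p) * C.σ (C.co y p) + C.cd y * C.σ (C.cd y) = 0 := by
    rw [← herm_co C h1, hy]
  have hσP : C.σ (C.co y p) ≠ 0 := (map_ne_zero C.σ).2 hp
  have hD0 : ¬ od → C.cd y = 0 := fun h => by
    unfold Ctx.cd
    rw [C.dv0 h, herm_zero_right C.hσ]
  have hh : -(C.co y (ng p) + C.σ (C.cd y / C.co y p) * C.cd y) / C.co y p +
      star (-(C.co y (ng p) + C.σ (C.cd y / C.co y p) * C.cd y) / C.co y p) +
      C.σ (C.cd y / C.co y p) * star (C.σ (C.cd y / C.co y p)) = 0 := by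
    rw [C.hs, C.hs]
    simp only [map_div₀, map_neg, map_add, map_mul, C.σσ]
    field_simp
    linear_combination (-1 : F) * hB
  have hv : ¬ od → C.σ (C.cd y / C.co y p) = 0 := fun h => by
    rw [hD0 h, zero_div, map_zero]
  refine ⟨⟨C.σ (C.cd y / C.co y p), -(C.co y (ng p) + C.σ (C.cd y / C.co y p) * C.cd y) / C.co y p, hh, hv⟩, ?_⟩
  have hz := eq_of_co C (x := C.xlM (ng p) ⟨C.σ (C.cd y / C.co y p),
    -(C.co y (ng p) + C.σ (C.cd y / C.co y p) * C.cd y) / C.co y p, hh, hv⟩ *ᵥ y) (p := p) ?_ ?_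
  · rw [co_xl, if_neg (ne_ng p), add_zero] at hz
    exact hz
  · intro b hb
    rw [co_xl]
    by_cases hbn : b = ng p
    · rw [if_pos hbn, hbn, ng_ng]
      show C.co y (ng p) + (C.σ (C.cd y / C.co y p) * C.cd y +
        -(C.co y (ng p) + C.σ (C.cd y / C.co y p) * C.cd y) / C.co y p * C.co y p) = 0
      field_simp
      ring
    · rw [if_neg hbn, h1 b hb hbn, add_zero]
  · rw [cd_xl, ng_ng]
    show C.cd y - C.σ (C.σ (C.cd y / C.co y p)) * C.co y p * Cfsg.hermForm n F q C.dv C.dv = 0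
    rw [C.σσ]
    by_cases hod : od
    · rw [C.gram_dd hod]
      field_simp
      ring
    · rw [hD0 hod]
      simp

/-- G13 [M]  all isotropic vectors are in `DD` -/
theorem iso_mem_dd (y : Fin n → F) (hy : Cfsg.hermForm n F q y y = 0) : y ∈ DD C.σ (Hgen C) := by
  classical
  by_cases hy0 : y = 0
  · rw [hy0]
    exact modg_dd_zero _
  obtain ⟨p, hp⟩ := exists_co_ne C y hy hy0
  obtain ⟨M, hM, hMp, hMT⟩ := clear C y p hp (Finset.univ.filter (fun b => b ≠ p ∧ b ≠ ng p))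
    (fun b hb => (Finset.mem_filter.1 hb).2)
  have hy' : Cfsg.hermForm n F q (M *ᵥ y) (M *ᵥ y) = 0 := by
    obtain ⟨A, _, rfl⟩ := hM
    rw [su_iso A, hy]
  have hp' : C.co (M *ᵥ y) p ≠ 0 := by rw [hMp]; exact hp
  obtain ⟨ξ, hξ⟩ := clear_last C (M *ᵥ y) hy' p hp'
    (fun b hb hb' => hMT b (Finset.mem_filter.2 ⟨Finset.mem_univ b, hb, hb'⟩))
  apply modg_dd_inh_inv C.hσ hM
  apply modg_dd_inh_inv C.hσ (inh_xl C (ng p) ξ)
  rw [hξ]
  exact modg_dd_smul C.hσ C.hf (fr_mem_dd C p) _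

end rows

end Cfsg.Agent.Lib.Helper19.MOD
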