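import Mathlib
import Cfsg.Agent.Lib.Helper10.TEM.Defs

/-!
# Project TEM (helper10, S2191), row G1 (`nO_mem_G1`), verbatim, by helper12.
-/

set_option autoImplicit false

namespace Cfsg.Agent.Lib.Helper10.TEM

open Cfsg.Lie Cfsg.Lie.ChevalleyDatum Matrix
open Cfsg.Agent.Lib.helper8

universe u

variable {K : Type u} [Field K] {q : ℕ} {f : K ≃+* K} {M H : Subgroup (GG K)}

/-- the element of the `k`-th orbit word lies in `G¹` -/
theorem temg1_orbW_mem (hF : Frob q f) (k : ℕ) : (nW (orbW k) : GG K) ∈ twistedE6 K q := by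
  have h := h8twE6_nJ (K := K) hB hC q hF.neg
  unfold nW
  match k with
  | 0 => exact h [⟨1, by decide⟩] (by simp [h8orbsE6])
  | 1 => exact h [⟨3, by decide⟩] (by simp [h8orbsE6])
  | 2 => exact h [⟨2, by decide⟩, ⟨4, by decide⟩] (by simp [h8orbsE6])
  | (n + 3) => exact h [⟨0, by decide⟩, ⟨5, by decide⟩] (by simp [h8orbsE6])

-- ROW G1  [S]  `h8tw_nWU_flat` + `h8twE6_nJ` (`orbW k` is the word of `h8orbsE6.getD k []`).
theorem nO_mem_G1 (hF : Frob q f) (l : List ℕ) : (nO l : GG K) ∈ twistedE6 K q := by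
  induction l with
  | nil =>
    have : (nO [] : GG K) = 1 := by
      unfold nO nW flatO h8nWU
      simp
    rw [this]
    exact Subgroup.one_mem _
  | cons k l ih =>
    have : (nO (k :: l) : GG K) = nW (orbW k) * nO l := by
      unfold nO nW flatO
      rw [List.flatMap_cons, h8nWU_append]
    rw [this]
    exact Subgroup.mul_mem _ (temg1_orbW_mem hF k) ih

end Cfsg.Agent.Lib.Helper10.TEM
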