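import Mathlib
import Cfsg.Agent.Lib.Helper25.BGL.PCDefs
import Cfsg.Agent.Lib.Helper10.BGL.Bridge
import Cfsg.Agent.Lib.helper8.ChevK
import Cfsg.Agent.Lib.helper8.ChevCent1
import Cfsg.Agent.Lib.helper8.ChevCommAll
import Cfsg.Agent.Lib.helper8.ChevOrd
import Cfsg.Agent.Lib.helper8.ChevBN3

/-!
# Project BGL (block SE, designer helper25), row SE05 `se_six`: CORE

The element `x_ρ(1) x_b(1) x_{-ρ}(1)` of order 6 in characteristic 2.  Hypotheses: the statements of PC01 `pc_tab`, SE04 `se_orth_tab`, PA02 `pa_phi`.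
-/

set_option autoImplicit false

namespace Cfsg.Agent.Lib.Helper10.BGL

open Cfsg.Lie Cfsg.Lie.ChevalleyDatum Cfsg.Agent.Lib.helper8

universe u

variable {K : Type u} [Field K]

/-- the entry `(r, -r)` of `x_r(t)` is `-t²` -/
theorem bglse05_entry_neg (D : ChevalleyDatum) (r : ℕ) (hr : r < D.nroots) (s : ℕ) (hs : s < D.nroots)
    (hsn : s = D.negIdx.getD r 0) (hne : s ≠ r) (t : K) :
    D.x K r t (Sum.inr ⟨r, hr⟩) (Sum.inr ⟨s, hs⟩) = -(t ^ 2) := by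
  subst hsn
  unfold ChevalleyDatum.x
  rw [dif_pos hr]
  unfold ChevalleyDatum.xMat
  have h1 : (⟨D.negIdx.getD r 0, hs⟩ : Fin D.nroots) ≠ ⟨r, hr⟩ := fun h => hne (Fin.mk.inj_iff.1 h)
  simp only [Matrix.of_apply]
  rw [if_neg h1]
  simp only [if_true, if_neg h1.symm]

/-- the entry `(u, r)` of `x_r(t)` -/
theorem bglse05_entry_col (D : ChevalleyDatum) (r : ℕ) (hr : r < D.nroots) (u : Fin D.nroots) (t : K) :
    D.x K r t (Sum.inr u) (Sum.inr ⟨r, hr⟩) = if u = ⟨r, hr⟩ then 1 else 0 := by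
  unfold ChevalleyDatum.x
  rw [dif_pos hr]
  unfold ChevalleyDatum.xMat
  simp only [Matrix.of_apply, if_true]

theorem bglse05_x_ne_one (D : ChevalleyDatum) (hD : Seven D) (r : ℕ) (hr : r < D.nroots)
    (hn : D.negIdx.getD r 0 < D.nroots) (hne : D.negIdx.getD r 0 ≠ r) : xg D hD r (1 : K) ≠ 1 := by
  intro h
  have h1 := congrArg (fun g : GL D.Idx K => (g : Matrix D.Idx D.Idx K) (Sum.inr ⟨r, hr⟩)
    (Sum.inr ⟨D.negIdx.getD r 0, hn⟩)) h
  simp only [xg_val, bglse05_entry_neg D r hr _ hn rfl hne] at h1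
  have h2 : ((1 : GL D.Idx K) : Matrix D.Idx D.Idx K) (Sum.inr ⟨r, hr⟩) (Sum.inr ⟨D.negIdx.getD r 0, hn⟩) = 0 := by
    rw [Units.val_one, Matrix.one_apply_ne]
    intro h'
    exact hne (Fin.mk.inj_iff.1 (Sum.inr_injective h')).symm
  rw [h2] at h1
  simp at h1

theorem bglse05_sq (D : ChevalleyDatum) (hD : Seven D) [CharP K 2] (r : ℕ) (hr : r < D.nroots) :
    xg D hD r (1 : K) * xg D hD r 1 = 1 := by
  unfold xg
  rw [h8xU_add D _ r hr, CharTwo.add_self_eq_zero, h8xU_zero]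

theorem bglse05_sl2 [CharP K 2] : (sx (1 : K) * sy 1) ^ 3 = 1 := by
  have h2 : (1 : K) + 1 = 0 := CharTwo.add_self_eq_zero 1
  apply Subtype.ext
  rw [Matrix.SpecialLinearGroup.coe_pow, Matrix.SpecialLinearGroup.coe_mul]
  show (!![1, 1; 0, 1] * !![1, 0; 1, 1] : Matrix (Fin 2) (Fin 2) K) ^ 3 = 1
  have e : (!![1, 1; 0, 1] * !![1, 0; 1, 1] : Matrix (Fin 2) (Fin 2) K) = !![0, 1; 1, 1] := by
    rw [Matrix.mul_fin_two]
    simp [h2]
  rw [e, pow_succ, pow_succ, pow_one, Matrix.mul_fin_two, Matrix.mul_fin_two, Matrix.one_fin_two]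
  simp [h2]

/-- SE05, core -/
theorem bglse05_core [Finite K] [CharP K 2] (D : ChevalleyDatum) (hD : Seven D)
    (hPC : 2 ≤ D.nroots ∧ D.negIdx.getD (D.nroots - 1) 0 = 0 ∧ D.negIdx.getD 0 0 = D.nroots - 1 ∧
      D.IsPosRoot (D.nroots - 1) ∧ isLong D (D.nroots - 1) ∧ ReflStable D (isLong D))
    (hSE : bglOrth D < D.nroots ∧ D.IsPosRoot (bglOrth D) ∧ bglOrth D ≠ D.nroots - 1 ∧ bglOrth D ≠ 0 ∧
      D.commTerms (D.nroots - 1) (bglOrth D) = [] ∧ D.commTerms 0 (bglOrth D) = [] ∧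
      D.negIdx.getD (bglOrth D) 0 < D.nroots ∧ D.negIdx.getD (bglOrth D) 0 ≠ bglOrth D)
    (hPA : ∃ φ : Matrix.SpecialLinearGroup (Fin 2) K →* GL D.Idx K,
      (∀ t : K, φ (sx t) = xg D hD (D.nroots - 1) t) ∧ (∀ t : K, φ (sy t) = xg D hD 0 t) ∧
      (∀ (t : K) (ht : t ≠ 0), φ (sd t ht) = hg D hD (D.nroots - 1) t)) :
    orderOf (xg D hD (D.nroots - 1) (1 : K)) = 2 ∧
    orderOf (xg D hD (D.nroots - 1) (1 : K) * xg D hD (bglOrth D) 1) = 2 ∧
    orderOf (xg D hD 0 (1 : K)) = 2 ∧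
    (xg D hD (D.nroots - 1) (1 : K) * xg D hD (bglOrth D) 1 * xg D hD 0 1) ^ 4 ≠ 1 ∧
    ¬ Odd (orderOf (xg D hD (D.nroots - 1) (1 : K) * xg D hD (bglOrth D) 1 * xg D hD 0 1)) := by
  obtain ⟨h2n, hnρ, hn0, -, -, -⟩ := hPC
  obtain ⟨hb, -, hbρ, hb0, hcρ, hc0, hnb, hnbne⟩ := hSE
  obtain ⟨φ, hφx, hφy, -⟩ := hPA
  have hρ : D.nroots - 1 < D.nroots := by omega
  have h0 : 0 < D.nroots := by omega
  have hXX : xg D hD (D.nroots - 1) (1 : K) * xg D hD (D.nroots - 1) 1 = 1 := bglse05_sq D hD _ hρ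
  have hYY : xg D hD 0 (1 : K) * xg D hD 0 1 = 1 := bglse05_sq D hD _ h0
  have hBB : xg D hD (bglOrth D) (1 : K) * xg D hD (bglOrth D) 1 = 1 := bglse05_sq D hD _ hb
  have hX1 : xg D hD (D.nroots - 1) (1 : K) ≠ 1 :=
    bglse05_x_ne_one D hD _ hρ (by rw [hnρ]; exact h0) (by rw [hnρ]; omega)
  have hY1 : xg D hD 0 (1 : K) ≠ 1 :=
    bglse05_x_ne_one D hD _ h0 (by rw [hn0]; exact hρ) (by rw [hn0]; omega)
  have hB1 : xg D hD (bglOrth D) (1 : K) ≠ 1 := bglse05_x_ne_one D hD _ hb hnb hnbne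
  have hBX : xg D hD (bglOrth D) (1 : K) * xg D hD (D.nroots - 1) 1 =
      xg D hD (D.nroots - 1) 1 * xg D hD (bglOrth D) 1 :=
    h8comm_of_zero D (h8base_all.{u} D hD) (h8commAll.{u} D hD) (D.nroots - 1) (bglOrth D) hρ hb
      (by rw [hnρ]; exact hb0) (fun _ c hc => by rw [hcρ] at hc; exact absurd hc (List.not_mem_nil)) 1 1
  have hBY : xg D hD (bglOrth D) (1 : K) * xg D hD 0 1 = xg D hD 0 1 * xg D hD (bglOrth D) 1 :=
    h8comm_of_zero D (h8base_all.{u} D hD) (h8commAll.{u} D hD) 0 (bglOrth D) h0 hb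
      (by rw [hn0]; exact hbρ) (fun _ c hc => by rw [hc0] at hc; exact absurd hc (List.not_mem_nil)) 1 1
  generalize hX : xg D hD (D.nroots - 1) (1 : K) = X at *
  generalize hY : xg D hD 0 (1 : K) = Y at *
  generalize hB : xg D hD (bglOrth D) (1 : K) = B at *
  -- `a = X * Y`
  have ha3 : (X * Y) ^ 3 = 1 := by
    have h1 : X * Y = φ (sx 1 * sy 1) := by rw [map_mul, hφx, hφy, hX, hY]
    rw [h1, ← map_pow, bglse05_sl2, map_one]
  have hXY : X ≠ Y := by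
    intro h
    have h1 := congrArg (fun g : GL D.Idx K => (g : Matrix D.Idx D.Idx K) (Sum.inr ⟨D.nroots - 1, hρ⟩)
      (Sum.inr ⟨0, h0⟩)) h
    simp only [← hX, ← hY, xg_val] at h1
    rw [bglse05_entry_neg D _ hρ 0 h0 hnρ.symm (by omega), bglse05_entry_col D 0 h0] at h1
    rw [if_neg (by intro h'; have := Fin.mk.inj_iff.1 h'; omega)] at h1
    simp at h1
  have hYinv : Y⁻¹ = Y := inv_eq_of_mul_eq_one_left hYY
  have hXinv : X⁻¹ = X := inv_eq_of_mul_eq_one_left hXX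
  have ha1 : X * Y ≠ 1 := by
    intro h
    apply hXY
    rw [← hYinv]
    exact eq_inv_of_mul_eq_one_left h
  have hcomm : Commute (X * Y) B := by
    show X * Y * B = B * (X * Y)
    rw [← mul_assoc, hBX, mul_assoc, mul_assoc, hBY]
  have hw : X * B * Y = X * Y * B := by rw [mul_assoc, hBY, ← mul_assoc]
  have hB2 : B ^ 2 = 1 := by rw [pow_two, hBB]
  refine ⟨orderOf_eq_prime (by rw [pow_two, hXX]) hX1, orderOf_eq_prime ?_ ?_,
    orderOf_eq_prime (by rw [pow_two, hYY]) hY1, ?_, ?_⟩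
  · rw [pow_two, mul_assoc, ← mul_assoc B, hBX, mul_assoc, hBB, mul_one, hXX]
  · intro h
    have hBe : B = X := by
      rw [← hXinv]
      exact eq_inv_of_mul_eq_one_right h
    rw [hBe] at hBY
    apply ha1
    have h2 : (X * Y) ^ 2 = 1 := by
      rw [pow_two, mul_assoc, ← mul_assoc Y, ← hBY, mul_assoc, hYY, mul_one, hXX]
    have h3 : (X * Y) ^ 3 = (X * Y) ^ 2 * (X * Y) := pow_succ _ _
    rw [ha3, h2, one_mul] at h3
    exact h3.symm
  · rw [hw, hcomm.mul_pow]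
    have h4 : B ^ 4 = 1 := by
      have : B ^ 4 = (B ^ 2) ^ 2 := by rw [← pow_mul]
      rw [this, hB2, one_pow]
    have h5 : (X * Y) ^ 4 = X * Y := by
      have : (X * Y) ^ 4 = (X * Y) ^ 3 * (X * Y) := pow_succ _ _
      rw [this, ha3, one_mul]
    rw [h4, h5, mul_one]
    exact ha1
  · intro hodd
    rw [hw] at hodd
    have h6 : (X * Y * B) ^ 6 = 1 := by
      rw [hcomm.mul_pow]
      have h1 : (X * Y) ^ 6 = ((X * Y) ^ 3) ^ 2 := by rw [← pow_mul]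
      have h2 : B ^ 6 = (B ^ 2) ^ 3 := by rw [← pow_mul]
      rw [h1, h2, ha3, hB2, one_pow, one_pow, mul_one]
    have hd6 : orderOf (X * Y * B) ∣ 6 := orderOf_dvd_of_pow_eq_one h6
    have hcop : Nat.Coprime (orderOf (X * Y * B)) 2 := Nat.Coprime.symm (Nat.coprime_two_left.2 hodd)
    have hd3 : orderOf (X * Y * B) ∣ 3 := by
      have : orderOf (X * Y * B) ∣ 2 * 3 := hd6
      exact hcop.dvd_of_dvd_mul_left this
    have h3 : (X * Y * B) ^ 3 = 1 := orderOf_dvd_iff_pow_eq_one.1 hd3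
    rw [hcomm.mul_pow, ha3, one_mul] at h3
    apply hB1
    have : B ^ 3 = B ^ 2 * B := pow_succ _ _
    rw [this, hB2, one_mul] at h3
    exact h3

end Cfsg.Agent.Lib.Helper10.BGL
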