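import Mathlib
import Cfsg.Agent.Lib.helper14.BGL.SPDefs
import Cfsg.Agent.Lib.helper14.BGL.SPDefs2
import Cfsg.Agent.Lib.Helper10.BGL.Defs
import Cfsg.Agent.Lib.Helper10.BGL.Bridge
import Cfsg.Agent.Lib.helper8.ChevBaseAll
import Cfsg.Agent.Lib.helper8.ChevFix1
import Cfsg.Agent.Lib.Helper12.BGLSPO1

/-!
# Project BGL, block SP (designer helper14), row SPM5 `span_exc`: CORE

The exceptional assembly.  Hypotheses: the statements of M1 `top_diff_zero`, M2 `col_all_zero`, M3 `stabP_Lq`, R3 `row_NT`, E3 `NT_stab_group`, E4 `exc_eq_one`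
(specialised to the given `lam`, `p`, `a`, `h`).
-/

set_option autoImplicit false

namespace Cfsg.Agent.Lib.helper14.BGLSP

open Cfsg.Lie Cfsg.Lie.ChevalleyDatum Cfsg.Agent.Lib.helper8 Cfsg.Agent.Lib.Helper10.BGL Matrix

universe u

variable {K : Type u} [Field K] (D : ChevalleyDatum)

/-- M5, core -/
theorem bglspm5_core [Finite K] (p : ℕ) [Fact p.Prime] [CharP K p] (hp : p ≠ 2)
    (hD : D ∈ [chevG2, chevB2, chevD4, chevF4, chevE6, chevE7, chevE8]) {lam : List ℕ}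
    (hT : SPTab D lam) (a : ℕ) (h : GL D.Idx K) (hh : h ∈ D.group K)
    (hM1 : 0 < D.nroots → ∀ m ∈ Lq D K (p ^ a), ∀ m' ∈ Lq D K (p ^ a),
      rc D (((m : Matrix D.Idx D.Idx K) *
        (((h8Psi D ((sig (K := K) p a : K ≃+* K) : K →+* K) h : GL D.Idx K) : Matrix D.Idx D.Idx K) -
          (h : Matrix D.Idx D.Idx K))) *ᵥ ((m' : Matrix D.Idx D.Idx K) *ᵥ re D K (D.nroots - 1))) 0 = 0)
    (hM2 : (2 : K) ≠ 0 → (-1 : K) ^ (p ^ a) = -1 → ∀ Δ : Matrix D.Idx D.Idx K,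
      (∀ m ∈ Lq D K (p ^ a), ∀ m' ∈ Lq D K (p ^ a),
        rc D (((m : Matrix D.Idx D.Idx K) * Δ) *ᵥ ((m' : Matrix D.Idx D.Idx K) *ᵥ re D K (D.nroots - 1))) 0 = 0) →
      ∀ m ∈ Lq D K (p ^ a), ∀ v : D.Idx → K, rc D (((m : Matrix D.Idx D.Idx K) * Δ) *ᵥ v) 0 = 0)
    (hM3 : (-1 : K) ^ (p ^ a) = -1 →
      StabP D (fun w : D.Idx → K => ∀ m ∈ Lq D K (p ^ a), rc D ((m : Matrix D.Idx D.Idx K) *ᵥ w) 0 = 0) ∧
      ∀ w : D.Idx → K, (∀ m ∈ Lq D K (p ^ a), rc D ((m : Matrix D.Idx D.Idx K) *ᵥ w) 0 = 0) → rc D w 0 = 0)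
    (hR3 : ∀ {P : (D.Idx → K) → Prop}, StabP D P → (∀ w, P w → rc D w 0 = 0) → ∀ w, P w → w ∈ NT D K lam)
    (hE3 : ∀ {g : GL D.Idx K}, g ∈ D.group K → ∀ {w : D.Idx → K}, w ∈ NT D K lam →
      (g : Matrix D.Idx D.Idx K) *ᵥ w ∈ NT D K lam)
    (hE4 : (∃ a : K, a ≠ 0 ∧ a ≠ 1) → ∀ {c : GL D.Idx K}, c ∈ D.group K →
      (∀ v : D.Idx → K, ((c : Matrix D.Idx D.Idx K) - 1) *ᵥ v ∈ NT D K lam) → c = 1) :
    RatM D (p ^ a) (h : Matrix D.Idx D.Idx K) := by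
  obtain ⟨dep, par, horb⟩ := hT.orb
  have hn : 0 < D.nroots := (spOrb_spec D horb).1
  have h2 : (2 : K) ≠ 0 := by
    intro h2
    have h3 : ((2 : ℕ) : K) = 0 := by exact_mod_cast h2
    rw [CharP.cast_eq_zero_iff K p] at h3
    have hp2 : p = 2 := (Nat.prime_dvd_prime_iff_eq Fact.out Nat.prime_two).1 h3
    exact hp hp2
  have hodd : Odd (p ^ a) := by
    apply Odd.pow
    rcases (Fact.out : p.Prime).eq_two_or_odd' with h | h
    · exact absurd h hp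
    · exact h
  have hq2 : (-1 : K) ^ (p ^ a) = -1 := hodd.neg_one_pow
  set Ψ : GL D.Idx K := h8Psi D ((sig (K := K) p a : K ≃+* K) : K →+* K) h with hΨ
  set Δ : Matrix D.Idx D.Idx K := (Ψ : Matrix D.Idx D.Idx K) - (h : Matrix D.Idx D.Idx K) with hΔ
  have h1 := hM2 h2 hq2 Δ (hM1 hn)
  obtain ⟨hS, h0⟩ := hM3 hq2
  have hNT : ∀ v : D.Idx → K, Δ *ᵥ v ∈ NT D K lam := by
    intro v
    apply hR3 hS h0
    intro m hm
    rw [Matrix.mulVec_mulVec]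
    exact h1 m hm v
  have hB := h8base_all.{u} D hD
  have hΨg : Ψ ∈ D.group K := h8Psi_group_le D hB hB _ ⟨h, hh, rfl⟩
  have hc : h⁻¹ * Ψ ∈ D.group K := (D.group K).mul_mem ((D.group K).inv_mem hh) hΨg
  have hcN : ∀ v : D.Idx → K, (((h⁻¹ * Ψ : GL D.Idx K) : Matrix D.Idx D.Idx K) - 1) *ᵥ v ∈ NT D K lam := by
    intro v
    have e : (((h⁻¹ * Ψ : GL D.Idx K) : Matrix D.Idx D.Idx K) - 1) *ᵥ v =
        ((h⁻¹ : GL D.Idx K) : Matrix D.Idx D.Idx K) *ᵥ (Δ *ᵥ v) := by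
      rw [Matrix.mulVec_mulVec, hΔ, Matrix.mul_sub, Units.val_mul]
      have : ((h⁻¹ : GL D.Idx K) : Matrix D.Idx D.Idx K) * (h : Matrix D.Idx D.Idx K) = 1 := by
        rw [← Units.val_mul, inv_mul_cancel]
        rfl
      rw [this]
    rw [e]
    exact hE3 ((D.group K).inv_mem hh) (hNT v)
  have h3 : ∃ a : K, a ≠ 0 ∧ a ≠ 1 := by
    refine ⟨-1, by simp, ?_⟩
    intro h
    apply h2
    have : (2 : K) = 1 - (-1) := by ring
    rw [this, h, sub_self]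
  have hc1 := hE4 h3 hc hcN
  rw [ratM_iff]
  have : Ψ = h := by
    have := congrArg (fun x => h * x) hc1
    simpa using this
  exact this

end Cfsg.Agent.Lib.helper14.BGLSP
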