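import Mathlib
import Cfsg.Agent.Lib.helper14.BGL.SPDefs
import Cfsg.Agent.Lib.helper14.BGL.SPDefs2

/-!
# Project BGL, block SP (designer helper14), row SPR3 `row_NT`: CORE (hypotheses: the statements of R1 `row_lam`, R2 `row_alpha`)
-/

set_option autoImplicit false

namespace Cfsg.Agent.Lib.helper14.BGLSP

open Cfsg.Lie Cfsg.Lie.ChevalleyDatum Cfsg.Agent.Lib.helper8 Cfsg.Agent.Lib.Helper10.BGL Matrix

universe u

variable {K : Type u} [Field K]

/-- R3, core -/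
theorem bglspr3_core {D : ChevalleyDatum} {lam : List ℕ} {P : (D.Idx → K) → Prop}
    (hR1 : ∀ s ∈ lam, ∀ w, P w → rc D w s = 0) (hR2 : ∀ s ∈ lam, ∀ w, P w → alpha D s w = 0) :
    ∀ w, P w → w ∈ NT D K lam :=
  fun w hw => ⟨fun s hs => hR1 s hs w hw, fun s hs => hR2 s hs w hw⟩

end Cfsg.Agent.Lib.helper14.BGLSP
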