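import Mathlib
import Cfsg.Agent.Lib.Helper12.BGLSPR2core
import Cfsg.Agent.Lib.Helper12.BGLSPR3core
import Cfsg.Agent.Lib.Helper12.BGLSPO1
import Cfsg.Agent.Lib.helper4.BGLSPX4
import Cfsg.Agent.Lib.Helper1.BGLSPR1

/-!
# Project BGL, block SP (designer helper14), rows SPR2 `row_alpha` and SPR3 `row_NT`: VERBATIM
-/

set_option autoImplicit false

namespace Cfsg.Agent.Lib.helper14.BGLSP

open Cfsg.Lie Cfsg.Lie.ChevalleyDatum Cfsg.Agent.Lib.helper8 Cfsg.Agent.Lib.Helper10.BGL Matrix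

universe u

variable {K : Type u} [Field K] (D : ChevalleyDatum)

section R
variable {D} {lam : List ℕ} (hT : SPTab D lam) {P : (D.Idx → K) → Prop} (hP : StabP D P)
  (h0 : ∀ w, P w → rc D w 0 = 0)
include hT hP h0

/-- R2 [S-M] -/
theorem row_alpha : ∀ s ∈ lam, ∀ w, P w → alpha D s w = 0 :=
  bglspr2_core hP (by obtain ⟨dep, par, h⟩ := hT.orb; exact (spOrb_spec D h).2.2.2) (spBase_spec D hT.base).1
    (fun hr hne hself t w => x_mulVec_self D hr hne hself t w) (row_lam hT hP h0)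

/-- R3 [S] -/
theorem row_NT : ∀ w, P w → w ∈ NT D K lam :=
  bglspr3_core (row_lam hT hP h0) (row_alpha hT hP h0)

end R

end Cfsg.Agent.Lib.helper14.BGLSP
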