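import Mathlib
import Cfsg.Agent.Lib.Helper18.PRL.Defs
import Cfsg.Agent.Lib.Helper21.MaxClassTwo

/-!
# PRL-G1a : in a `p`-group of maximal class of order at least `p^4`, the centralizer of the second
centre has index `p`
-/

set_option autoImplicit false

namespace Cfsg.Agent.Lib.Helper18.PRL

open scoped commutatorElement

universe u

section chain
variable {p : ℕ} [Fact p.Prime] {G : Type u} [Group G] [Finite G] {n : ℕ}

set_option linter.unusedSectionVars false

/-- orders of the first two terms of the upper central series -/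
theorem helper12_card_Z12 (h : MC p G n) (hn : 4 ≤ n) :
    Nat.card (Z G 1) = p ∧ Nat.card (Z G 2) = p ^ 2 := by
  have hp : p.Prime := Fact.out
  obtain ⟨hcard, hcl⟩ := h
  obtain ⟨hZ, hQ, hQc⟩ := Cfsg.Agent.Lib.Helper21.mc_center_card p n (by omega) G hcard hcl
  have hQc' : Group.nilpotencyClass (G ⧸ Subgroup.center G) = (n - 1) - 1 := by
    rw [hQc]; omega
  obtain ⟨hZQ, -, -⟩ := Cfsg.Agent.Lib.Helper21.mc_center_card p (n - 1) (by omega)
    (G ⧸ Subgroup.center G) hQ hQc'
  have h1 : Z G 1 = Subgroup.center G := Subgroup.upperCentralSeries_one G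
  refine ⟨by rw [h1]; exact hZ, ?_⟩
  have h2 : Z G 2 = (Subgroup.center (G ⧸ Subgroup.center G)).comap
      (QuotientGroup.mk' (Subgroup.center G)) := by
    have := Subgroup.comap_upperCentralSeries_quotient_center (G := G) 1
    rw [Subgroup.upperCentralSeries_one] at this
    exact this.symm
  have hidxQ : (Subgroup.center (G ⧸ Subgroup.center G)).index = p ^ (n - 2) := by
    have := (Subgroup.center (G ⧸ Subgroup.center G)).card_mul_index
    rw [hZQ, hQ] at this
    have e : p ^ (n - 1) = p * p ^ (n - 2) := by
      rw [← pow_succ']; congr 1; omega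
    rw [e] at this
    exact Nat.eq_of_mul_eq_mul_left hp.pos this
  have hidx : (Z G 2).index = p ^ (n - 2) := by
    rw [h2, Subgroup.index_comap_of_surjective _ (QuotientGroup.mk'_surjective _), hidxQ]
  have := (Z G 2).card_mul_index
  rw [hidx, hcard] at this
  have e : p ^ n = p ^ 2 * p ^ (n - 2) := by
    rw [← pow_add]; congr 1; omega
  rw [e] at this
  exact Nat.eq_of_mul_eq_mul_right (pow_pos hp.pos _) this

/-- PRL-G1a -/
theorem G1_index (h : MC p G n) (hn : 4 ≤ n) : (G1 G).index = p := by
  classical
  have hp : p.Prime := Fact.out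
  obtain ⟨hc1, hc2⟩ := helper12_card_Z12 h hn
  have hle : Z G 1 ≤ Z G 2 := Subgroup.upperCentralSeries_mono G (by norm_num)
  have h1 : Z G 1 = Subgroup.center G := Subgroup.upperCentralSeries_one G
  -- an element of the second centre outside the centre
  obtain ⟨z, hz2, hz1⟩ : ∃ z ∈ Z G 2, z ∉ Z G 1 := by
    by_contra hcon
    push Not at hcon
    have : Z G 2 = Z G 1 := le_antisymm hcon hle
    rw [this, hc1] at hc2
    have : p ^ 1 = p ^ 2 := by rw [pow_one]; exact hc2
    exact absurd (Nat.pow_right_injective hp.two_le this) (by norm_num)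
  -- commutators with `z` are central
  have hcz : ∀ g : G, ⁅g, z⁆ ∈ Subgroup.center G := by
    intro g
    have := (Subgroup.mem_upperCentralSeries_succ_iff (G := G) (n := 1)).mp hz2 g
    rw [← h1]
    have e : ⁅g, z⁆ = (z * g * z⁻¹ * g⁻¹)⁻¹ := by
      rw [commutatorElement_def]; group
    rw [e]
    exact (Z G 1).inv_mem this
  -- the homomorphism `g ↦ [g, z]`
  let f : G →* G := MonoidHom.mk' (fun g => ⁅g, z⁆) (by
    intro a b
    have hb := Subgroup.mem_center_iff.mp (hcz b)
    have ha := Subgroup.mem_center_iff.mp (hcz a)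
    have e : ⁅a * b, z⁆ = a * ⁅b, z⁆ * a⁻¹ * ⁅a, z⁆ := by
      simp only [commutatorElement_def]; group
    show ⁅a * b, z⁆ = ⁅a, z⁆ * ⁅b, z⁆
    rw [e, hb a, mul_inv_cancel_right]
    exact (hb _).symm)
  have hf : ∀ g, f g = ⁅g, z⁆ := fun g => rfl
  have hker : f.ker = Subgroup.centralizer {z} := by
    ext g
    rw [MonoidHom.mem_ker, hf, commutatorElement_eq_one_iff_mul_comm,
      Subgroup.mem_centralizer_singleton_iff]
  -- the kernel is `G1`
  have hG1 : G1 G = f.ker := by
    rw [hker]
    apply le_antisymm
    · intro g hg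
      rw [Subgroup.mem_centralizer_singleton_iff]
      exact (Subgroup.mem_centralizer_iff.mp hg z hz2).symm
    · intro g hg
      rw [Subgroup.mem_centralizer_singleton_iff] at hg
      -- `Z_2` is generated by `z` and the centre
      set S : Subgroup G := Z G 1 ⊔ Subgroup.zpowers z with hS
      have hS2 : S ≤ Z G 2 := sup_le hle (by rw [Subgroup.zpowers_le]; exact hz2)
      have hS1 : Z G 1 ≤ S := le_sup_left
      have hzS : z ∈ S := (le_sup_right : Subgroup.zpowers z ≤ S) (Subgroup.mem_zpowers z)
      have hd1 : p ∣ Nat.card S := hc1 ▸ Subgroup.card_dvd_of_le hS1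
      have hd2 : Nat.card S ∣ p ^ 2 := hc2 ▸ Subgroup.card_dvd_of_le hS2
      obtain ⟨k, hk, hk'⟩ := (Nat.dvd_prime_pow hp).mp hd2
      have hSeq : S = Z G 2 := by
        apply Subgroup.eq_of_le_of_card_ge hS2
        rw [hc2, hk']
        interval_cases k
        · exfalso
          rw [hk', pow_zero] at hd1
          exact hp.one_lt.ne' (Nat.dvd_one.mp hd1)
        · exfalso
          have : Z G 1 = S := Subgroup.eq_of_le_of_card_ge hS1 (by rw [hc1, hk', pow_one])
          exact hz1 (this ▸ hzS)
        · exact le_rfl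
      have hScent : S ≤ Subgroup.centralizer {g} := by
        apply sup_le
        · rw [h1]
          exact Subgroup.center_le_centralizer _
        · rw [Subgroup.zpowers_le, Subgroup.mem_centralizer_singleton_iff]
          exact hg.symm
      rw [G1, Subgroup.mem_centralizer_iff]
      intro y hy
      have hyS : y ∈ S := by rw [hSeq]; exact hy
      have := hScent hyS
      rw [Subgroup.mem_centralizer_singleton_iff] at this
      exact this
  -- the image is a non-trivial subgroup of the centre
  have hrange : f.range ≤ Z G 1 := by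
    rintro _ ⟨g, rfl⟩
    rw [h1, hf]
    exact hcz g
  have hrne : Nat.card f.range ≠ 1 := by
    intro hone
    apply hz1
    rw [h1, Subgroup.mem_center_iff]
    intro g
    have : f g = 1 := by
      have h2 := (Subgroup.card_eq_one.mp hone)
      have : f g ∈ f.range := ⟨g, rfl⟩
      rw [h2] at this
      exact Subgroup.mem_bot.mp this
    rw [hf, commutatorElement_eq_one_iff_mul_comm] at this
    exact this
  have hrd : Nat.card f.range ∣ p := hc1 ▸ Subgroup.card_dvd_of_le hrange
  rw [hG1, Subgroup.index_ker]
  rcases (Nat.dvd_prime hp).mp hrd with h | h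
  · exact absurd h hrne
  · exact h

end chain

end Cfsg.Agent.Lib.Helper18.PRL
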