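import Mathlib
import Cfsg.Prelude.Def_Blocks
import Cfsg.Agent.Lib.Helper16.AP3
import Cfsg.Agent.Lib.Helper10.SLB.Defs

/-!
# Project SLB (S4538 + S2440), row E03: `p ∣ |SL_n(F)|` for `n ≥ 2` in characteristic `p` (helper12).
-/

set_option autoImplicit false

open Polynomial

namespace Cfsg.Agent.Lib.Helper10.SLB

open Cfsg.Agent.Lib.Helper16.AP

universe u

section E

variable {F : Type u} [Field F] [Fintype F]

/-- `triN n ≥ 1` for `n ≥ 2`. -/
theorem slbe03_triN_pos (n : ℕ) (hn : 2 ≤ n) : 0 < triN n := by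
  unfold triN
  rw [Fintype.card_pos_iff]
  exact ⟨⟨(⟨0, by omega⟩, ⟨1, by omega⟩), by simp [Fin.lt_def]⟩⟩

/-- the characteristic divides the order of the field. -/
theorem slbe03_char_dvd_card (p : ℕ) [CharP F p] : p ∣ Fintype.card F :=
  (CharP.cast_eq_zero_iff F p (Fintype.card F)).mp (Nat.cast_card_eq_zero F)

/-- E03 [S]  `Nat.card (UT n F) = q ^ triN n` (helper16 `card_UT`) divides `Nat.card SL`, `triN n ≥ 1` for `n ≥ 2` (`triN_eq_sum`), `p ∣ q`: `p ∣ Nat.card SL`. -/
theorem factorization_card_SL_pos (p : ℕ) [Fact p.Prime] [CharP F p] (n : ℕ) (hn : 2 ≤ n) :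
    0 < (Nat.card (Matrix.SpecialLinearGroup (Fin n) F)).factorization p := by
  have hp : p.Prime := Fact.out
  have h1 : p ∣ Fintype.card F ^ triN n :=
    dvd_trans (slbe03_char_dvd_card p) (dvd_pow_self _ (slbe03_triN_pos n hn).ne')
  have h2 : Fintype.card F ^ triN n ∣ Nat.card (Matrix.SpecialLinearGroup (Fin n) F) := by
    rw [← card_UT (n := n) (F := F)]
    exact Subgroup.card_subgroup_dvd_card _
  exact hp.factorization_pos_of_dvd Nat.card_pos.ne' (dvd_trans h1 h2)

end E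

end Cfsg.Agent.Lib.Helper10.SLB
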