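/-
INV piece CONJW (project leader helper14, target S2174): a canonical word whose support is mapped into
the positive roots by the word `v`, one root of the support going to the fundamental root `p_j`, is
conjugated by `n_v` to `x_{p_j}(a) u₁`, `a ≠ 0`, `u₁` in the group generated by the other positive
root subgroups.
-/
import Mathlib
import Cfsg.Prelude.Def_ChevStructure
import Cfsg.Agent.Lib.helper14.INV.Defs

set_option autoImplicit false
set_option linter.unusedVariables false

namespace Cfsg.Agent.Lib.helper14.INV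

open Cfsg.Lie Cfsg.Lie.ChevalleyDatum Cfsg.Agent.Lib.helper8 Cfsg.Agent.Lib.helper14

universe u

variable {F : Type u} [Field F]

/-- the action of a word on the roots is injective -/
theorem invconjw_sW_inj (D : ChevalleyDatum) (hA : H8ReflAll D) (v : List ℕ) (hv : ValidW D v)
    {r r' : ℕ} (hr : r < D.nroots) (hr' : r' < D.nroots) (e : h8sW D v r = h8sW D v r') : r = r' := by
  have hvr : ∀ i ∈ v.reverse, i < D.rank := fun i hi => hv i (List.mem_reverse.mp hi)
  have h1 := h8sW_reverse D hA v.reverse hvr r hr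
  have h2 := h8sW_reverse D hA v.reverse hvr r' hr'
  rw [List.reverse_reverse] at h1 h2
  rw [← h1, ← h2, e]

/-- `x_s(t)`, `s` positive, `s ≠ p`, lies in `Up` -/
theorem invconjw_mem_up (D : ChevalleyDatum) (hB : H8Base.{u} D) (p s : ℕ) (hs : D.IsPosRoot s)
    (hne : s ≠ p) (t : F) : h8xU D hB s t ∈ Subgroup.closure (h8UpSet D F p) :=
  Subgroup.subset_closure ⟨s, t, hs, hne, h8xU_val D hB s t⟩

/-- `x_p(a)` normalizes `Up`, `p` fundamental -/
theorem invconjw_norm (D : ChevalleyDatum) (hB : H8Base.{u} D) (hC : H8CommAll.{u} D)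
    (hBN : H8BN D) (j : ℕ) (hj : j < D.rank) (a : F) :
    h8xU D hB (D.simple j) a ∈
      Subgroup.normalizer (Subgroup.closure (h8UpSet D F (D.simple j)) : Set (GL D.Idx F)) := by
  have h := (h8up_main (F := F) D hB hC j (hBN.up j hj).1 (hBN.up j hj).2).1
  apply h
  apply Subgroup.mem_sup_left
  unfold ChevalleyDatum.rootSubgroup
  exact Subgroup.subset_closure ⟨a, h8xU_val D hB _ a⟩

/-- CONJW : a canonical word whose support is mapped into the positive roots by `v`, one root of the
support going to the fundamental root `p_j`, is conjugated by `n_v` to `x_{p_j}(a) u₁`, `a ≠ 0`,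
`u₁` in the group generated by the other positive root subgroups -/
theorem conj_word_form (D : ChevalleyDatum) (hB : H8Base.{u} D) (hA : H8ReflAll D)
    (hC : H8CommAll.{u} D) (hBN : H8BN D) (hW : H8BN2 D)
    (v : List ℕ) (hv : ValidW D v) (c : ℕ → F) (j : ℕ) (hj : j < D.rank) (r₀ : ℕ)
    (hr₀ : D.IsPosRoot r₀) (hc₀ : c r₀ ≠ 0) (hr₀j : h8sW D v r₀ = D.simple j)
    (hpos : ∀ r, D.IsPosRoot r → c r ≠ 0 → D.IsPosRoot (h8sW D v r)) :
    ∃ a : F, a ≠ 0 ∧ ∃ u₁ ∈ Subgroup.closure (h8UpSet D F (D.simple j)),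
      (h8nWU D hB v : GL D.Idx F) * f4cW D hB 0 c * (h8nWU D hB v : GL D.Idx F)⁻¹ =
        h8xU D hB (D.simple j) a * u₁ := by
  set n : GL D.Idx F := h8nWU D hB v with hn
  set Up : Subgroup (GL D.Idx F) := Subgroup.closure (h8UpSet D F (D.simple j)) with hUp
  have hact : ∀ r < D.nroots, H8Act D hB n r (h8sW D v r) := fun r hr =>
    h8nWU_act D hB hA v hv r hr
  obtain ⟨η₀, hη₀, hc0⟩ := hact r₀ hr₀.1
  rw [hr₀j] at hc0
  set a : F := η₀ * c r₀ with ha
  have ha0 : a ≠ 0 := mul_ne_zero hη₀ hc₀
  have hnorm := invconjw_norm D hB hC hBN j hj a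
  -- the coset `x_{p_j}(a) Up`
  have hUS : ∀ x y : GL D.Idx F, x ∈ Up → (∃ u ∈ Up, y = h8xU D hB (D.simple j) a * u) →
      ∃ u ∈ Up, x * y = h8xU D hB (D.simple j) a * u := by
    rintro x y hx ⟨u, hu, rfl⟩
    refine ⟨(h8xU D hB (D.simple j) a)⁻¹ * x * h8xU D hB (D.simple j) a * u, ?_, by group⟩
    apply Subgroup.mul_mem _ _ hu
    have := (Subgroup.mem_normalizer_iff.mp (Subgroup.inv_mem _ hnorm) x).mp hx
    rwa [inv_inv] at this
  -- the single factors
  have hfac : ∀ k, D.IsPosRoot k → k ≠ r₀ → n * h8xU D hB k (c k) * n⁻¹ ∈ Up := by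
    intro k hk hne
    obtain ⟨η, _, h1⟩ := hact k hk.1
    rw [h1]
    by_cases hck : c k = 0
    · rw [hck, mul_zero, h8xU_zero]
      exact Subgroup.one_mem _
    · apply invconjw_mem_up D hB _ _ (hpos k hk hck)
      intro e
      rw [← hr₀j] at e
      exact hne (invconjw_sW_inj D hA v hv hk.1 hr₀.1 e)
  have key : ∀ (m k : ℕ), k + m = D.nroots →
      (k ≤ r₀ → ∃ u ∈ Up, n * f4cW D hB k c * n⁻¹ = h8xU D hB (D.simple j) a * u) ∧
      (r₀ < k → n * f4cW D hB k c * n⁻¹ ∈ Up) := by
    intro m
    induction m with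
    | zero =>
      intro k hk
      have hr0lt := hr₀.1
      refine ⟨fun h => by omega, fun _ => ?_⟩
      rw [f4cW_top D hB k (by omega), mul_one, mul_inv_cancel]
      exact Subgroup.one_mem _
    | succ m ih =>
      intro k hk
      obtain ⟨ih1, ih2⟩ := ih (k + 1) (by omega)
      by_cases hkpos : D.IsPosRoot k
      · have e : n * f4cW D hB k c * n⁻¹ =
            (n * h8xU D hB k (c k) * n⁻¹) * (n * f4cW D hB (k + 1) c * n⁻¹) := by
          rw [f4cW_pos D hB k hkpos]; group
        rw [e]
        constructor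
        · intro hle
          by_cases hkr : k = r₀
          · subst hkr
            rw [hc0]
            exact ⟨_, ih2 (by omega), rfl⟩
          · exact hUS _ _ (hfac k hkpos hkr) (ih1 (by omega))
        · intro hlt
          exact Subgroup.mul_mem _ (hfac k hkpos (by omega)) (ih2 (by omega))
      · rw [f4cW_not D hB k hkpos]
        constructor
        · intro hle
          have : k ≠ r₀ := fun e => hkpos (e ▸ hr₀)
          exact ih1 (by omega)
        · intro hlt
          exact ih2 (by omega)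
  obtain ⟨u, hu, e⟩ := (key D.nroots 0 (by omega)).1 (Nat.zero_le _)
  exact ⟨a, ha0, u, hu, e⟩

end Cfsg.Agent.Lib.helper14.INV
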