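import Mathlib
import Cfsg.Prelude.Def_Classical
import Cfsg.Prelude.Def_KGroupFacts
import Cfsg.Agent.Lib.helper3.SPB.Defs
import Cfsg.Agent.Lib.Helper12.OMB.Mat

/-!
# Project SPB (designer helper3), rows T4a `TbS_ws_sq` and T4 `CovB.pi_zel`, VERBATIM (helper12).

T4a through the block embedding of `Helper12.OMB.Blk` / `Helper12.OMB.Mat`: the short Weyl matrix is the image of an explicit `3 × 3` monomial matrix (`ombm_ws_eq`), whose square is `1`.
-/

set_option autoImplicit false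
set_option linter.unusedSectionVars false
set_option linter.unusedSimpArgs false

namespace Cfsg.Agent.Lib.helper3.SPB

open Cfsg.Agent.Lib.helper15.St2 Cfsg.Agent.Lib.helper3.STC Cfsg.Agent.Lib.Lead.STD Cfsg.Agent.Lib.Lead.STB
  Cfsg.Agent.Lib.Lead.SPN Cfsg.Agent.Lib.Helper16 Cfsg.Agent.Lib.Helper12.OMB

universe u v w

/-- the square of the explicit short Weyl matrix -/
theorem spbt4_m3W_sq {K : Type*} [Field K] {t : K} (ht : t ≠ 0) : m3W t * m3W t = 1 := by
  have h1 : t * t⁻¹ = 1 := mul_inv_cancel₀ ht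
  ext i j
  fin_cases i <;> fin_cases j <;> simp [m3W, Matrix.mul_apply, Fin.sum_univ_succ, Matrix.one_apply]
  all_goals (field_simp)

/-- T4a [M] -/
theorem TbS_ws_sq {ι : Type*} [Fintype ι] [DecidableEq ι] {K : Type*} [Field K] (a : ι ⊕ ι) (t : K) (ht : t ≠ 0) :
    (TbS a t * TbS (ng a) t⁻¹ * TbS a t) * (TbS a t * TbS (ng a) t⁻¹ * TbS a t) = (1 : Matrix (Ix ι) (Ix ι) K) := by
  rw [ombm_ws_eq a ht, ← map_mul, spbt4_m3W_sq ht, map_one]

namespace CovB

variable {l : ℕ} {F : Type u} [Field F] [Fintype F] {G : Type v} [Group G] (C : CovB l F G)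

/-- the matrix of the image of a short Weyl element -/
theorem spbt4_omatB_ws (a : Fin l ⊕ Fin l) (t : F) :
    omatB (C.π (C.S.ws a t)) = TbS a t * TbS (ng a) t⁻¹ * TbS a t := by
  unfold SysB.ws
  rw [map_mul, map_mul, omatB_mul, omatB_mul, C.hπs, C.hπs]

/-- T4 [S-M] -/
theorem pi_zel : C.π C.zel = 1 := by
  apply omatB_injective
  have h1 : C.zel = C.S.ws (Sum.inl C.i0) (-1) * C.S.ws (Sum.inl C.i0) (-1) := rfl
  rw [h1, map_mul, omatB_mul, spbt4_omatB_ws, omatB_one]
  exact TbS_ws_sq (Sum.inl C.i0) (-1 : F) (neg_ne_zero.mpr one_ne_zero)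

end CovB

end Cfsg.Agent.Lib.helper3.SPB
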