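import Mathlib
import Cfsg.Agent.Lib.helper15.St2
import Cfsg.Agent.Lib.helper7.StA
import Cfsg.Agent.Lib.helper7.StC
import Cfsg.Agent.Lib.helper7.StE
import Cfsg.Agent.Lib.helper3.STC.Defs
import Cfsg.Agent.Lib.helper3.STC.Defs2

/-!
# STC (designer helper3), row N5 (verbatim, helper12): `Yj o j` normalises the Heisenberg group `Yg j`

Self-contained on the definitions (own-name copies `stcn5_*` of the small facts of blocks I, B1, B3, X1 that are used).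
-/

set_option autoImplicit false

namespace Cfsg.Agent.Lib.helper3.STC

open Cfsg.Agent.Lib.helper15.St2 Cfsg.Agent.Lib.helper7.St

theorem stcn5_ng_ng {ι : Type*} (a : ι ⊕ ι) : ng (ng a) = a := by
  cases a <;> rfl

theorem stcn5_ng_ne {ι : Type*} (a : ι ⊕ ι) : ng a ≠ a := by
  cases a <;> simp [ng]

theorem stcn5_ng_inj {ι : Type*} {a b : ι ⊕ ι} (h : ng a = ng b) : a = b := by
  rw [← stcn5_ng_ng a, h, stcn5_ng_ng]

namespace SysC

variable {K : Type*} [Field K] {ι : Type*} {G : Type*} [Group G] (S : SysC K ι G)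

theorem stcn5_x_zero {a b : ι ⊕ ι} (hab : a ≠ b) : S.x a b 0 = 1 := by
  have h := S.add a b hab 0 0
  rw [add_zero] at h
  have h2 := congrArg (fun g => g * (S.x a b 0)⁻¹) h
  simpa using h2

theorem stcn5_x_neg {a b : ι ⊕ ι} (hab : a ≠ b) (t : K) : S.x a b (-t) = (S.x a b t)⁻¹ := by
  have h := S.add a b hab t (-t)
  rw [add_neg_cancel, S.stcn5_x_zero hab] at h
  exact eq_inv_of_mul_eq_one_right h

theorem stcn5_gens_inv (Q : ι ⊕ ι → ι ⊕ ι → Prop) :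
    ∀ s ∈ {g | ∃ a b t, a ≠ b ∧ Q a b ∧ g = S.x a b t},
      s⁻¹ ∈ {g | ∃ a b t, a ≠ b ∧ Q a b ∧ g = S.x a b t} := by
  rintro _ ⟨a, b, t, hab, hQ, rfl⟩
  exact ⟨a, b, -t, hab, hQ, (S.stcn5_x_neg hab t).symm⟩

theorem stcn5_cj_comm {a b c d : ι ⊕ ι} (hab : a ≠ b) (hcd : c ≠ d) (hbc : b ≠ c) (had : a ≠ d)
    (hbd : b ≠ ng d) (hac : a ≠ ng c) (t u : K) : cj (S.x a b t) (S.x c d u) = S.x c d u := by
  unfold cj
  rw [S.comm a b c d hab hcd hbc had hbd hac t u, mul_inv_cancel_right]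

theorem stcn5_cj3 {a b c : ι ⊕ ι} (hab : a ≠ b) (hab' : a ≠ ng b) (hbc : b ≠ c) (hbc' : b ≠ ng c)
    (hac : a ≠ c) (hac' : a ≠ ng c) (t u : K) :
    cj (S.x a b t) (S.x b c u) = S.x a c (t * u) * S.x b c u := by
  unfold cj
  rw [← S.comm3 a b c hab hab' hbc hbc' hac hac' t u]
  group

theorem stcn5_cj_ssl {a b : ι ⊕ ι} (hab : a ≠ b) (hab' : a ≠ ng b) (t u : K) :
    cj (S.x a b t) (S.x b (ng a) u) = S.x a (ng a) (2 * t * u) * S.x b (ng a) u := by
  unfold cj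
  rw [← S.ssl a b hab hab' t u]
  group

theorem stcn5_cj_ls {a b : ι ⊕ ι} (hab : a ≠ b) (hab' : a ≠ ng b) (t u : K) :
    cj (S.x a (ng a) t) (S.x (ng a) b u) =
      S.x a b (t * u) * S.x (ng b) b (sg a * sg b * t * u ^ 2) * S.x (ng a) b u := by
  unfold cj
  rw [← S.ls a b hab hab' t u]
  group

theorem stcn5_mem_Yg {c j : ι ⊕ ι} (hcj : c ≠ j) (u : K) : S.x c j u ∈ S.Yg j :=
  Subgroup.subset_closure ⟨c, j, u, hcj, rfl, rfl⟩

section N
variable (o : ι ⊕ ι)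

/-- N5 [M] -/
theorem Yj_cj_mem_Yg {j : ι ⊕ ι} (hj : j ≠ o) (hj' : j ≠ ng o) :
    ∀ y' ∈ S.Yj o j, ∀ z ∈ S.Yg j, cj y' z ∈ S.Yg j := by
  have hngj : ng j ≠ o := fun h => hj' (by rw [← h, stcn5_ng_ng])
  have hngo : ng o ≠ j := fun h => hj' h.symm
  apply cj_closure_mem (S.stcn5_gens_inv _)
  rintro _ ⟨a, b, t, hab, ⟨hbo, haj⟩, rfl⟩ z hz
  subst hbo
  revert z hz
  apply cj_mem_of_gens
  rintro _ ⟨c, d, u, hcd, hdj, rfl⟩
  subst hdj
  -- `g = x a b t` (`b = o`), `z = x c d u` (`d = j`)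
  by_cases hcb : c = b
  · subst hcb
    -- `z = x o j u`
    by_cases ha1 : a = ng c
    · -- long root element
      subst ha1
      have h := S.stcn5_cj_ls (a := ng c) (b := d) hngo (fun h => hj (stcn5_ng_inj h).symm) t u
      rw [stcn5_ng_ng] at h
      rw [h]
      exact (S.Yg d).mul_mem ((S.Yg d).mul_mem (S.stcn5_mem_Yg hngo _) (S.stcn5_mem_Yg (stcn5_ng_ne d) _))
        (S.stcn5_mem_Yg hcd _)
    · by_cases ha2 : a = ng d
      · subst ha2
        have h := S.stcn5_cj_ssl (a := ng d) (b := c) hab (fun h => hj (stcn5_ng_inj h)) t u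
        rw [stcn5_ng_ng] at h
        rw [h]
        exact (S.Yg d).mul_mem (S.stcn5_mem_Yg (stcn5_ng_ne d) _) (S.stcn5_mem_Yg hcd _)
      · rw [S.stcn5_cj3 hab ha1 hcd (fun h => hngj h.symm) haj ha2 t u]
        exact (S.Yg d).mul_mem (S.stcn5_mem_Yg haj _) (S.stcn5_mem_Yg hcd _)
  · by_cases hac : a = ng c
    · -- `x a o t = x (ng o) c _`
      subst hac
      have hsym := S.sym (ng c) b hab t
      rw [stcn5_ng_ng] at hsym
      rw [hsym]
      have h1 : ng b ≠ c := fun h => hab (by rw [← h, stcn5_ng_ng])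
      have h2 : ng b ≠ ng c := fun h => hcb (stcn5_ng_inj h).symm
      have h3 : c ≠ ng d := fun h => haj (by rw [h, stcn5_ng_ng])
      have h4 : ng b ≠ ng d := fun h => hj (stcn5_ng_inj h).symm
      rw [S.stcn5_cj3 h1 h2 hcd h3 hngo h4 _ u]
      exact (S.Yg d).mul_mem (S.stcn5_mem_Yg hngo _) (S.stcn5_mem_Yg hcd _)
    · rw [S.stcn5_cj_comm hab hcd (fun h => hcb h.symm) haj (fun h => hngj h.symm) hac t u]
      exact S.stcn5_mem_Yg hcd _

end N

end SysC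

end Cfsg.Agent.Lib.helper3.STC
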