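import Mathlib
import Cfsg.Agent.Lib.helper15.St2
import Cfsg.Agent.Lib.helper7.StA
import Cfsg.Agent.Lib.helper7.StC
import Cfsg.Agent.Lib.helper7.StE
import Cfsg.Agent.Lib.helper3.STC.Defs
import Cfsg.Agent.Lib.helper3.STC.Defs2
import Cfsg.Agent.Lib.Helper12.STCN5

/-!
# STC (designer helper3), row N2 (verbatim, helper12): a root element of the Levi factor normalises `Yg o` and `Ag o`

Self-contained on the definitions and the own-name copies `stcn5_*` (module `Helper12.STCN5`), `stcn2_*`.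
-/

set_option autoImplicit false

namespace Cfsg.Agent.Lib.helper3.STC

open Cfsg.Agent.Lib.helper15.St2 Cfsg.Agent.Lib.helper7.St

namespace SysC

variable {K : Type*} [Field K] {ι : Type*} {G : Type*} [Group G] (S : SysC K ι G)

/-- the statement of `cj3'` (block B3), own name -/
theorem stcn2_cj3' {a b c : ι ⊕ ι} (hab : a ≠ b) (hab' : a ≠ ng b) (hca : c ≠ a) (hca' : c ≠ ng a)
    (hcb : c ≠ b) (hcb' : c ≠ ng b) (t u : K) :
    cj (S.x a b t) (S.x c a u) = S.x c b (-(u * t)) * S.x c a u := by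
  have h := S.comm3 c a b hca hca' hab hab' hcb hcb' u t
  rw [S.stcn5_x_neg hcb, ← h]
  unfold cj
  group

theorem stcn2_mem_Ag {o d : ι ⊕ ι} (hod : o ≠ d) (u : K) : S.x o d u ∈ S.Ag o :=
  Subgroup.subset_closure ⟨o, d, u, hod, rfl, rfl⟩

/-- the statement of `x_mem_Yg'` (block N1), own name -/
theorem stcn2_mem_Yg' {o b : ι ⊕ ι} (hb : b ≠ ng o) (t : K) : S.x (ng o) b t ∈ S.Yg o := by
  rw [S.sym (ng o) b (fun h => hb h.symm) t, stcn5_ng_ng]
  exact S.stcn5_mem_Yg (fun h => hb (by rw [← h, stcn5_ng_ng])) _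

/-- the statement of `x_mem_Ag'` (block N1), own name -/
theorem stcn2_mem_Ag' {o a : ι ⊕ ι} (ha : a ≠ ng o) (t : K) : S.x a (ng o) t ∈ S.Ag o := by
  rw [S.sym a (ng o) ha t, stcn5_ng_ng]
  exact S.stcn2_mem_Ag (fun h => ha (by rw [h, stcn5_ng_ng])) _

section N
variable (o : ι ⊕ ι)

/-- N2 [M] -/
theorem x_cj_mem_Yg {a b : ι ⊕ ι} (hab : a ≠ b) (ha : a ≠ o) (ha' : a ≠ ng o) (hb : b ≠ o) (hb' : b ≠ ng o) (t : K) :
    ∀ y ∈ S.Yg o, cj (S.x a b t) y ∈ S.Yg o := by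
  have hngb : ng b ≠ o := fun h => hb' (by rw [← h, stcn5_ng_ng])
  have hngo : ng o ≠ o := stcn5_ng_ne o
  apply cj_mem_of_gens
  rintro _ ⟨c, d, u, hcd, hdo, rfl⟩
  rw [hdo] at hcd ⊢
  -- `z = x c o u`
  by_cases hbc : b = c
  · rw [← hbc] at hcd ⊢
    by_cases hab' : a = ng b
    · -- the long root element `x (ng b) b t`
      have h := S.stcn5_cj_ls (a := ng b) (b := o) hngb (fun h => hb (stcn5_ng_inj h)) t u
      rw [stcn5_ng_ng] at h
      rw [hab', h]
      exact (S.Yg o).mul_mem ((S.Yg o).mul_mem (S.stcn5_mem_Yg hngb _) (S.stcn5_mem_Yg hngo _))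
        (S.stcn5_mem_Yg hb _)
    · rw [S.stcn5_cj3 hab hab' hb hb' ha ha' t u]
      exact (S.Yg o).mul_mem (S.stcn5_mem_Yg ha _) (S.stcn5_mem_Yg hb _)
  · by_cases hac : a = ng c
    · -- `x c o u = x (ng o) a _`
      have hca : ng c = a := hac.symm
      have hz : S.x c o u ∈ S.Yg o := S.stcn5_mem_Yg hcd u
      have hsym := S.sym c o hcd u
      rw [hca] at hsym
      rw [hsym] at hz ⊢
      have h1 : a ≠ ng b := fun h => hbc (by rw [hac] at h; exact (stcn5_ng_inj h).symm)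
      rw [S.stcn2_cj3' hab h1 (fun h => ha' h.symm) (fun h => ha (stcn5_ng_inj h).symm)
        (fun h => hb' h.symm) (fun h => hb (stcn5_ng_inj h).symm) t _]
      exact (S.Yg o).mul_mem (S.stcn2_mem_Yg' hb' _) hz
    · rw [S.stcn5_cj_comm hab hcd hbc ha hb' hac t u]
      exact S.stcn5_mem_Yg hcd u

theorem x_cj_mem_Ag {a b : ι ⊕ ι} (hab : a ≠ b) (ha : a ≠ o) (ha' : a ≠ ng o) (hb : b ≠ o) (hb' : b ≠ ng o) (t : K) :
    ∀ y ∈ S.Ag o, cj (S.x a b t) y ∈ S.Ag o := by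
  have hngo : o ≠ ng o := (stcn5_ng_ne o).symm
  apply cj_mem_of_gens
  rintro _ ⟨c, d, u, hcd, hco, rfl⟩
  rw [hco] at hcd ⊢
  -- `z = x o d u`
  have hz : S.x o d u ∈ S.Ag o := S.stcn2_mem_Ag hcd u
  by_cases hda : d = a
  · rw [hda] at hcd hz ⊢
    by_cases hbn : b = ng a
    · -- the long root element `x a (ng a) t` on `x o a u = x (ng a) (ng o) _`
      have hsym := S.sym o a hcd u
      rw [hsym] at hz ⊢
      have h := S.stcn5_cj_ls (a := a) (b := ng o) ha' (fun h => ha (by rw [h, stcn5_ng_ng])) t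
        (-(sg o * sg a * u))
      rw [stcn5_ng_ng] at h
      rw [hbn, h]
      exact (S.Ag o).mul_mem ((S.Ag o).mul_mem (S.stcn2_mem_Ag' ha' _) (S.stcn2_mem_Ag hngo _)) hz
    · have h1 : a ≠ ng b := fun h => hbn (by rw [h, stcn5_ng_ng])
      rw [S.stcn2_cj3' hab h1 (fun h => ha h.symm) (fun h => ha' (by rw [h, stcn5_ng_ng]))
        (fun h => hb h.symm) (fun h => hb' (by rw [h, stcn5_ng_ng])) t u]
      exact (S.Ag o).mul_mem (S.stcn2_mem_Ag (fun h => hb h.symm) _) hz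
  · by_cases hbd : b = ng d
    · -- `x o d u = x b (ng o) _`
      have hsym := S.sym o d hcd u
      rw [← hbd] at hsym
      rw [hsym] at hz ⊢
      have h1 : a ≠ ng b := fun h => hda (by rw [hbd, stcn5_ng_ng] at h; exact h.symm)
      rw [S.stcn5_cj3 hab h1 hb' (fun h => hb (by rw [h, stcn5_ng_ng])) ha'
        (fun h => ha (by rw [h, stcn5_ng_ng])) t _]
      exact (S.Ag o).mul_mem (S.stcn2_mem_Ag' ha' _) hz
    · rw [S.stcn5_cj_comm hab hcd hb (fun h => hda h.symm) hbd ha' t u]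
      exact hz

end N

end SysC

end Cfsg.Agent.Lib.helper3.STC
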