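import Mathlib
import Cfsg.Agent.Lib.helper23.TD4V.Defs
import Cfsg.Agent.S1025

/-!
# Project TD4V (S2462), row JD (verbatim): `X 23 s * X 1 r = X 1 r * X 14 (s r) * X 23 s` and
`X 22 s * X 0 r = X 0 r * X 9 (s r) * X 22 s` from the commutator formula S1025 (helper12).
-/

set_option autoImplicit false

namespace Cfsg.Agent.Lib.helper23.TD4V

open Cfsg.Lie Cfsg.Lie.ChevalleyDatum Matrix
open Cfsg.Agent.Lib.helper8 Cfsg.Agent.Lib.helper8.TD4
open Cfsg.Agent.Lib.helper23.P4V

universe u v

variable {K : Type u} [Field K]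

/-- the commutator formula of S1025 for the units `X r t` of `chevD4` -/
theorem td4vjd_comm (r s : ℕ) (hr : r < 24) (hs : s < 24) (hrs : s ≠ r) (hneg : s ≠ chevD4.neg r)
    (t u : K) :
    X s u * X r t = X r t * X s u * h8wordU chevD4 hB (chevD4.commWord K r s t u) := by
  apply Units.ext
  rw [Units.val_mul, Units.val_mul, Units.val_mul, h8wordU_val]
  exact Cfsg.Agent.S1025.result chevD4 (by simp) r s hr hs hrs hneg t u

theorem td4vjd_word_cons (p : ℕ × K) (w : List (ℕ × K)) :
    h8wordU chevD4 hB (p :: w) = X p.1 p.2 * h8wordU chevD4 hB w := by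
  unfold h8wordU
  rw [List.map_cons, List.prod_cons]
  rfl

theorem td4vjd_word_nil : h8wordU chevD4 hB ([] : List (ℕ × K)) = 1 := by
  unfold h8wordU
  rfl

theorem td4vjd_terms_1_23 : chevD4.commTerms 1 23 = [(14, -1, 1, 1)] := by
  decide

theorem td4vjd_terms_14_23 : chevD4.commTerms 14 23 = [] := by
  decide

theorem td4vjd_terms_0_22 : chevD4.commTerms 0 22 = [(9, -1, 1, 1)] := by
  decide

theorem td4vjd_terms_9_22 : chevD4.commTerms 9 22 = [] := by
  decide

theorem td4vjd_c_14_23 (t u : K) : X 23 u * X 14 t = X 14 t * X 23 u := by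
  have h := td4vjd_comm (K := K) 14 23 (by decide) (by decide) (by decide) (by decide) t u
  unfold ChevalleyDatum.commWord at h
  rw [td4vjd_terms_14_23] at h
  simp only [List.map_nil, td4vjd_word_nil, mul_one] at h
  exact h

theorem td4vjd_c_9_22 (t u : K) : X 22 u * X 9 t = X 9 t * X 22 u := by
  have h := td4vjd_comm (K := K) 9 22 (by decide) (by decide) (by decide) (by decide) t u
  unfold ChevalleyDatum.commWord at h
  rw [td4vjd_terms_9_22] at h
  simp only [List.map_nil, td4vjd_word_nil, mul_one] at h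
  exact h

theorem ident_D (s r : K) : X 23 s * X 1 r = X 1 r * X 14 (s * r) * X 23 s := by
  have h := td4vjd_comm (K := K) 1 23 (by decide) (by decide) (by decide) (by decide) r s
  unfold ChevalleyDatum.commWord at h
  rw [td4vjd_terms_1_23] at h
  simp only [List.map_cons, List.map_nil, td4vjd_word_cons, td4vjd_word_nil, mul_one] at h
  have a0 : ((-1 : ℤ) : K) * (-r) ^ 1 * s ^ 1 = s * r := by
    push_cast
    ring
  rw [a0] at h
  rw [h, mul_assoc, td4vjd_c_14_23, ← mul_assoc]

theorem ident_D' (s r : K) : X 22 s * X 0 r = X 0 r * X 9 (s * r) * X 22 s := by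
  have h := td4vjd_comm (K := K) 0 22 (by decide) (by decide) (by decide) (by decide) r s
  unfold ChevalleyDatum.commWord at h
  rw [td4vjd_terms_0_22] at h
  simp only [List.map_cons, List.map_nil, td4vjd_word_cons, td4vjd_word_nil, mul_one] at h
  have a0 : ((-1 : ℤ) : K) * (-r) ^ 1 * s ^ 1 = s * r := by
    push_cast
    ring
  rw [a0] at h
  rw [h, mul_assoc, td4vjd_c_9_22, ← mul_assoc]

end Cfsg.Agent.Lib.helper23.TD4V
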