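import Mathlib
import Cfsg.Agent.Lib.helper23.TD4V.Defs
import Cfsg.Agent.Lib.Helper12.TD4VJD

/-!
# Project TD4V (S2462), row JA2 (verbatim): `XA s * X 1 r = v * X 9 (s1 s2 s3 r) * XA s` with
`v ∈ QmK` (helper12).  The factors `X 12 s3`, `X 13 s2`, `X 18 s1` are moved to the right one after
the other with the commutator formula (`td4vjd_comm`); the factor `X 9 _` is produced last, next to
`XA s`, so no normalisation argument is needed.
-/

set_option autoImplicit false

namespace Cfsg.Agent.Lib.helper23.TD4V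

open Cfsg.Lie Cfsg.Lie.ChevalleyDatum Matrix
open Cfsg.Agent.Lib.helper8 Cfsg.Agent.Lib.helper8.TD4
open Cfsg.Agent.Lib.helper23.P4V

universe u v

variable {K : Type u} [Field K]

/-- moving `X b u` to the right of `X a t` when `a + b = c` is the only root sum and `b + c` is
no root -/
theorem td4vja2_move (a b c : ℕ) (ε : ℤ) (ha : a < 24) (hb : b < 24) (hc : c < 24) (hab : b ≠ a)
    (hneg : b ≠ chevD4.neg a) (hcb : b ≠ c) (hnegc : b ≠ chevD4.neg c)
    (hterms : chevD4.commTerms a b = [(c, ε, 1, 1)]) (hcomm : chevD4.commTerms c b = [])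
    (t u : K) :
    X b u * X a t = X a t * X c ((ε : K) * (-t) ^ 1 * u ^ 1) * X b u := by
  have h := td4vjd_comm (K := K) a b ha hb hab hneg t u
  unfold ChevalleyDatum.commWord at h
  rw [hterms] at h
  simp only [List.map_cons, List.map_nil, td4vjd_word_cons, td4vjd_word_nil, mul_one] at h
  have h' := td4vjd_comm (K := K) c b hc hb hcb hnegc ((ε : K) * (-t) ^ 1 * u ^ 1) u
  unfold ChevalleyDatum.commWord at h'
  rw [hcomm] at h'
  simp only [List.map_nil, td4vjd_word_nil, mul_one] at h'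
  rw [h, mul_assoc, h', ← mul_assoc]

/-- the seven root groups of `v` lie in `QmK` -/
theorem td4vja2_mem (r : ℕ) (hr : r ∈ [1, 2, 3, 4, 6, 7, 8]) (t : K) : X r t ∈ QmK K := by
  unfold QmK
  apply Subgroup.subset_closure
  refine ⟨r, t, ?_, ?_, rfl⟩
  · simp only [List.mem_cons, List.mem_nil_iff, or_false] at hr
    rcases hr with rfl | rfl | rfl | rfl | rfl | rfl | rfl <;> decide
  · simp only [List.mem_cons, List.mem_nil_iff, or_false] at hr
    unfold ChevalleyDatum.InRootSub
    rcases hr with rfl | rfl | rfl | rfl | rfl | rfl | rfl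
    all_goals
      intro h
      have h0 := h.2 0 (by decide) (by simp)
      have h2 := h.2 2 (by decide) (by simp)
      have h3 := h.2 3 (by decide) (by simp)
      revert h0 h2 h3
      decide

theorem td4vja2_terms_1_12 : chevD4.commTerms 1 12 = [(2, 1, 1, 1)] := by decide
theorem td4vja2_terms_2_12 : chevD4.commTerms 2 12 = [] := by decide
theorem td4vja2_terms_1_13 : chevD4.commTerms 1 13 = [(3, 1, 1, 1)] := by decide
theorem td4vja2_terms_3_13 : chevD4.commTerms 3 13 = [] := by decide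
theorem td4vja2_terms_2_13 : chevD4.commTerms 2 13 = [(4, 1, 1, 1)] := by decide
theorem td4vja2_terms_4_13 : chevD4.commTerms 4 13 = [] := by decide
theorem td4vja2_terms_1_18 : chevD4.commTerms 1 18 = [(6, -1, 1, 1)] := by decide
theorem td4vja2_terms_6_18 : chevD4.commTerms 6 18 = [] := by decide
theorem td4vja2_terms_3_18 : chevD4.commTerms 3 18 = [(8, -1, 1, 1)] := by decide
theorem td4vja2_terms_8_18 : chevD4.commTerms 8 18 = [] := by decide
theorem td4vja2_terms_2_18 : chevD4.commTerms 2 18 = [(7, -1, 1, 1)] := by decide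
theorem td4vja2_terms_7_18 : chevD4.commTerms 7 18 = [] := by decide
theorem td4vja2_terms_4_18 : chevD4.commTerms 4 18 = [(9, -1, 1, 1)] := by decide
theorem td4vja2_terms_9_18 : chevD4.commTerms 9 18 = [] := by decide

theorem td4vja2_pos (t u : K) : ((1 : ℤ) : K) * (-t) ^ 1 * u ^ 1 = -(t * u) := by
  push_cast
  ring

theorem td4vja2_negc (t u : K) : ((-1 : ℤ) : K) * (-t) ^ 1 * u ^ 1 = t * u := by
  push_cast
  ring

theorem td4vja2_m_12_1 (t u : K) : X 12 u * X 1 t = X 1 t * X 2 (-(t * u)) * X 12 u := by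
  rw [← td4vja2_pos]
  exact td4vja2_move 1 12 2 1 (by decide) (by decide) (by decide) (by decide) (by decide)
    (by decide) (by decide) td4vja2_terms_1_12 td4vja2_terms_2_12 t u

theorem td4vja2_m_13_1 (t u : K) : X 13 u * X 1 t = X 1 t * X 3 (-(t * u)) * X 13 u := by
  rw [← td4vja2_pos]
  exact td4vja2_move 1 13 3 1 (by decide) (by decide) (by decide) (by decide) (by decide)
    (by decide) (by decide) td4vja2_terms_1_13 td4vja2_terms_3_13 t u

theorem td4vja2_m_13_2 (t u : K) : X 13 u * X 2 t = X 2 t * X 4 (-(t * u)) * X 13 u := by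
  rw [← td4vja2_pos]
  exact td4vja2_move 2 13 4 1 (by decide) (by decide) (by decide) (by decide) (by decide)
    (by decide) (by decide) td4vja2_terms_2_13 td4vja2_terms_4_13 t u

theorem td4vja2_m_18_1 (t u : K) : X 18 u * X 1 t = X 1 t * X 6 (t * u) * X 18 u := by
  rw [← td4vja2_negc]
  exact td4vja2_move 1 18 6 (-1) (by decide) (by decide) (by decide) (by decide) (by decide)
    (by decide) (by decide) td4vja2_terms_1_18 td4vja2_terms_6_18 t u

theorem td4vja2_m_18_3 (t u : K) : X 18 u * X 3 t = X 3 t * X 8 (t * u) * X 18 u := by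
  rw [← td4vja2_negc]
  exact td4vja2_move 3 18 8 (-1) (by decide) (by decide) (by decide) (by decide) (by decide)
    (by decide) (by decide) td4vja2_terms_3_18 td4vja2_terms_8_18 t u

theorem td4vja2_m_18_2 (t u : K) : X 18 u * X 2 t = X 2 t * X 7 (t * u) * X 18 u := by
  rw [← td4vja2_negc]
  exact td4vja2_move 2 18 7 (-1) (by decide) (by decide) (by decide) (by decide) (by decide)
    (by decide) (by decide) td4vja2_terms_2_18 td4vja2_terms_7_18 t u

theorem td4vja2_m_18_4 (t u : K) : X 18 u * X 4 t = X 4 t * X 9 (t * u) * X 18 u := by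
  rw [← td4vja2_negc]
  exact td4vja2_move 4 18 9 (-1) (by decide) (by decide) (by decide) (by decide) (by decide)
    (by decide) (by decide) td4vja2_terms_4_18 td4vja2_terms_9_18 t u

theorem ident_A2 (s1 s2 s3 r : K) :
    ∃ v ∈ QmK K, XA s1 s2 s3 * X 1 r = v * X 9 (s1 * s2 * s3 * r) * XA s1 s2 s3 := by
  -- tail forms
  have t_13_1 : ∀ (t u : K) (z : GG K),
      X 13 u * (X 1 t * z) = X 1 t * (X 3 (-(t * u)) * (X 13 u * z)) := by
    intro t u z
    rw [← mul_assoc, td4vja2_m_13_1]
    simp only [mul_assoc]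
  have t_13_2 : ∀ (t u : K) (z : GG K),
      X 13 u * (X 2 t * z) = X 2 t * (X 4 (-(t * u)) * (X 13 u * z)) := by
    intro t u z
    rw [← mul_assoc, td4vja2_m_13_2]
    simp only [mul_assoc]
  have t_18_1 : ∀ (t u : K) (z : GG K),
      X 18 u * (X 1 t * z) = X 1 t * (X 6 (t * u) * (X 18 u * z)) := by
    intro t u z
    rw [← mul_assoc, td4vja2_m_18_1]
    simp only [mul_assoc]
  have t_18_3 : ∀ (t u : K) (z : GG K),
      X 18 u * (X 3 t * z) = X 3 t * (X 8 (t * u) * (X 18 u * z)) := by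
    intro t u z
    rw [← mul_assoc, td4vja2_m_18_3]
    simp only [mul_assoc]
  have t_18_2 : ∀ (t u : K) (z : GG K),
      X 18 u * (X 2 t * z) = X 2 t * (X 7 (t * u) * (X 18 u * z)) := by
    intro t u z
    rw [← mul_assoc, td4vja2_m_18_2]
    simp only [mul_assoc]
  have t_18_4 : ∀ (t u : K) (z : GG K),
      X 18 u * (X 4 t * z) = X 4 t * (X 9 (t * u) * (X 18 u * z)) := by
    intro t u z
    rw [← mul_assoc, td4vja2_m_18_4]
    simp only [mul_assoc]
  refine ⟨X 1 r * X 6 (r * s1) * X 3 (-(r * s2)) * X 8 (-(r * s2) * s1) * X 2 (-(r * s3)) *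
    X 7 (-(r * s3) * s1) * X 4 (-(-(r * s3) * s2)), ?_, ?_⟩
  · exact mul_mem (mul_mem (mul_mem (mul_mem (mul_mem (mul_mem
      (td4vja2_mem 1 (by simp) _) (td4vja2_mem 6 (by simp) _)) (td4vja2_mem 3 (by simp) _))
      (td4vja2_mem 8 (by simp) _)) (td4vja2_mem 2 (by simp) _)) (td4vja2_mem 7 (by simp) _))
      (td4vja2_mem 4 (by simp) _)
  · have e9 : s1 * s2 * s3 * r = -(-(r * s3) * s2) * s1 := by ring
    rw [e9]
    unfold XA
    simp only [mul_assoc]
    rw [td4vja2_m_12_1]
    simp only [mul_assoc]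
    rw [t_13_1, t_13_2, t_18_1, t_18_3, t_18_2, t_18_4]

end Cfsg.Agent.Lib.helper23.TD4V
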