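import Mathlib
import Cfsg.Agent.Lib.Helper11.UNS.Defs
import Cfsg.Agent.Lib.Helper1.UNIA4A
import Cfsg.Agent.Lib.helper14.SpBNm

/-!
# Project UNS (S2316), row T3: the alternating sum of the indices of the standard parabolic
subgroups of `Sp_{2m}(F)` is `|U|` (helper12; helper1's `st_value_finset` at `b = 1`).
-/

set_option autoImplicit false

namespace Cfsg.Agent.Lib.Helper11.UNS

open Matrix Cfsg.Agent.Lib.helper14.SpBN Cfsg.Agent.Lib.helper3 Cfsg.Agent.Lib.helper14
  Cfsg.Agent.Lib.Helper5.UNI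

universe u

variable {F : Type u} [Field F] {m : ℕ}

/-- T3 [M]  landed `st_value_finset` (`Helper1/UNIA4A.lean`) for `spBN hm`, `I = range m`, `n₀ = nLong m F`
(`nLong_mem_N`, `nLong_h1`, `nLong_h2`), `H = Bsp ⊓ Nsp` (`nLong_conj_torus`, `mem_torus_of_nLong_conj`,
SpBNm) at `b = 1`, exactly as `hval` / `hθ1` in `Cfsg/Agent/S2545.lean`: `MulAction.fixedBy_one_eq_univ`,
`Subgroup.index_eq_card`, `(Uup_isComplement').index_eq_card`; then cast `ℂ → ℤ` (`Int.cast_injective`,
`push_cast`). -/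
theorem uns_hst [Fintype F] (hm : 0 < m) :
    ∑ K ∈ (Finset.range m).powerset, (-1 : ℤ) ^ K.card *
      (((spBN (F := F) hm).parabolic (sigmaS m F '' (K : Set ℕ))).index : ℤ) =
      (Nat.card ↥(Uup m F) : ℤ) := by
  classical
  haveI : Fintype ↥(Matrix.symplecticGroup (Fin m) F) := Fintype.ofFinite _
  have hval := st_value_finset (spBN (F := F) hm) (Finset.range m) (sigmaS m F)
    (fun i hi => sigmaS_mem hm i (Finset.mem_range.1 hi))
    (fun s hs => by
      obtain ⟨i, hi, e⟩ := sigmaS_surj hm s hs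
      exact ⟨i, Finset.mem_range.2 hi, e⟩)
    (nLong_mem_N hm) (nLong_h1 hm) (nLong_h2 hm) (Bsp m F ⊓ Nsp m F)
    (fun h hh _ => nLong_conj_torus h hh) (fun β hβ hc => mem_torus_of_nLong_conj β hβ hc)
    (1 : ↥(spBN (F := F) hm).B)
  have hR : Nat.card (MulAction.fixedBy
      (↥(spBN (F := F) hm).B ⧸ (Bsp m F ⊓ Nsp m F).subgroupOf (spBN (F := F) hm).B)
      (1 : ↥(spBN (F := F) hm).B)) = Nat.card ↥(Uup m F) := by
    rw [MulAction.fixedBy_one_eq_univ, Nat.card_congr (Equiv.Set.univ _)]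
    show Nat.card (↥(Bsp m F) ⧸ (Bsp m F ⊓ Nsp m F).subgroupOf (Bsp m F)) = _
    rw [← Subgroup.index_eq_card, (Uup_isComplement' (m := m) (F := F)).index_eq_card]
    exact Nat.card_congr (Subgroup.subgroupOfEquivOfLe
      (fun x hx => (Uup_le_Bsp (m := m) (F := F)) hx)).toEquiv
  rw [hR] at hval
  apply Int.cast_injective (α := ℂ)
  rw [Int.cast_natCast, ← hval]
  push_cast
  apply Finset.sum_congr rfl
  intro K _
  congr 1
  rw [MulAction.fixedBy_one_eq_univ, Nat.card_congr (Equiv.Set.univ _),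
    ← Subgroup.index_eq_card]

end Cfsg.Agent.Lib.Helper11.UNS
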