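import Mathlib

/-!
# AMO-SP52 : `5 × 5` matrices over the field of two elements with self-reciprocal characteristic
polynomial have order at most 12
-/

set_option autoImplicit false
set_option linter.unusedVariables false
set_option linter.unusedSectionVars false

namespace Cfsg.Agent.Lib.Helper19.AMO

open Matrix

universe u

section
variable {F : Type u} [Field F]

open Polynomial in
/-- if `X^j - 1` is a multiple of the characteristic polynomial then `A^j = 1` -/
theorem amoSP52_pow_eq_one {n : ℕ} (A : Matrix (Fin n) (Fin n) F) (j : ℕ) (ψ : F[X])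
    (h : (X : F[X]) ^ j - 1 = A.charpoly * ψ) : A ^ j = 1 := by
  have h1 := congrArg (Polynomial.aeval A) h
  rw [map_mul, Matrix.aeval_self_charpoly, zero_mul, map_sub, map_pow, Polynomial.aeval_X,
    map_one] at h1
  exact sub_eq_zero.mp h1

theorem amoSP52_two_field [Fintype F] (hq : Fintype.card F = 2) : (2 : F) = 0 := by
  have h := FiniteField.cast_card_eq_zero F
  rw [hq] at h
  exact_mod_cast h

open Polynomial in
theorem amoSP52_two [Fintype F] (hq : Fintype.card F = 2) : (2 : F[X]) = 0 := by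
  have : (2 : F[X]) = Polynomial.C (2 : F) := (map_ofNat Polynomial.C 2).symm
  rw [this, amoSP52_two_field hq, map_zero]

theorem amoSP52_zero_or_one [Fintype F] (hq : Fintype.card F = 2) (x : F) : x = 0 ∨ x = 1 := by
  have h := FiniteField.pow_card x
  rw [hq] at h
  have : x * (x - 1) = 0 := by ring_nf; ring_nf at h; rw [h]; ring
  rcases mul_eq_zero.mp this with h0 | h1
  · exact Or.inl h0
  · exact Or.inr (sub_eq_zero.mp h1)

open Polynomial in
/-- AMO-SP52 -/
theorem graph_special_five_two [Fintype F] (hq : Fintype.card F = 2)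
    (hrev : ∀ A B : Matrix (Fin 5) (Fin 5) F, A.det = 1 → A * B = 1 → B.charpoly = A.charpoly →
      A.charpoly.reverse = Polynomial.C ((-1 : F) ^ 5) * A.charpoly)
    (A B : Matrix (Fin 5) (Fin 5) F) (hdet : A.det = 1) (hAB : A * B = 1)
    (hc : B.charpoly = A.charpoly) :
    ∃ j : ℕ, 0 < j ∧ A ^ j = 1 ∧ 2 * j ≤ 31 := by
  have h2 := amoSP52_two hq
  have h2F := amoSP52_two_field hq
  have hneg : (-1 : F) = 1 := by linear_combination (-1 : F) * h2F
  have hmonic : A.charpoly.Monic := Matrix.charpoly_monic A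
  have hdeg : A.charpoly.natDegree = 5 := by
    rw [Matrix.charpoly_natDegree_eq_dim]; simp
  have hr : A.charpoly.reverse = A.charpoly := by
    rw [hrev A B hdet hAB hc, hneg]; norm_num
  have c5 : A.charpoly.coeff 5 = 1 := by
    have := hmonic.coeff_natDegree
    rwa [hdeg] at this
  have c0 : A.charpoly.coeff 0 = 1 := by
    have := congrArg (fun p => Polynomial.coeff p 0) hr
    simp only [Polynomial.coeff_reverse, hdeg] at this
    rw [Polynomial.revAt_le (by norm_num)] at this
    rw [← this]; exact c5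
  have c1 : A.charpoly.coeff 1 = A.charpoly.coeff 4 := by
    have := congrArg (fun p => Polynomial.coeff p 1) hr
    simp only [Polynomial.coeff_reverse, hdeg] at this
    rw [Polynomial.revAt_le (by norm_num)] at this
    exact this.symm
  have c2 : A.charpoly.coeff 2 = A.charpoly.coeff 3 := by
    have := congrArg (fun p => Polynomial.coeff p 2) hr
    simp only [Polynomial.coeff_reverse, hdeg] at this
    rw [Polynomial.revAt_le (by norm_num)] at this
    exact this.symm
  have hform : A.charpoly = X ^ 5 + C (A.charpoly.coeff 4) * X ^ 4 + C (A.charpoly.coeff 3) * X ^ 3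
      + C (A.charpoly.coeff 3) * X ^ 2 + C (A.charpoly.coeff 4) * X + 1 := by
    conv_lhs => rw [Polynomial.as_sum_range_C_mul_X_pow A.charpoly]
    rw [hdeg]
    simp only [Finset.sum_range_succ, Finset.range_zero, Finset.sum_empty, c0, c1, c2, c5]
    simp only [map_one, pow_zero, pow_one]
    ring
  rcases amoSP52_zero_or_one hq (A.charpoly.coeff 4) with ha | ha <;>
    rcases amoSP52_zero_or_one hq (A.charpoly.coeff 3) with hb | hb <;>
    rw [ha, hb] at hform <;> simp only [map_zero, map_one, zero_mul, one_mul, add_zero] at hform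
  · -- `X^5 + 1`
    refine ⟨5, by norm_num, amoSP52_pow_eq_one A 5 1 ?_, by norm_num⟩
    rw [hform]
    linear_combination (-1 : F[X]) * h2
  · -- `X^5 + X^3 + X^2 + 1`
    refine ⟨12, by norm_num,
      amoSP52_pow_eq_one A 12 (X ^ 7 + X ^ 5 + X ^ 4 + X ^ 3 + X ^ 2 + 1) ?_, by norm_num⟩
    rw [hform]
    linear_combination (-1 - X ^ 2 - X ^ 3 - X ^ 4 - 2 * X ^ 5 - X ^ 6 - 2 * X ^ 7 - X ^ 8 - X ^ 9
      - X ^ 10 : F[X]) * h2
  · -- `X^5 + X^4 + X + 1`
    refine ⟨8, by norm_num, amoSP52_pow_eq_one A 8 (X ^ 3 + X ^ 2 + X + 1) ?_, by norm_num⟩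
    rw [hform]
    linear_combination (-1 - X - X ^ 2 - X ^ 3 - X ^ 4 - X ^ 5 - X ^ 6 - X ^ 7 : F[X]) * h2
  · -- `X^5 + X^4 + X^3 + X^2 + X + 1`
    refine ⟨6, by norm_num, amoSP52_pow_eq_one A 6 (X + 1) ?_, by norm_num⟩
    rw [hform]
    linear_combination (-1 - X - X ^ 2 - X ^ 3 - X ^ 4 - X ^ 5 : F[X]) * h2

end

end Cfsg.Agent.Lib.Helper19.AMO
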