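import Mathlib
import Cfsg.Agent.Lib.Helper12.BGLSE05core
import Cfsg.Agent.Lib.helper2.BGLPC01
import Cfsg.Agent.Lib.Helper29.BGLPA02
import Cfsg.Agent.Lib.Helper26.BGLSE04

/-!
# Project BGL (block SE, designer helper25), row SE05 `se_six`: VERBATIM (core + PC01, PA02, SE04)
-/

set_option autoImplicit false

namespace Cfsg.Agent.Lib.Helper10.BGL

open Cfsg.Lie Cfsg.Lie.ChevalleyDatum Cfsg.Agent.Lib.helper8

universe u

variable {K : Type u} [Field K]

/-- SE05 [M] -/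
theorem se_six [Finite K] [CharP K 2] (D : ChevalleyDatum) (hD : Seven D) :
    orderOf (xg D hD (D.nroots - 1) (1 : K)) = 2 ∧
    orderOf (xg D hD (D.nroots - 1) (1 : K) * xg D hD (bglOrth D) 1) = 2 ∧
    orderOf (xg D hD 0 (1 : K)) = 2 ∧
    (xg D hD (D.nroots - 1) (1 : K) * xg D hD (bglOrth D) 1 * xg D hD 0 1) ^ 4 ≠ 1 ∧
    ¬ Odd (orderOf (xg D hD (D.nroots - 1) (1 : K) * xg D hD (bglOrth D) 1 * xg D hD 0 1)) :=
  bglse05_core D hD (pc_tab D hD) (se_orth_tab D hD) (pa_phi D hD)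

end Cfsg.Agent.Lib.Helper10.BGL
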