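import Mathlib
import Cfsg.Agent.Lib.Helper12.BGLSPM5core
import Cfsg.Agent.Lib.Helper12.BGLSPR2
import Cfsg.Agent.Lib.Helper26.BGLSPM1
import Cfsg.Agent.Lib.Helper22.BGLSPM2
import Cfsg.Agent.Lib.helper8.BGLSPM3
import Cfsg.Agent.Lib.helper4.BGLSPE3

/-!
# Project BGL, block SP (designer helper14), row SPM5 `span_exc`: VERBATIM (wrapper of `bglspm5_core`)
-/

set_option autoImplicit false

namespace Cfsg.Agent.Lib.helper14.BGLSP

open Cfsg.Lie Cfsg.Lie.ChevalleyDatum Cfsg.Agent.Lib.helper8 Cfsg.Agent.Lib.Helper10.BGL Matrix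

universe u

variable {K : Type u} [Field K] (D : ChevalleyDatum)

section M
variable [Finite K] (p : ℕ) [Fact p.Prime] [CharP K p]

/-- M5 [M] -/
theorem span_exc (hp : p ≠ 2) (hD : D ∈ [chevG2, chevB2, chevD4, chevF4, chevE6, chevE7, chevE8]) {lam : List ℕ}
    (hT : SPTab D lam) (hE : spExcChk D lam p = true) {ys : List ℕ} {Y : List (List ℤ)}
    (hY : spYChk D lam ys Y = true) (a : ℕ) (h : GL D.Idx K) (hh : h ∈ D.group K)
    (hs : ∀ m ∈ Lq D K (p ^ a), ∀ m' ∈ Lq D K (p ^ a),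
      Rt (p ^ a) (topEntry D ((m * h * m' : GL D.Idx K) : Matrix D.Idx D.Idx K))) :
    RatM D (p ^ a) (h : Matrix D.Idx D.Idx K) :=
  bglspm5_core D p hp hD hT a h hh
    (fun hn => top_diff_zero D p a hn h hs)
    (fun h2 hq2 Δ hΔ => col_all_zero D (h8base_all.{u} D hD) hT hY h2 (p ^ a) hq2 Δ hΔ)
    (fun hq2 => stabP_Lq D (h8base_all.{u} D hD) (p ^ a) hq2)
    (fun hP h0 => row_NT hT hP h0)
    (fun {_} hg {_} hw => NT_stab_group D hT hE (h8base_all.{u} D hD) hg hw)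
    (fun h3 {_} hc hcN => exc_eq_one D hD hT hE h3 hc hcN)

end M

end Cfsg.Agent.Lib.helper14.BGLSP
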