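import Mathlib
import Cfsg.Agent.Lib.Helper28.BP2.Defs

/-!
# BP2 (S5736), row T11: an element of `H` of order `p` with the largest number of fixed points
among all elements of `G` of order `p` (helper12).
-/

set_option autoImplicit false

namespace Cfsg.Agent.Lib.Helper28.BP2

open Cfsg.Agent.Lib.helper14

universe u v w

section Toolbox

variable {G : Type u} [Group G]

/-- conjugating by `x⁻¹` does not change the number of fixed points on `G ⧸ H`. -/
theorem bp2t11_fx_conj (H : Subgroup G) (f x : G) : fx H (x⁻¹ * f * x) = fx H f := by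
  unfold fx
  apply Nat.card_congr
  refine Equiv.subtypeEquiv (MulAction.toPerm x) (fun ω => ?_)
  simp only [MulAction.toPerm_apply]
  constructor
  · intro h
    calc f • x • ω = x • ((x⁻¹ * f * x) • ω) := by simp [mul_smul]
      _ = x • ω := by rw [h]
  · intro h
    calc (x⁻¹ * f * x) • ω = x⁻¹ • (f • (x • ω)) := by simp [mul_smul]
      _ = x⁻¹ • (x • ω) := by rw [h]
      _ = ω := inv_smul_smul x ω

/-- an element of `H` fixes the base point of `G ⧸ H`. -/
theorem bp2t11_fx_pos [Finite G] (H : Subgroup G) (g : G) (hg : g ∈ H) : 0 < fx H g := by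
  unfold fx
  haveI : Nonempty {ω : G ⧸ H // g • ω = ω} := by
    refine ⟨⟨((1 : G) : G ⧸ H), ?_⟩⟩
    rw [MulAction.Quotient.smul_mk, QuotientGroup.eq]
    simpa using H.inv_mem hg
  exact Nat.card_pos

/-- an element with a fixed point on `G ⧸ H` has a conjugate in `H`. -/
theorem bp2t11_conj_mem [Finite G] (H : Subgroup G) (f : G) (hf : 0 < fx H f) :
    ∃ x : G, x⁻¹ * f * x ∈ H := by
  unfold fx at hf
  haveI : Nonempty {ω : G ⧸ H // f • ω = ω} := (Nat.card_pos_iff.mp hf).1
  obtain ⟨⟨ω, hω⟩⟩ := ‹Nonempty {ω : G ⧸ H // f • ω = ω}›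
  obtain ⟨x, rfl⟩ := QuotientGroup.mk_surjective ω
  refine ⟨x, ?_⟩
  rw [MulAction.Quotient.smul_mk, QuotientGroup.eq] at hω
  have := H.inv_mem hω
  simpa [mul_assoc] using this

/-- **T11**.  an element of `H` of order `p` with the largest number of fixed points among all
elements of `G` of order `p` (Cauchy in `H`; a maximiser fixes a point `x H`, conjugate it by `x`). -/
theorem exists_maxfix [Finite G] (H : Subgroup G) (p : ℕ) [Fact p.Prime] (hp : p ∣ Nat.card H) :
    ∃ g ∈ H, orderOf g = p ∧ ∀ f : G, orderOf f = p → fx H f ≤ fx H g := by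
  obtain ⟨h, hh⟩ := exists_prime_orderOf_dvd_card' (G := H) p hp
  have hh' : orderOf (h : G) = p := by rw [Subgroup.orderOf_coe]; exact hh
  haveI : Nonempty {f : G // orderOf f = p} := ⟨⟨(h : G), hh'⟩⟩
  obtain ⟨⟨f₀, hf₀⟩, hmax⟩ := Finite.exists_max (fun f : {f : G // orderOf f = p} => fx H (f : G))
  have hpos : 0 < fx H f₀ :=
    lt_of_lt_of_le (bp2t11_fx_pos H (h : G) h.2) (hmax ⟨(h : G), hh'⟩)
  obtain ⟨x, hx⟩ := bp2t11_conj_mem H f₀ hpos
  refine ⟨x⁻¹ * f₀ * x, hx, ?_, ?_⟩
  · have : x⁻¹ * f₀ * x = (MulAut.conj x⁻¹) f₀ := by simp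
    rw [this, MulEquiv.orderOf_eq]
    exact hf₀
  · intro f hf
    rw [bp2t11_fx_conj]
    exact hmax ⟨f, hf⟩

end Toolbox

end Cfsg.Agent.Lib.Helper28.BP2
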