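import Mathlib
import Cfsg.Agent.Lib.Helper21.BSQ.Defs

/-!
# Project BSQ (S3912), row S2: a subgroup `S` over `N` of order `p` all of whose elements of order
`p` lie in `N` has a unique subgroup of order `p` (helper12).
-/

set_option autoImplicit false

namespace Cfsg.Agent.Lib.Helper21.BSQ

universe u

variable {G : Type u} [Group G]

/-- every subgroup of order `p` of `↥S` is `N.subgroupOf S` -/
theorem bsqs2_eq [Finite G] (p : ℕ) [Fact p.Prime] (N S : Subgroup G)
    (hN : Nat.card ↥N = p) (hNS : N ≤ S) (hmem : ∀ x ∈ S, orderOf x = p → x ∈ N)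
    (H : Subgroup ↥S) (hH : Nat.card ↥H = p) : H = N.subgroupOf S := by
  have hp : p.Prime := Fact.out
  have hle : H ≤ N.subgroupOf S := by
    intro x hx
    rw [Subgroup.mem_subgroupOf]
    by_cases h1 : x = 1
    · rw [h1]
      exact N.one_mem
    · have hord : orderOf (⟨x, hx⟩ : ↥H) ∣ p := by
        rw [← hH]
        exact orderOf_dvd_natCard _
      have hne : orderOf (⟨x, hx⟩ : ↥H) ≠ 1 := by
        intro h
        rw [orderOf_eq_one_iff] at h
        apply h1
        have := congrArg Subtype.val h
        simpa using this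
      have hop : orderOf (⟨x, hx⟩ : ↥H) = p := by
        rcases (Nat.dvd_prime hp).1 hord with h | h
        · exact absurd h hne
        · exact h
      have h2 : orderOf (x : G) = p := by
        rw [← hop]
        have e1 : orderOf (⟨x, hx⟩ : ↥H) = orderOf x := by
          rw [← Subgroup.orderOf_coe]
        rw [e1, ← Subgroup.orderOf_coe]
      exact hmem (x : G) x.2 h2
  have hcard : Nat.card ↥(N.subgroupOf S) = p := by
    rw [Nat.card_congr (Subgroup.subgroupOfEquivOfLe hNS).toEquiv, hN]
  exact Subgroup.eq_of_le_of_card_ge hle (by rw [hcard, hH])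

/-- S2 [S-M]. A subgroup `H` of `↥S` of order `p` is generated by an element of order `p`, which lies in `N`; so
`H.map S.subtype ≤ N`, equal by cardinality; the same for `K`. -/
theorem unique_sub_of_mem [Finite G] (p : ℕ) [Fact p.Prime] (N S : Subgroup G)
    (hN : Nat.card ↥N = p) (hNS : N ≤ S) (hmem : ∀ x ∈ S, orderOf x = p → x ∈ N) :
    ∀ H K : Subgroup ↥S, Nat.card ↥H = p → Nat.card ↥K = p → H = K := by
  intro H K hH hK
  rw [bsqs2_eq p N S hN hNS hmem H hH, bsqs2_eq p N S hN hNS hmem K hK]

end Cfsg.Agent.Lib.Helper21.BSQ
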