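import Mathlib
import Cfsg.Agent.Lib.helper6.CEB.Defs
import Cfsg.Agent.Lib.Helper24.STCI1

/-!
# Project CEB (helper6, S2094 family), row T6 (`HCs_of`), verbatim, by helper12.
-/

set_option autoImplicit false

namespace Cfsg.Agent.Lib.helper6.CEB

open Cfsg.Agent.Lib.helper15.St2 Cfsg.Agent.Lib.helper7.Ce Cfsg.Agent.Lib.helper3.STC Cfsg.Agent.Lib.Lead.STD
  Cfsg.Agent.Lib.helper7.CED Cfsg.Agent.Lib.Lead.STB
open Cfsg.Agent.Lib.helper7.CEC (I2 I3 I4 U3)

section T

variable {K : Type*} [Field K] {ι : Type*} {Γ G : Type*} [Group Γ] [Group G] {S : SysB K ι G} {σ : Γ →* G}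

/-- `ab a ≠ ab b` from the two inequalities -/
theorem cebt6_ab_ne {a b : ι ⊕ ι} (h1 : a ≠ b) (h2 : a ≠ ng b) : ab a ≠ ab b := by
  intro e
  rcases ab_eq_iff.1 e with e | e
  · exact h1 e
  · exact h2 e

/-- T6 [S-M]  case analysis (model CED T7 `HC_of_HT`, `helper6.CEDT7`). -/
theorem HCs_of
    (h45 : ∀ a d : ι ⊕ ι, ab a ≠ ab d → ∀ t u : K, CL σ (S.xs a t) (S.x a d u))
    (horth : ∀ a c d : ι ⊕ ι, ab c ≠ ab d → ab a ≠ ab c → ab a ≠ ab d → ∀ t u : K, CL σ (S.xs a t) (S.x c d u)) :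
    HCs S σ := by
  intro a c d hcd hcd' hda hca' t u
  by_cases hca : c = a
  · subst hca
    exact h45 c d (cebt6_ab_ne hcd hcd') t u
  · by_cases hdna : d = ng a
    · subst hdna
      -- `x c (ng a) u = x a (ng c) (-u)`
      have e1 : S.x c (ng a) u = S.x a (ng c) (-u) := by
        have := S.sym c (ng a) hcd hcd' u
        rw [ng_ng] at this
        exact this
      rw [e1]
      have hanc : a ≠ ng c := fun e => hca' (by rw [e, ng_ng])
      have hancc : a ≠ ng (ng c) := by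
        rw [ng_ng]
        exact fun e => hca e.symm
      exact h45 a (ng c) (cebt6_ab_ne hanc hancc) t (-u)
    · have hac : a ≠ c := fun e => hca e.symm
      have hanc : a ≠ ng c := fun e => hca' (by rw [e, ng_ng])
      have had : a ≠ d := fun e => hda e.symm
      have hand : a ≠ ng d := fun e => hdna (by rw [e, ng_ng])
      exact horth a c d (cebt6_ab_ne hcd hcd') (cebt6_ab_ne hac hanc) (cebt6_ab_ne had hand) t u

end T

end Cfsg.Agent.Lib.helper6.CEB
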