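import Mathlib
import Cfsg.Agent.Lib.helper6.CEB.Defs

/-!
# Project CEB (helper6, S2094 family), row Z8 (`Xsh_map`, `Xsh_add`), cores on the statements of Z3 (`Ds_map`, `Ds_add_left`), by helper12.
-/

set_option autoImplicit false

namespace Cfsg.Agent.Lib.helper6.CEB

open Cfsg.Agent.Lib.helper15.St2 Cfsg.Agent.Lib.helper7.Ce Cfsg.Agent.Lib.helper3.STC Cfsg.Agent.Lib.Lead.STD
  Cfsg.Agent.Lib.helper7.CED Cfsg.Agent.Lib.Lead.STB
open Cfsg.Agent.Lib.helper7.CEC (I2 I3 I4 U3)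

section Z

variable {K : Type*} [Field K] {ι : Type*} {Γ G : Type*} [Group Γ] [Group G] {S : SysB K ι G} {σ : Γ →* G}

/-- the chosen auxiliary index of `Xsh` -/
theorem cebz8_choose_ne (h2 : I2 ι) (a : ι ⊕ ι) : ab a ≠ ab (Classical.choose (h2 a)) :=
  (Classical.choose_spec (h2 a)).symm

/-- `Xsh` unfolded -/
theorem cebz8_Xsh_eq (h : IsCE σ) (P : SysD K ι Γ) (h2 : I2 ι) (a : ι ⊕ ι) (s : K) :
    Xsh S h P h2 a s = Ds S h P a (Classical.choose (h2 a)) s 1 := rfl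

/-- Z8 core: `Xsh_map` on the statement of `Ds_map`. -/
theorem cebz8_Xsh_map_core (h : IsCE σ) (P : SysD K ι Γ) (h2 : I2 ι)
    (hDm : ∀ {a b : ι ⊕ ι}, ab a ≠ ab b → ∀ t u : K, σ (Ds S h P a b t u) = S.xs a (t * u))
    (a : ι ⊕ ι) (s : K) :
    σ (Xsh S h P h2 a s) = S.xs a s := by
  rw [cebz8_Xsh_eq, hDm (cebz8_choose_ne h2 a), mul_one]

/-- Z8 core: `Xsh_add` on the statement of `Ds_add_left`. -/
theorem cebz8_Xsh_add_core (h : IsCE σ) (P : SysD K ι Γ) (h2 : I2 ι)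
    (hDa : ∀ {a b : ι ⊕ ι}, ab a ≠ ab b → ∀ t t' u : K, Ds S h P a b (t + t') u = Ds S h P a b t u * Ds S h P a b t' u)
    (a : ι ⊕ ι) (s s' : K) :
    Xsh S h P h2 a (s + s') = Xsh S h P h2 a s * Xsh S h P h2 a s' := by
  rw [cebz8_Xsh_eq, cebz8_Xsh_eq, cebz8_Xsh_eq, hDa (cebz8_choose_ne h2 a)]

end Z

end Cfsg.Agent.Lib.helper6.CEB
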