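import Mathlib
import Cfsg.Agent.Lib.Helper12.CEBZ8core
import Cfsg.Agent.Lib.Helper21.CEBZ1

/-!
# Project CEB (helper6, S2094 family), row Z8 (`Xsh_map`, `Xsh_add`), verbatim, by helper12.
-/

set_option autoImplicit false

namespace Cfsg.Agent.Lib.helper6.CEB

open Cfsg.Agent.Lib.helper15.St2 Cfsg.Agent.Lib.helper7.Ce Cfsg.Agent.Lib.helper3.STC Cfsg.Agent.Lib.Lead.STD
  Cfsg.Agent.Lib.helper7.CED Cfsg.Agent.Lib.Lead.STB
open Cfsg.Agent.Lib.helper7.CEC (I2 I3 I4 U3)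

section Z

variable {K : Type*} [Field K] {ι : Type*} {Γ G : Type*} [Group Γ] [Group G] {S : SysB K ι G} {σ : Γ →* G}

/-- Z8 [S]  `Ds_map` (`mul_one`), `Ds_add_left`; `Classical.choose_spec (h2 a)`. -/
theorem Xsh_map (h : IsCE σ) (P : SysD K ι Γ) (hP : ∀ a b t, σ (P.x a b t) = S.x a b t) (h2 : I2 ι) (a : ι ⊕ ι) (s : K) :
    σ (Xsh S h P h2 a s) = S.xs a s :=
  cebz8_Xsh_map_core h P h2 (fun hab t u => Ds_map h P hP hab t u) a s

theorem Xsh_add (h : IsCE σ) (hCs : HCs S σ) (hSs : HSs S σ) (P : SysD K ι Γ) (hP : ∀ a b t, σ (P.x a b t) = S.x a b t) (h2 : I2 ι)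
    (a : ι ⊕ ι) (s s' : K) :
    Xsh S h P h2 a (s + s') = Xsh S h P h2 a s * Xsh S h P h2 a s' :=
  cebz8_Xsh_add_core h P h2 (fun hab t t' u => Ds_add_left h hCs hSs P hP hab t t' u) a s s'

end Z

end Cfsg.Agent.Lib.helper6.CEB
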