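import Mathlib
import Cfsg.Agent.Lib.helper7.CEC.Defs
import Cfsg.Agent.Lib.Helper24.STCI1

/-!
# Project CEC (designer helper7), row T8 verbatim (helper12): `t4_of_t6`, disjoint short roots through the long roots
-/

set_option autoImplicit false

namespace Cfsg.Agent.Lib.helper7.CEC

open Cfsg.Agent.Lib.helper15.St2 Cfsg.Agent.Lib.helper7.Ce Cfsg.Agent.Lib.helper3.STC

section G

variable {Γ G : Type*} [Group Γ] [Group G] {σ : Γ →* G}

/-- own copy of the statement of G1 `CL_inv` (without the hypothesis `IsCE`) -/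
theorem cect8_CL_inv {x w : G} (hx : CL σ x w) : CL σ x⁻¹ w := by
  intro a b ha hb
  have h1 : σ a⁻¹ = x := by rw [map_inv, ha, inv_inv]
  have h2 := hx a⁻¹ b h1 hb
  calc a * b = a * (b * a⁻¹) * a := by group
    _ = a * (a⁻¹ * b) * a := by rw [h2]
    _ = b * a := by group

/-- own copy of the statement of G1 `CL_milnor_mul` -/
theorem cect8_CL_milnor_mul (h : IsCE σ) {p q r w : G} (hp : p * w = w * p) (hq : q * w = w * q)
    (hr : CL σ r w) : CL σ (cm p q * r) w :=
  h.CL_mul_left (h.milnor hp hq) hr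

end G

section T

variable {K : Type*} [Field K] {ι : Type*} {Γ G : Type*} [Group Γ] [Group G] {S : SysC K ι G} {σ : Γ →* G}

theorem t4_of_t6 (h : IsCE σ)
    (h6 : ∀ a c d : ι ⊕ ι, ab c ≠ ab d → ab a ≠ ab c → ab a ≠ ab d → ∀ t u : K, CL σ (S.x a (ng a) t) (S.x c d u)) :
    ∀ a b c d : ι ⊕ ι, ab a ≠ ab b → ab c ≠ ab d → ab a ≠ ab c → ab a ≠ ab d → ab b ≠ ab c → ab b ≠ ab d →
      ∀ t u : K, CL σ (S.x a b t) (S.x c d u) := by
  intro a b c d hab hcd hac had hbc hbd t u
  have nab : a ≠ b ∧ a ≠ ng b := by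
    constructor
    · intro e; exact hab (by rw [e])
    · intro e; exact hab (by rw [e, ab_ng])
  have ncd : c ≠ d ∧ c ≠ ng d := by
    constructor
    · intro e; exact hcd (by rw [e])
    · intro e; exact hcd (by rw [e, ab_ng])
  have nac : a ≠ c ∧ a ≠ ng c := by
    constructor
    · intro e; exact hac (by rw [e])
    · intro e; exact hac (by rw [e, ab_ng])
  have nad : a ≠ d ∧ a ≠ ng d := by
    constructor
    · intro e; exact had (by rw [e])
    · intro e; exact had (by rw [e, ab_ng])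
  have nbc : b ≠ c ∧ b ≠ ng c := by
    constructor
    · intro e; exact hbc (by rw [e])
    · intro e; exact hbc (by rw [e, ab_ng])
  have nbd : b ≠ d ∧ b ≠ ng d := by
    constructor
    · intro e; exact hbd (by rw [e])
    · intro e; exact hbd (by rw [e, ab_ng])
  -- the relation `ls`
  have hls := S.ls a b nab.1 nab.2 t 1
  rw [mul_one, one_pow, mul_one] at hls
  have hx : S.x a b t = cm (S.x a (ng a) t) (S.x (ng a) b 1) *
      (S.x (ng b) b (sg a * sg b * t))⁻¹ := by
    unfold cm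
    rw [hls, mul_inv_cancel_right]
  rw [hx]
  refine cect8_CL_milnor_mul h ?_ ?_ (cect8_CL_inv ?_)
  · exact S.comm a (ng a) c d (ne_ng a) ncd.1 (fun e => nac.2 (ng_eq_iff.mp e)) nad.1
      (fun e => nad.1 (ng_inj.mp e)) nac.2 t u
  · exact S.comm (ng a) b c d (fun e => nab.2 (ng_eq_iff.mp e)) ncd.1 nbc.1
      (fun e => nad.2 (ng_eq_iff.mp e)) nbd.2 (fun e => nac.1 (ng_inj.mp e)) 1 u
  · have h1 := h6 (ng b) c d hcd (by rw [ab_ng]; exact hbc) (by rw [ab_ng]; exact hbd)
      (sg a * sg b * t) u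
    rw [ng_ng] at h1
    exact h1

end T

end Cfsg.Agent.Lib.helper7.CEC
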