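import Mathlib
import Cfsg.Agent.Lib.helper17.CEM.Defs
import Cfsg.Agent.Lib.Helper24.STCI1

/-!
# Project CEM (helper17, S2099 family), row S9 (`exists_sysM_of_longLift`), core on the statements of T1 T4 E2 E3 S7 S8, by helper12.
-/

set_option autoImplicit false

namespace Cfsg.Agent.Lib.helper17.CEM

open Cfsg.Agent.Lib.helper15.St2 Cfsg.Agent.Lib.helper7.Ce Cfsg.Agent.Lib.helper3.STC Cfsg.Agent.Lib.Lead.STD
  Cfsg.Agent.Lib.helper7.CEC Cfsg.Agent.Lib.helper7.CED Cfsg.Agent.Lib.helper17.STM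

section S

variable {F : Type*} [Field F] {A B : F} [Fact (∀ r : F, r ^ 2 ≠ -B + A * r)] {ι : Type*} {Γ G : Type*} [Group Γ] [Group G]
  {S : SysM F A B ι G} {σ : Γ →* G}

/-- `ab a ≠ ab b` from the two inequalities -/
theorem cems9_ab_ne {a b : ι ⊕ ι} (h1 : a ≠ b) (h2 : a ≠ ng b) : ab a ≠ ab b := by
  intro e
  rcases ab_eq_iff.1 e with e | e
  · exact h1 e
  · exact h2 e

/-- S9 core: the lifted system, on the statements of `HLS`, E3 `ss_lift`, S7 `XSs_map` `XSs_add`, S8 `XSs_ls` `XSs_rels`. -/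
theorem cems9_core (h : IsCE σ) (L : LongLift S σ) (h2 : I2 ι)
    (hLS : HLS S σ)
    (hss : ∀ {e b : ι ⊕ ι}, ab e ≠ ab b → ∀ (u v : Kq F A B) {p q : Γ}, σ p = S.xs e u → σ q = S.xs b v →
      cm p q = L.P.x e (ng b) (-(pq u v)))
    (hmap : ∀ (a : ι ⊕ ι) (u : Kq F A B), σ (XSs S h L h2 a u) = S.xs a u)
    (hadd : ∀ (a : ι ⊕ ι) (u u' : Kq F A B), XSs S h L h2 a (u + u') = XSs S h L h2 a u * XSs S h L h2 a u')
    (hls : ∀ {a b : ι ⊕ ι}, ab a ≠ ab b → ∀ (t : F) (u : Kq F A B),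
      L.P.x a b t * XSs S h L h2 b u * (L.P.x a b t)⁻¹ * (XSs S h L h2 b u)⁻¹ = XSs S h L h2 a (t • u) * L.P.x a (ng b) (t * nm u))
    (hrels : ∀ (a : ι ⊕ ι) (t u : Kq F A B), t ≠ 0 →
      cj (XSs S h L h2 a t * XSs S h L h2 (ng a) (star t)⁻¹ * XSs S h L h2 a t) (XSs S h L h2 a u) = XSs S h L h2 (ng a) (star (t⁻¹ ^ 2 * u))) :
    ∃ Q : SysM F A B ι Γ, (∀ a b t, σ (Q.x a b t) = S.x a b t) ∧ ∀ a u, σ (Q.xs a u) = S.xs a u := by
  refine ⟨{ toSysD := L.P
            xs := XSs S h L h2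
            adds := fun a t u => (hadd a t u).symm
            comm_ls := ?_
            ls := fun a b hab hab' t u => hls (cems9_ab_ne hab hab') t u
            ss := ?_
            rels := fun a t u ht => hrels a t u ht }, fun a b t => L.map a b t, fun a u => hmap a u⟩
  · intro a c d hcd hcd' hda hca' t u
    exact hLS a c d hcd hcd' hda hca' t u (XSs S h L h2 a t) (L.P.x c d u) (hmap a t) (L.map c d u)
  · intro a b hab hab' t u
    exact hss (cems9_ab_ne hab hab') t u (hmap a t) (hmap b u)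

end S

end Cfsg.Agent.Lib.helper17.CEM
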