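import Mathlib
import Cfsg.Agent.Lib.Helper12.CEMS9core
import Cfsg.Agent.Lib.helper4.CEMS7
import Cfsg.Agent.Lib.Helper24.CEMT1
import Cfsg.Agent.Lib.Helper21.CEME1
import Cfsg.Agent.Lib.Helper24.CEME3

/-!
# Project CEM (helper17, S2099 family), row S9 (`exists_sysM_of_longLift`), verbatim, by helper12.
-/

set_option autoImplicit false

namespace Cfsg.Agent.Lib.helper17.CEM

open Cfsg.Agent.Lib.helper15.St2 Cfsg.Agent.Lib.helper7.Ce Cfsg.Agent.Lib.helper3.STC Cfsg.Agent.Lib.Lead.STD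
  Cfsg.Agent.Lib.helper7.CEC Cfsg.Agent.Lib.helper7.CED Cfsg.Agent.Lib.helper17.STM

section S

variable {F : Type*} [Field F] [Finite F] {A B : F} [Fact (∀ r : F, r ^ 2 ≠ -B + A * r)] {ι : Type*} {Γ G : Type*} [Group Γ] [Group G]
  {S : SysM F A B ι G} {σ : Γ →* G}

/-- S9 [M]  **the lifted system**. -/
theorem exists_sysM_of_longLift [DecidableEq ι] (h : IsCE σ) (L : LongLift S σ) (h3 : I3 ι) (h2 : I2 ι) :
    ∃ Q : SysM F A B ι Γ, (∀ a b t, σ (Q.x a b t) = S.x a b t) ∧ ∀ a u, σ (Q.xs a u) = S.xs a u :=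
  cems9_core h L h2 (HLS_all h h3)
    (fun heb u v _ _ hp hq => ss_lift L h (HC_long h) (HLS_all h h3) h3 heb u v hp hq)
    (fun a u => XSs_map h L h2 a u)
    (fun a u u' => XSs_add h L (HC_long h) (HLS_all h h3) (HSO_of_lift L h) h3 h2 a u u')
    (fun hab t u => XSs_ls h L (HLS_all h h3) h3 h2 hab t u)
    (fun a t u ht => XSs_rels h L (HLS_all h h3) h3 h2 a t u ht)

end S

end Cfsg.Agent.Lib.helper17.CEM
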