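import Mathlib
import Cfsg.Agent.Lib.helper3.CEUO.Defs2
import Cfsg.Agent.Lib.Helper24.STCI1

/-!
# Project CEUO (helper3, odd case of S2089), row D1 (`Zq_map`, `Zq_eq`, `Zq_cj`), by helper12 (port of `helper14.CEUY1`).
-/

set_option autoImplicit false

namespace Cfsg.Agent.Lib.helper3.CEUO

open Cfsg.Agent.Lib.helper15.St2 Cfsg.Agent.Lib.helper7.Ce Cfsg.Agent.Lib.helper3.STC Cfsg.Agent.Lib.Helper27.STU
  Cfsg.Agent.Lib.helper7.CEU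

open Cfsg.Agent.Lib.helper7.CEC (I2 I3 I4 U2 U3)

section D

variable {F : Type*} [Field F] [StarRing F] {od : Prop} {ι : Type*} {Γ G : Type*} [Group Γ] [Group G] {S : SysU F od ι G} {σ : Γ →* G}
  {h : IsCE σ}

/-- `ab a ≠ ab b` unpacked. -/
theorem ceuod1_ne {a b : ι ⊕ ι} (hab : ab a ≠ ab b) : a ≠ b ∧ a ≠ ng b := by
  constructor
  · intro e
    exact hab (ab_eq_iff.2 (Or.inl e))
  · intro e
    exact hab (ab_eq_iff.2 (Or.inr e))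

/-- the relation `ls` in the form `cm`. -/
theorem ceuod1_cm_ls (S : SysU F od ι G) {a b : ι ⊕ ι} (hab : ab a ≠ ab b) (ξ : Lam F od) (u : F) :
    cm (S.xl a ξ) (S.xs (ng a) b u) = S.xs a b (ξ.c * u) * S.xl (ng b) (Lam.act (star u) (Lam.bar ξ)) :=
  S.ls a b (ceuod1_ne hab).1 (ceuod1_ne hab).2 ξ u

/-- D1 [S]  `map_cm`, `map_lf`, `S.ls a b`. -/
theorem Zq_map (h : IsCE σ) {a b : ι ⊕ ι} (hab : ab a ≠ ab b) (ξ : Lam F od) (u : F) :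
    σ (Zq S h a b ξ u) = S.xs a b (ξ.c * u) * S.xl (ng b) (Lam.act (star u) (Lam.bar ξ)) := by
  unfold Zq
  rw [map_cm, map_lf, map_lf, ceuod1_cm_ls S hab]

/-- D1 [S]  `IsCE.cm_congr`. -/
theorem Zq_eq (h : IsCE σ) {a b : ι ⊕ ι} {ξ : Lam F od} {u : F} {p q : Γ} (hp : σ p = S.xl a ξ) (hq : σ q = S.xs (ng a) b u) :
    cm p q = Zq S h a b ξ u := by
  unfold Zq
  exact h.cm_congr (by rw [hp, map_lf]) (by rw [hq, map_lf])

/-- D1 [S]  `cj_cm`, `Zq_eq`, `map_cj`, `hg.2.2`, `hg.2.1 (ng a) b`, `hg.1.pi_ng`. -/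
theorem Zq_cj (h : IsCE σ) {g : G} {π : Equiv.Perm (ι ⊕ ι)} {d : ι ⊕ ι → F} {d0 : F} (hg : S.IsMon g π d d0) {e : Γ} (he : σ e = g)
    {a b : ι ⊕ ι} (hab : ab a ≠ ab b) (ξ : Lam F od) (u : F) :
    cj e (Zq S h a b ξ u) = Zq S h (π a) (π b) (Lam.act (d a * d0⁻¹) ξ) (d (ng a) * (d b)⁻¹ * u) := by
  have e1 : cj e (Zq S h a b ξ u) = cm (cj e (lf h (S.xl a ξ))) (cj e (lf h (S.xs (ng a) b u))) :=
    cj_cm e _ _
  rw [e1]
  apply Zq_eq h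
  · rw [map_cj, he, map_lf]
    exact hg.2.2 a ξ
  · rw [map_cj, he, map_lf, ← hg.1.pi_ng a]
    have hne : ng a ≠ b ∧ ng a ≠ ng b := by
      constructor
      · intro e2
        exact (ceuod1_ne hab).2 (by rw [← e2, ng_ng])
      · intro e2
        exact (ceuod1_ne hab).1 (ng_inj.1 e2)
    exact hg.2.1 (ng a) b hne.1 hne.2 u

end D

end Cfsg.Agent.Lib.helper3.CEUO
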