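import Mathlib

/-!
# A section over a product of root groups (helper12; generic tool for the family S2114, block F4C)

`σ : Γ →* G` any homomorphism.  `Y 0, …, Y (n-1)` subgroups of `Γ` (the lifted root groups), in an order in which the
commutator of an element of `Y i` with an element of `Y j`, `i < j`, lies in the subgroup generated by the LATER
groups `Y (i+1), …, Y (n-1)`.  If `σ` is injective on every `Y i` and in `G` the image of `Y i` meets the subgroup
generated by the later images trivially, then `σ` is injective on the subgroup generated by all the `Y i`.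

* `tl Y k d = Y k ⊔ Y (k+1) ⊔ … ⊔ Y (k+d-1)`.
* `mem_tl_succ_iff`: under the commutator condition every element of `tl Y k (d+1)` is `y * t`, `y ∈ Y k`,
  `t ∈ tl Y (k+1) d`.
* `inj_tl`, `exists_section`.
-/

set_option autoImplicit false

namespace Cfsg.Agent.Lib.Helper12.ChainSec

variable {G Γ : Type*} [Group G] [Group Γ]

/-- `tl Y k d = Y k ⊔ Y (k+1) ⊔ … ⊔ Y (k+d-1)` -/
def tl (Y : ℕ → Subgroup Γ) : ℕ → ℕ → Subgroup Γ
  | _, 0 => ⊥
  | k, d + 1 => Y k ⊔ tl Y (k + 1) d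

@[simp] theorem tl_zero (Y : ℕ → Subgroup Γ) (k : ℕ) : tl Y k 0 = ⊥ := rfl

theorem tl_succ (Y : ℕ → Subgroup Γ) (k d : ℕ) : tl Y k (d + 1) = Y k ⊔ tl Y (k + 1) d := rfl

theorem le_tl (Y : ℕ → Subgroup Γ) : ∀ (d k j : ℕ), k ≤ j → j < k + d → Y j ≤ tl Y k d
  | 0, k, j, h1, h2 => by omega
  | d + 1, k, j, h1, h2 => by
    rw [tl_succ]
    rcases Nat.eq_or_lt_of_le h1 with rfl | h
    · exact le_sup_left
    · exact le_trans (le_tl Y d (k + 1) j h (by omega)) le_sup_right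

theorem tl_le (Y : ℕ → Subgroup Γ) (H : Subgroup Γ) :
    ∀ (d k : ℕ), (∀ j, k ≤ j → j < k + d → Y j ≤ H) → tl Y k d ≤ H
  | 0, k, _ => by simp
  | d + 1, k, h => by
    rw [tl_succ]
    apply sup_le
    · exact h k le_rfl (by omega)
    · exact tl_le Y H d (k + 1) fun j h1 h2 => h j (by omega) (by omega)

/-- later tails are contained in earlier ones -/
theorem tl_mono (Y : ℕ → Subgroup Γ) (d k d' k' : ℕ) (h1 : k ≤ k') (h2 : k' + d' ≤ k + d) :
    tl Y k' d' ≤ tl Y k d :=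
  tl_le Y _ d' k' fun j hj1 hj2 => le_tl Y d k j (by omega) (by omega)

theorem tl_eq_closure (Y : ℕ → Subgroup Γ) (d k : ℕ) :
    tl Y k d = Subgroup.closure {g | ∃ j, k ≤ j ∧ j < k + d ∧ g ∈ Y j} := by
  apply le_antisymm
  · apply tl_le
    intro j h1 h2 g hg
    exact Subgroup.subset_closure ⟨j, h1, h2, hg⟩
  · rw [Subgroup.closure_le]
    rintro g ⟨j, h1, h2, hg⟩
    exact le_tl Y d k j h1 h2 hg

theorem map_tl (σ : Γ →* G) (Y : ℕ → Subgroup Γ) :
    ∀ (d k : ℕ), (tl Y k d).map σ = tl (fun j => (Y j).map σ) k d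
  | 0, k => by simp [Subgroup.map_bot]
  | d + 1, k => by
    rw [tl_succ, tl_succ, Subgroup.map_sup, map_tl σ Y d (k + 1)]

/-- a subgroup `N` normalized by a subgroup `H` (weak form: `h n h⁻¹ ∈ N`): every element of `H ⊔ N` is `h * n` -/
theorem mem_sup_of_normalizes {H N : Subgroup Γ} (hn : ∀ h ∈ H, ∀ n ∈ N, h * n * h⁻¹ ∈ N) {g : Γ}
    (hg : g ∈ H ⊔ N) : ∃ h ∈ H, ∃ n ∈ N, g = h * n := by
  have hle : H ≤ Subgroup.normalizer (N : Set Γ) := by
    intro h hh
    rw [Subgroup.mem_normalizer_iff]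
    intro n
    constructor
    · exact hn h hh n
    · intro hx
      have := hn h⁻¹ (H.inv_mem hh) _ hx
      rw [inv_inv] at this
      have e : h⁻¹ * (h * n * h⁻¹) * h = n := by group
      rwa [e] at this
  have hmem : (g : Γ) ∈ ((H ⊔ N : Subgroup Γ) : Set Γ) := hg
  rw [Subgroup.coe_mul_of_left_le_normalizer_right H N hle] at hmem
  obtain ⟨h, hh, n, hnn, rfl⟩ := hmem
  exact ⟨h, hh, n, hnn, rfl⟩

/-- the commutator condition: commutators of elements of `Y i` and `Y j`, `k ≤ i < j < k + d`, lie in the later tail -/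
def Rel (Y : ℕ → Subgroup Γ) (k d : ℕ) : Prop :=
  ∀ i j, k ≤ i → i < j → j < k + d → ∀ a ∈ Y i, ∀ b ∈ Y j,
    a * b * a⁻¹ * b⁻¹ ∈ tl Y (i + 1) (k + d - (i + 1))

theorem Rel.tail {Y : ℕ → Subgroup Γ} {k d : ℕ} (h : Rel Y k (d + 1)) : Rel Y (k + 1) d := by
  intro i j h1 h2 h3 a ha b hb
  have := h i j (by omega) h2 (by omega) a ha b hb
  have e : k + (d + 1) - (i + 1) = k + 1 + d - (i + 1) := by omega
  rw [e] at this
  exact this

/-- under the commutator condition `Y k` normalizes the tail `tl Y (k+1) d` -/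
theorem Rel.normalizes {Y : ℕ → Subgroup Γ} {k d : ℕ} (h : Rel Y k (d + 1)) :
    ∀ a ∈ Y k, ∀ t ∈ tl Y (k + 1) d, a * t * a⁻¹ ∈ tl Y (k + 1) d := by
  intro a ha t ht
  rw [tl_eq_closure] at ht
  induction ht using Subgroup.closure_induction with
  | mem x hx =>
    obtain ⟨j, h1, h2, hxj⟩ := hx
    have hc := h k j le_rfl (by omega) (by omega) a ha x hxj
    have e : k + (d + 1) - (k + 1) = d := by omega
    rw [e] at hc
    have hx' : x ∈ tl Y (k + 1) d := le_tl Y d (k + 1) j h1 h2 hxj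
    have e2 : a * x * a⁻¹ = a * x * a⁻¹ * x⁻¹ * x := by group
    rw [e2]
    exact Subgroup.mul_mem _ hc hx'
  | one => simp
  | mul x y _ _ hx hy =>
    have e : a * (x * y) * a⁻¹ = (a * x * a⁻¹) * (a * y * a⁻¹) := by group
    rw [e]
    exact Subgroup.mul_mem _ hx hy
  | inv x _ hx =>
    have e : a * x⁻¹ * a⁻¹ = (a * x * a⁻¹)⁻¹ := by group
    rw [e]
    exact Subgroup.inv_mem _ hx

/-- the normal form upstairs -/
theorem mem_tl_succ_iff {Y : ℕ → Subgroup Γ} {k d : ℕ} (h : Rel Y k (d + 1)) (g : Γ) :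
    g ∈ tl Y k (d + 1) ↔ ∃ y ∈ Y k, ∃ t ∈ tl Y (k + 1) d, g = y * t := by
  constructor
  · intro hg
    rw [tl_succ] at hg
    exact mem_sup_of_normalizes h.normalizes hg
  · rintro ⟨y, hy, t, ht, rfl⟩
    rw [tl_succ]
    exact Subgroup.mul_mem _ (Subgroup.mem_sup_left hy) (Subgroup.mem_sup_right ht)

/-- **Injectivity on the subgroup generated by the lifted root groups.** -/
theorem inj_tl_aux (σ : Γ →* G) (Y : ℕ → Subgroup Γ) :
    ∀ (d k : ℕ), (∀ j, k ≤ j → j < k + d → ∀ y ∈ Y j, σ y = 1 → y = 1) → Rel Y k d →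
      (∀ i, k ≤ i → i < k + d → ∀ x ∈ (Y i).map σ, x ∈ (tl Y (i + 1) (k + d - (i + 1))).map σ → x = 1) →
      ∀ g ∈ tl Y k d, σ g = 1 → g = 1
  | 0, k, _, _, _ => by
    intro g hg _
    simpa using hg
  | d + 1, k, hinj, hrel, hdis => by
    intro g hg hσ
    obtain ⟨y, hy, t, ht, rfl⟩ := (mem_tl_succ_iff hrel g).1 hg
    rw [map_mul] at hσ
    have hy1 : σ y = 1 := by
      apply hdis k le_rfl (by omega) (σ y) ⟨y, hy, rfl⟩
      have e : k + (d + 1) - (k + 1) = d := by omega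
      rw [e]
      refine ⟨t⁻¹, Subgroup.inv_mem _ ht, ?_⟩
      rw [map_inv]
      exact (eq_inv_of_mul_eq_one_left hσ).symm
    have hy0 : y = 1 := hinj k le_rfl (by omega) y hy hy1
    rw [hy1, one_mul] at hσ
    have ht0 : t = 1 := by
      apply inj_tl_aux σ Y d (k + 1) (fun j h1 h2 => hinj j (by omega) (by omega)) hrel.tail ?_ t ht hσ
      intro i h1 h2 x hx hx'
      apply hdis i (by omega) (by omega) x hx
      have e : k + (d + 1) - (i + 1) = k + 1 + d - (i + 1) := by omega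
      rw [e]
      exact hx'
    rw [hy0, ht0, mul_one]

/-- **Injectivity on the subgroup generated by the lifted root groups** `Y 0, …, Y (n-1)`. -/
theorem inj_tl (σ : Γ →* G) (Y : ℕ → Subgroup Γ) (n : ℕ)
    (hinj : ∀ j < n, ∀ y ∈ Y j, σ y = 1 → y = 1)
    (hrel : ∀ i j, i < j → j < n → ∀ a ∈ Y i, ∀ b ∈ Y j, a * b * a⁻¹ * b⁻¹ ∈ tl Y (i + 1) (n - (i + 1)))
    (hdis : ∀ i < n, ∀ x ∈ (Y i).map σ, x ∈ (tl Y (i + 1) (n - (i + 1))).map σ → x = 1) :
    ∀ g ∈ tl Y 0 n, σ g = 1 → g = 1 := by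
  apply inj_tl_aux σ Y n 0
  · intro j _ h2 y hy h
    exact hinj j (by omega) y hy h
  · intro i j _ h2 h3 a ha b hb
    have := hrel i j h2 (by omega) a ha b hb
    rw [Nat.zero_add]
    exact this
  · intro i _ h2 x hx hx'
    apply hdis i (by omega) x hx
    rw [Nat.zero_add] at hx'
    exact hx'

/-- **The section over the product of the root groups**, in the form used by the transfer argument. -/
theorem exists_section (σ : Γ →* G) (Y : ℕ → Subgroup Γ) (n : ℕ)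
    (hinj : ∀ j < n, ∀ y ∈ Y j, σ y = 1 → y = 1)
    (hrel : ∀ i j, i < j → j < n → ∀ a ∈ Y i, ∀ b ∈ Y j, a * b * a⁻¹ * b⁻¹ ∈ tl Y (i + 1) (n - (i + 1)))
    (hdis : ∀ i < n, ∀ x ∈ (Y i).map σ, x ∈ (tl Y (i + 1) (n - (i + 1))).map σ → x = 1) :
    ∃ T : Subgroup Γ, (∀ x ∈ T, σ x = 1 → x = 1) ∧ T.map σ = tl (fun j => (Y j).map σ) 0 n :=
  ⟨tl Y 0 n, inj_tl σ Y n hinj hrel hdis, map_tl σ Y n 0⟩

/-! ### root groups given by a parametrization -/

/-- the subgroup `{f a}` of a parametrization closed under products and inverses -/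
def ofParam {α : Type*} (f : α → Γ) (one : ∃ a, f a = 1) (mul : ∀ a b, ∃ c, f a * f b = f c)
    (inv : ∀ a, ∃ c, (f a)⁻¹ = f c) : Subgroup Γ where
  carrier := Set.range f
  mul_mem' := by
    rintro _ _ ⟨a, rfl⟩ ⟨b, rfl⟩
    obtain ⟨c, hc⟩ := mul a b
    exact ⟨c, hc.symm⟩
  one_mem' := by
    obtain ⟨a, ha⟩ := one
    exact ⟨a, ha⟩
  inv_mem' := by
    rintro _ ⟨a, rfl⟩
    obtain ⟨c, hc⟩ := inv a
    exact ⟨c, hc.symm⟩

theorem mem_ofParam {α : Type*} {f : α → Γ} {one : ∃ a, f a = 1} {mul : ∀ a b, ∃ c, f a * f b = f c}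
    {inv : ∀ a, ∃ c, (f a)⁻¹ = f c} {g : Γ} : g ∈ ofParam f one mul inv ↔ ∃ a, f a = g := Iff.rfl

theorem map_ofParam (σ : Γ →* G) {α : Type*} {f : α → Γ} {one : ∃ a, f a = 1}
    {mul : ∀ a b, ∃ c, f a * f b = f c} {inv : ∀ a, ∃ c, (f a)⁻¹ = f c} {g : G} :
    g ∈ (ofParam f one mul inv).map σ ↔ ∃ a, σ (f a) = g := by
  constructor
  · rintro ⟨_, ⟨a, rfl⟩, rfl⟩
    exact ⟨a, rfl⟩
  · rintro ⟨a, rfl⟩
    exact ⟨f a, ⟨a, rfl⟩, rfl⟩

/-- the additive root groups: `f (s + t) = f s * f t` -/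
def ofAdd {A : Type*} [AddGroup A] (f : A → Γ) (hf : ∀ s t, f (s + t) = f s * f t) : Subgroup Γ :=
  ofParam f ⟨0, by
      have h := hf 0 0
      rw [add_zero] at h
      exact (mul_eq_left.mp h.symm)⟩
    (fun a b => ⟨a + b, (hf a b).symm⟩)
    (fun a => ⟨-a, by
      have h0 : f 0 = 1 := by
        have h := hf 0 0
        rw [add_zero] at h
        exact (mul_eq_left.mp h.symm)
      have h := hf a (-a)
      rw [add_neg_cancel, h0] at h
      exact inv_eq_of_mul_eq_one_right h.symm⟩)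

theorem mem_ofAdd {A : Type*} [AddGroup A] {f : A → Γ} {hf : ∀ s t, f (s + t) = f s * f t} {g : Γ} :
    g ∈ ofAdd f hf ↔ ∃ a, f a = g := Iff.rfl

end Cfsg.Agent.Lib.Helper12.ChainSec
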