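import Mathlib
import Cfsg.Prelude.Def_DegreeGraph
import Cfsg.Agent.Lib.helper6.PermChar3
import Cfsg.Agent.Lib.helper7.CharMul
import Cfsg.Agent.Lib.Helper11.VirtChar
import Cfsg.Agent.Lib.Helper1.FrobeniusThm

/-!
# DGU-H: a solvable group of order 6048 with an irreducible character of degree 42

`H = AGL(1,8) × (F_3^2 : C_6) × C_2`, all three factors given as explicit finite types.
`ψ(a,b,c) = (π_8(a) - 1)(π_9(b) - π_3(b))` is a generalized character of norm one and degree 42.
-/

set_option autoImplicit false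

namespace Cfsg.Agent.Lib.Helper12.DGUH

open scoped ComplexConjugate

/-! ## the affine group of the field of eight elements -/

/-- `F_8 : C_7`; the first coordinate is a bit vector (element of `F_8`), the second the exponent
of the primitive element. -/
def A8 : Type := Fin 8 × Fin 7

instance : DecidableEq A8 := inferInstanceAs (DecidableEq (Fin 8 × Fin 7))
instance : Fintype A8 := inferInstanceAs (Fintype (Fin 8 × Fin 7))

/-- multiplication by the primitive element `α` with `α^3 = α + 1` -/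
def tw (x : Fin 8) : Fin 8 :=
  ⟨((2 * x.val) ^^^ (if x.val < 4 then 0 else 11)) % 8, Nat.mod_lt _ (by norm_num)⟩

def rot (k : Fin 7) (x : Fin 8) : Fin 8 := tw^[k.val] x

def A8.mul (a b : A8) : A8 := (a.1 ^^^ rot a.2 b.1, a.2 + b.2)

def A8.inv (a : A8) : A8 := (rot (-a.2) a.1, -a.2)

def A8.one : A8 := (0, 0)

theorem rot_xor : ∀ (k : Fin 7) (x y : Fin 8), rot k (x ^^^ y) = rot k x ^^^ rot k y := by
  decide +kernel

theorem rot_add : ∀ (k l : Fin 7) (x : Fin 8), rot (k + l) x = rot k (rot l x) := by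
  decide +kernel

theorem xor_assoc8 : ∀ x y z : Fin 8, x ^^^ y ^^^ z = x ^^^ (y ^^^ z) := by
  decide +kernel

theorem A8.core (a1 b1 c1 : Fin 8) (a2 b2 : Fin 7) :
    (a1 ^^^ rot a2 b1) ^^^ rot (a2 + b2) c1 = a1 ^^^ rot a2 (b1 ^^^ rot b2 c1) := by
  rw [rot_xor, rot_add, xor_assoc8]

theorem A8.mul_assoc' (a b c : A8) : A8.mul (A8.mul a b) c = A8.mul a (A8.mul b c) :=
  Prod.ext (A8.core a.1 b.1 c.1 a.2 b.2) (add_assoc a.2 b.2 c.2)

instance : Group A8 where
  mul := A8.mul
  one := A8.one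
  inv := A8.inv
  mul_assoc := A8.mul_assoc'
  one_mul := by decide +kernel
  mul_one := by decide +kernel
  inv_mul_cancel := by decide +kernel

theorem A8.mul_def (a b : A8) : a * b = (a.1 ^^^ rot a.2 b.1, a.2 + b.2) := rfl

/-- the eight points -/
def X8 : Type := Fin 8

instance : DecidableEq X8 := inferInstanceAs (DecidableEq (Fin 8))
instance : Fintype X8 := inferInstanceAs (Fintype (Fin 8))

def A8.act (a : A8) (x : X8) : X8 := (a.1 ^^^ rot a.2 x : Fin 8)

instance : MulAction A8 X8 where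
  smul := A8.act
  one_smul := by decide +kernel
  mul_smul := by
    intro a b x
    exact A8.core a.1 b.1 x a.2 b.2

/-- projection to the cyclic quotient -/
def A8.proj : A8 →* Multiplicative (Fin 7) where
  toFun a := Multiplicative.ofAdd a.2
  map_one' := rfl
  map_mul' _ _ := rfl

theorem A8.ker_comm : ∀ a b : A8, a.2 = 0 → b.2 = 0 → a * b = b * a := by decide +kernel

instance : Group.IsSolvable A8 := by
  have : Group.IsSolvable A8.proj.ker := by
    apply Group.isSolvable_of_comm
    rintro ⟨a, ha⟩ ⟨b, hb⟩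
    apply Subtype.ext
    have ha' : a.2 = 0 := by
      have := MonoidHom.mem_ker.mp ha
      exact Multiplicative.ofAdd.injective this
    have hb' : b.2 = 0 := by
      have := MonoidHom.mem_ker.mp hb
      exact Multiplicative.ofAdd.injective this
    exact A8.ker_comm a b ha' hb'
  exact Group.isSolvable_of_ker_le_range A8.proj.ker.subtype A8.proj
    (by rw [Subgroup.range_subtype])

/-! ## the group `F_3^2 : C_6` of order 54 -/

def K54 : Type := (Fin 3 × Fin 3) × Fin 6

instance : DecidableEq K54 := inferInstanceAs (DecidableEq ((Fin 3 × Fin 3) × Fin 6))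
instance : Fintype K54 := inferInstanceAs (Fintype ((Fin 3 × Fin 3) × Fin 6))

/-- the matrix `-u`, `u = [[1,1],[0,1]]` -/
def mt (v : Fin 3 × Fin 3) : Fin 3 × Fin 3 := (-v.1 - v.2, -v.2)

def rot9 (k : Fin 6) (v : Fin 3 × Fin 3) : Fin 3 × Fin 3 := mt^[k.val] v

def K54.mul (a b : K54) : K54 := (a.1 + rot9 a.2 b.1, a.2 + b.2)

def K54.inv (a : K54) : K54 := (- rot9 (-a.2) a.1, -a.2)

def K54.one : K54 := (0, 0)

theorem rot9_vadd : ∀ (k : Fin 6) (v w : Fin 3 × Fin 3), rot9 k (v + w) = rot9 k v + rot9 k w := by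
  decide +kernel

theorem rot9_add : ∀ (k l : Fin 6) (v : Fin 3 × Fin 3), rot9 (k + l) v = rot9 k (rot9 l v) := by
  decide +kernel

theorem K54.core (a1 b1 c1 : Fin 3 × Fin 3) (a2 b2 : Fin 6) :
    (a1 + rot9 a2 b1) + rot9 (a2 + b2) c1 = a1 + rot9 a2 (b1 + rot9 b2 c1) := by
  rw [rot9_vadd, rot9_add, add_assoc]

theorem K54.mul_assoc' (a b c : K54) : K54.mul (K54.mul a b) c = K54.mul a (K54.mul b c) :=
  Prod.ext (K54.core a.1 b.1 c.1 a.2 b.2) (add_assoc a.2 b.2 c.2)

instance : Group K54 where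
  mul := K54.mul
  one := K54.one
  inv := K54.inv
  mul_assoc := K54.mul_assoc'
  one_mul := by decide +kernel
  mul_one := by decide +kernel
  inv_mul_cancel := by decide +kernel

/-- the nine points -/
def X9 : Type := Fin 3 × Fin 3

instance : DecidableEq X9 := inferInstanceAs (DecidableEq (Fin 3 × Fin 3))
instance : Fintype X9 := inferInstanceAs (Fintype (Fin 3 × Fin 3))

def K54.act (a : K54) (x : X9) : X9 := (a.1 + rot9 a.2 x : Fin 3 × Fin 3)

instance : MulAction K54 X9 where
  smul := K54.act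
  one_smul := by decide +kernel
  mul_smul := by
    intro a b x
    exact K54.core a.1 b.1 x a.2 b.2

/-- the three points (cosets of the line fixed by `u`) -/
def X3 : Type := Fin 3

instance : DecidableEq X3 := inferInstanceAs (DecidableEq (Fin 3))
instance : Fintype X3 := inferInstanceAs (Fintype (Fin 3))

def sgn (k : Fin 6) (y : Fin 3) : Fin 3 := if k.val % 2 = 0 then y else -y

def K54.act3 (a : K54) (y : X3) : X3 := (a.1.2 + sgn a.2 y : Fin 3)

theorem rot9_snd : ∀ (k : Fin 6) (v : Fin 3 × Fin 3), (rot9 k v).2 = sgn k v.2 := by decide +kernel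

theorem sgn_vadd : ∀ (k : Fin 6) (y z : Fin 3), sgn k (y + z) = sgn k y + sgn k z := by
  decide +kernel

theorem sgn_add : ∀ (k l : Fin 6) (y : Fin 3), sgn (k + l) y = sgn k (sgn l y) := by
  decide +kernel

theorem K54.core3 (a1 b1 : Fin 3 × Fin 3) (y : Fin 3) (a2 b2 : Fin 6) :
    (a1 + rot9 a2 b1).2 + sgn (a2 + b2) y = a1.2 + sgn a2 (b1.2 + sgn b2 y) := by
  rw [Prod.snd_add, rot9_snd, sgn_vadd, sgn_add, add_assoc]

instance : MulAction K54 X3 where
  smul := K54.act3
  one_smul := by decide +kernel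
  mul_smul := by
    intro a b y
    exact K54.core3 a.1 b.1 y a.2 b.2

def K54.proj : K54 →* Multiplicative (Fin 6) where
  toFun a := Multiplicative.ofAdd a.2
  map_one' := rfl
  map_mul' _ _ := rfl

theorem K54.ker_comm : ∀ a b : K54, a.2 = 0 → b.2 = 0 → a * b = b * a := by decide +kernel

instance : Group.IsSolvable K54 := by
  have : Group.IsSolvable K54.proj.ker := by
    apply Group.isSolvable_of_comm
    rintro ⟨a, ha⟩ ⟨b, hb⟩
    apply Subtype.ext
    have ha' : a.2 = 0 := by
      have := MonoidHom.mem_ker.mp ha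
      exact Multiplicative.ofAdd.injective this
    have hb' : b.2 = 0 := by
      have := MonoidHom.mem_ker.mp hb
      exact Multiplicative.ofAdd.injective this
    exact K54.ker_comm a b ha' hb'
  exact Group.isSolvable_of_ker_le_range K54.proj.ker.subtype K54.proj
    (by rw [Subgroup.range_subtype])

/-! ## the generalized character of norm one -/

open Cfsg.Agent.Lib.helper6.PermChar Cfsg.Agent.Lib.helper2 Cfsg.Agent.Lib.helper7

/-- the group of order 6048 -/
abbrev H6048 : Type := A8 × K54 × Multiplicative (ZMod 2)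

def f8 (a : A8) : ℕ := (Finset.univ.filter (fun x : X8 => a • x = x)).card

def f9 (b : K54) : ℕ := (Finset.univ.filter (fun x : X9 => b • x = x)).card

def f3 (b : K54) : ℕ := (Finset.univ.filter (fun x : X3 => b • x = x)).card

def u8 (a : A8) : ℤ := (f8 a : ℤ) - 1

def w9 (b : K54) : ℤ := (f9 b : ℤ) - (f3 b : ℤ)

theorem sum_u8 : ∑ a : A8, u8 a * u8 a = 56 := by decide +kernel

theorem sum_w9 : ∑ b : K54, w9 b * w9 b = 54 := by decide +kernel

theorem u8_one : u8 1 = 7 := by decide +kernel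

theorem w9_one : w9 1 = 6 := by decide +kernel

theorem piChar8 (a : A8) : piChar A8 X8 a = ((f8 a : ℕ) : ℂ) := by
  unfold piChar f8
  rw [← fx_eq_card_filter]
  rfl

theorem piChar9 (b : K54) : piChar K54 X9 b = ((f9 b : ℕ) : ℂ) := by
  unfold piChar f9
  rw [← fx_eq_card_filter]
  rfl

theorem piChar3 (b : K54) : piChar K54 X3 b = ((f3 b : ℕ) : ℂ) := by
  unfold piChar f3
  rw [← fx_eq_card_filter]
  rfl

/-- the character `(π_8 - 1)(π_9 - π_3)` -/
noncomputable def theta : H6048 → ℂ :=
  ((fun h => piChar A8 X8 h.1) - (fun _ => (1 : ℂ))) *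
    ((fun h => piChar K54 X9 h.2.1) - (fun h => piChar K54 X3 h.2.1))

theorem theta_apply (h : H6048) : theta h = ((u8 h.1 * w9 h.2.1 : ℤ) : ℂ) := by
  unfold theta u8 w9
  simp only [Pi.mul_apply, Pi.sub_apply, piChar8, piChar9, piChar3]
  push_cast
  ring

theorem theta_genChar : Cfsg.IsGeneralizedCharacter H6048 theta := by
  have ha : Cfsg.IsCharacter H6048 (fun h => piChar A8 X8 h.1) := by
    have h0 : Cfsg.IsCharacter A8 (piChar A8 X8) := piChar_isCharacter
    exact isCharacter_comp_hom h0 (MonoidHom.fst A8 (K54 × Multiplicative (ZMod 2)))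
  have hb : Cfsg.IsCharacter H6048 (fun _ => (1 : ℂ)) :=
    Cfsg.Agent.Lib.Helper1.isCharacter_const_one H6048
  have hc : Cfsg.IsCharacter H6048 (fun h => piChar K54 X9 h.2.1) := by
    have h0 : Cfsg.IsCharacter K54 (piChar K54 X9) := piChar_isCharacter
    exact isCharacter_comp_hom h0
      ((MonoidHom.fst K54 (Multiplicative (ZMod 2))).comp
        (MonoidHom.snd A8 (K54 × Multiplicative (ZMod 2))))
  have hd : Cfsg.IsCharacter H6048 (fun h => piChar K54 X3 h.2.1) := by
    have h0 : Cfsg.IsCharacter K54 (piChar K54 X3) := piChar_isCharacter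
    exact isCharacter_comp_hom h0
      ((MonoidHom.fst K54 (Multiplicative (ZMod 2))).comp
        (MonoidHom.snd A8 (K54 × Multiplicative (ZMod 2))))
  refine ⟨_, _, isCharacter_add (h7_isCharacter_mul ha hc) (h7_isCharacter_mul hb hd),
    isCharacter_add (h7_isCharacter_mul ha hd) (h7_isCharacter_mul hb hc), ?_⟩
  unfold theta
  ring

theorem card_A8 : Fintype.card A8 = 56 := by decide +kernel

theorem card_K54 : Fintype.card K54 = 54 := by decide +kernel

theorem card_C2 : Fintype.card (Multiplicative (ZMod 2)) = 2 := by decide +kernel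

theorem card_H6048 : Nat.card H6048 = 6048 := by
  rw [Nat.card_eq_fintype_card, Fintype.card_prod, Fintype.card_prod, card_A8, card_K54, card_C2]

theorem sum_z : ∑ h : H6048, (u8 h.1 * w9 h.2.1) * (u8 h.1 * w9 h.2.1) = 6048 := by
  have hc : ∀ (a : A8) (b : K54), ∑ _c : Multiplicative (ZMod 2),
      (u8 a * w9 b) * (u8 a * w9 b) = 2 * ((u8 a * u8 a) * (w9 b * w9 b)) := by
    intro a b
    rw [Finset.sum_const, Finset.card_univ]
    rw [card_C2]
    ring
  simp only [Fintype.sum_prod_type, hc, ← Finset.mul_sum, ← Finset.sum_mul, sum_u8, sum_w9]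
  norm_num

theorem theta_norm : Cfsg.classInner theta theta = 1 := by
  unfold Cfsg.classInner
  have h1 : ∀ h : H6048, theta h * conj (theta h)
      = (((u8 h.1 * w9 h.2.1) * (u8 h.1 * w9 h.2.1) : ℤ) : ℂ) := by
    intro h
    rw [theta_apply, map_intCast]
    push_cast
    ring
  rw [Finset.sum_congr rfl (fun h _ => h1 h), ← Int.cast_sum, sum_z, card_H6048]
  norm_num

theorem theta_one : theta 1 = ((42 : ℕ) : ℂ) := by
  rw [theta_apply]
  show ((u8 1 * w9 1 : ℤ) : ℂ) = _
  rw [u8_one, w9_one]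
  norm_num

theorem degree42 : 42 ∈ Cfsg.charDegrees H6048 := by
  obtain ⟨ε, η, hε, hθ⟩ := Cfsg.Agent.Lib.Helper11.genChar_norm_one theta theta_genChar theta_norm
  obtain ⟨n, hn⟩ := isCharacter_one_eq_nat (isCharacter_of_irr η)
  have h1 : ((42 : ℕ) : ℂ) = (ε : ℂ) * (n : ℂ) := by
    rw [← theta_one, hθ, Pi.smul_apply, smul_eq_mul, hn]
  refine ⟨η, ?_⟩
  suffices hs : (η : H6048 → ℂ) 1 = ((42 : ℕ) : ℂ) by
    show Cfsg.charDegree (η : H6048 → ℂ) = 42
    unfold Cfsg.charDegree
    rw [hs, Complex.natCast_re, Nat.floor_natCast]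
  rcases hε with rfl | rfl
  · rw [hn]
    have : ((42 : ℕ) : ℂ) = ((n : ℕ) : ℂ) := by
      rw [h1]; push_cast; ring
    exact this.symm
  · exfalso
    have : (((42 + n : ℕ)) : ℂ) = 0 := by
      push_cast
      push_cast at h1
      rw [h1]; ring
    have := Nat.cast_eq_zero.mp this
    omega

end Cfsg.Agent.Lib.Helper12.DGUH

namespace Cfsg.Agent.Lib.Helper21.DGU

/-- DGU-H: the solvable side. -/
theorem exists_solvable_6048 : ∃ (H : Type) (_ : Group H) (_ : Fintype H),
    Group.IsSolvable H ∧ Nat.card H = 6048 ∧ ∃ d ∈ Cfsg.charDegrees H, 42 ∣ d :=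
  ⟨Cfsg.Agent.Lib.Helper12.DGUH.H6048, inferInstance, inferInstance, inferInstance,
    Cfsg.Agent.Lib.Helper12.DGUH.card_H6048, 42, Cfsg.Agent.Lib.Helper12.DGUH.degree42, dvd_rfl⟩

end Cfsg.Agent.Lib.Helper21.DGU
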