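import Mathlib
import Cfsg.Agent.Lib.helper6.F4G.Defs

/-!
# F4G rows G1 + G2 (helper12): the intervals `ivl X i j`, `R.T i j`, the ordered product
-/

set_option autoImplicit false

namespace Cfsg.Agent.Lib.helper6.F4G

open Cfsg.Agent.Lib.helper15.St2 Cfsg.Agent.Lib.helper7.Ce

variable {G Γ : Type*} [Group G] [Group Γ]

-- ROW G1
theorem ivl_le_iff (X : ℕ → Subgroup G) {i j : ℕ} (H : Subgroup G) : ivl X i j ≤ H ↔ ∀ m, i ≤ m → m ≤ j → X m ≤ H := by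
  unfold ivl
  rw [iSup₂_le_iff]
  constructor
  · intro h m h1 h2
    exact h m (Finset.mem_Icc.2 ⟨h1, h2⟩)
  · intro h m hm
    rw [Finset.mem_Icc] at hm
    exact h m hm.1 hm.2

theorem le_ivl (X : ℕ → Subgroup G) {i j m : ℕ} (hi : i ≤ m) (hj : m ≤ j) : X m ≤ ivl X i j :=
  (ivl_le_iff X (ivl X i j)).1 le_rfl m hi hj

theorem ivl_mono (X : ℕ → Subgroup G) {i j i' j' : ℕ} (hi : i' ≤ i) (hj : j ≤ j') : ivl X i j ≤ ivl X i' j' := by
  rw [ivl_le_iff]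
  intro m h1 h2
  exact le_ivl X (le_trans hi h1) (le_trans h2 hj)

theorem ivl_eq_bot (X : ℕ → Subgroup G) {i j : ℕ} (h : j < i) : ivl X i j = ⊥ := by
  rw [eq_bot_iff, ivl_le_iff]
  intro m h1 h2
  omega

theorem ivl_succ (X : ℕ → Subgroup G) {i j : ℕ} (h : i ≤ j + 1) : ivl X i (j + 1) = ivl X i j ⊔ X (j + 1) := by
  apply le_antisymm
  · rw [ivl_le_iff]
    intro m h1 h2
    rcases Nat.lt_or_ge j m with h3 | h3
    · have : m = j + 1 := by omega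
      subst this
      exact le_sup_right
    · exact le_trans (le_ivl X h1 h3) le_sup_left
  · apply sup_le
    · exact ivl_mono X le_rfl (Nat.le_succ j)
    · exact le_ivl X h le_rfl

theorem oprod_succ (f : ℕ → G) (i d : ℕ) : oprod f i (d + 1) = oprod f i d * f (i + d) := by
  unfold oprod
  rw [List.range_succ, List.map_append, List.prod_append]
  simp

theorem oprod_zero (f : ℕ → G) (i : ℕ) : oprod f i 0 = 1 := by
  simp [oprod]

theorem eq_of_injOn {σ : Γ →* G} {T : Subgroup Γ} (h : InjOn σ T) {a b : Γ} (ha : a ∈ T) (hb : b ∈ T) (hab : σ a = σ b) : a = b := by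
  have h1 : a * b⁻¹ = 1 := by
    apply h _ (T.mul_mem ha (T.inv_mem hb))
    rw [map_mul, map_inv, hab, mul_inv_cancel]
  exact mul_inv_eq_one.1 h1

namespace RootSeq

variable {σ : Γ →* G} {n : ℕ} (R : RootSeq σ n)

-- ROW G2
theorem T_le_iff {i j : ℕ} (H : Subgroup Γ) : R.T i j ≤ H ↔ ∀ m, i ≤ m → m ≤ j → ∀ x : ↥(R.X m), R.s m x ∈ H := by
  unfold T
  rw [iSup₂_le_iff]
  constructor
  · intro h m h1 h2 x
    exact h m (Finset.mem_Icc.2 ⟨h1, h2⟩) ⟨x, rfl⟩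
  · rintro h m hm _ ⟨x, rfl⟩
    rw [Finset.mem_Icc] at hm
    exact h m hm.1 hm.2 x

theorem s_mem_T {i j m : ℕ} (hi : i ≤ m) (hj : m ≤ j) (x : ↥(R.X m)) : R.s m x ∈ R.T i j :=
  (R.T_le_iff (R.T i j)).1 le_rfl m hi hj x

theorem T_mono {i j i' j' : ℕ} (hi : i' ≤ i) (hj : j ≤ j') : R.T i j ≤ R.T i' j' := by
  rw [T_le_iff]
  intro m h1 h2 x
  exact R.s_mem_T (le_trans hi h1) (le_trans h2 hj) x

theorem T_eq_bot {i j : ℕ} (h : j < i) : R.T i j = ⊥ := by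
  rw [eq_bot_iff, T_le_iff]
  intro m h1 h2
  omega

theorem T_succ {i j : ℕ} (h : i ≤ j + 1) : R.T i (j + 1) = R.T i j ⊔ (R.s (j + 1)).range := by
  apply le_antisymm
  · rw [T_le_iff]
    intro m h1 h2 x
    rcases Nat.lt_or_ge j m with h3 | h3
    · have : m = j + 1 := by omega
      subst this
      exact Subgroup.mem_sup_right ⟨x, rfl⟩
    · exact Subgroup.mem_sup_left (R.s_mem_T h1 h3 x)
  · apply sup_le
    · exact R.T_mono le_rfl (Nat.le_succ j)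
    · rintro _ ⟨x, rfl⟩
      exact R.s_mem_T h le_rfl x

theorem f4gg2h12_map_range (m : ℕ) : (R.s m).range.map σ = R.X m := by
  ext g
  constructor
  · rintro ⟨_, ⟨x, rfl⟩, rfl⟩
    rw [R.hs]
    exact x.2
  · intro hg
    exact ⟨R.s m ⟨g, hg⟩, ⟨⟨g, hg⟩, rfl⟩, R.hs m ⟨g, hg⟩⟩

theorem map_T (i j : ℕ) : (R.T i j).map σ = ivl R.X i j := by
  unfold T ivl
  rw [Subgroup.map_iSup]
  congr 1
  funext m
  rw [Subgroup.map_iSup]
  congr 1
  funext _
  exact R.f4gg2h12_map_range m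

theorem exists_mem_T {i j : ℕ} {v : G} (hv : v ∈ ivl R.X i j) : ∃ t ∈ R.T i j, σ t = v := by
  rw [← R.map_T] at hv
  obtain ⟨t, ht, rfl⟩ := hv
  exact ⟨t, ht, rfl⟩

end RootSeq

end Cfsg.Agent.Lib.helper6.F4G
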