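import Mathlib
import Cfsg.Agent.Lib.Helper12.McLM.OddLift
import Cfsg.Agent.Lib.helper3.StemTools

/-!
Central extensions with a kernel of order prime to `q`: an element of the quotient whose `q`-th power is trivial has
exactly one lift with this property, and a relation which says that a conjugate of such an element is a power of
another one holds for the lifts as well.  Hence a group presented by such relations between elements of order `q`
maps onto every stem extension, with a kernel of order prime to `q`, of a quotient of it (helper12).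
-/

set_option autoImplicit false

namespace Cfsg.Agent.Lib.Helper12.QLift

open Cfsg.Agent.Lib.Helper12.TC Cfsg.Agent.Lib.Helper12.TCG

section Lift

variable {Γ G : Type*} [Group Γ] [Group G] (σ : Γ →* G)

theorem eq_one_of_pow_of_coprime [Finite Γ] (q : ℕ) (hq : Nat.Coprime q (Nat.card σ.ker)) {c : Γ}
    (hc : c ∈ σ.ker) (h : c ^ q = 1) : c = 1 := by
  have h1 : orderOf (⟨c, hc⟩ : σ.ker) ∣ Nat.card σ.ker := orderOf_dvd_natCard _
  have h2 : orderOf (⟨c, hc⟩ : σ.ker) ∣ q := by
    apply orderOf_dvd_of_pow_eq_one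
    apply Subtype.ext
    rw [Subgroup.coe_pow]
    exact h
  have h3 : orderOf (⟨c, hc⟩ : σ.ker) = 1 := Nat.eq_one_of_dvd_coprimes hq h2 h1
  have := orderOf_eq_one_iff.mp h3
  exact congrArg Subtype.val this

/-- the lift whose `q`-th power is trivial -/
theorem exists_pow_lift [Finite Γ] (hs : Function.Surjective σ) (hcen : σ.ker ≤ Subgroup.center Γ)
    (q : ℕ) (hq : Nat.Coprime q (Nat.card σ.ker)) {g : G} (hg : g ^ q = 1) :
    ∃ y : Γ, σ y = g ∧ y ^ q = 1 := by
  obtain ⟨y0, hy0⟩ := hs g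
  have hk : y0 ^ q ∈ σ.ker := by
    rw [MonoidHom.mem_ker, map_pow, hy0, hg]
  obtain ⟨k', hk'⟩ := (powCoprime hq.symm).surjective (⟨y0 ^ q, hk⟩⁻¹ : σ.ker)
  rw [powCoprime_apply] at hk'
  have hk'' : (k' : Γ) ^ q = (y0 ^ q)⁻¹ := by
    have := congrArg Subtype.val hk'
    rwa [Subgroup.coe_pow] at this
  have hcomm : Commute y0 (k' : Γ) :=
    (Subgroup.mem_center_iff.mp (hcen k'.2) y0)
  refine ⟨y0 * k', ?_, ?_⟩
  · rw [map_mul, hy0, MonoidHom.mem_ker.mp k'.2, mul_one]
  · rw [hcomm.mul_pow, hk'', mul_inv_cancel]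

theorem pow_lift_unique [Finite Γ] (hcen : σ.ker ≤ Subgroup.center Γ) (q : ℕ)
    (hq : Nat.Coprime q (Nat.card σ.ker)) {y1 y2 : Γ} (h1 : y1 ^ q = 1) (h2 : y2 ^ q = 1)
    (h : σ y1 = σ y2) : y1 = y2 := by
  have hc : y1⁻¹ * y2 ∈ σ.ker := by
    rw [MonoidHom.mem_ker, map_mul, map_inv, h, inv_mul_cancel]
  have hcomm : Commute y1 (y1⁻¹ * y2) := Subgroup.mem_center_iff.mp (hcen hc) y1
  have e : y2 = y1 * (y1⁻¹ * y2) := by group
  have h3 : (y1⁻¹ * y2) ^ q = 1 := by
    have := h2
    rw [e, hcomm.mul_pow, h1, one_mul] at this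
    exact this
  have h4 := eq_one_of_pow_of_coprime σ q hq hc h3
  rw [e, h4, mul_one]

/-- a conjugate which is a power of an element: the relation holds for the lifts -/
theorem conj_lift [Finite Γ] (hcen : σ.ker ≤ Subgroup.center Γ) (q : ℕ)
    (hq : Nat.Coprime q (Nat.card σ.ker)) {x x' w : Γ} (hx : x ^ q = 1) (hx' : x' ^ q = 1) (m : ℕ)
    (h : σ (w⁻¹ * x * w) = σ (x' ^ m)) : w⁻¹ * x * w = x' ^ m := by
  apply pow_lift_unique σ hcen q hq _ _ h
  · have : w⁻¹ * x * w = w⁻¹ * x * w⁻¹⁻¹ := by rw [inv_inv]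
    rw [this, conj_pow, hx, mul_one, mul_inv_cancel]
  · rw [← pow_mul, mul_comm, pow_mul, hx', one_pow]

end Lift

section Words

variable {Γ : Type*} [Group Γ]

/-- the inverse letter: the letters `2 i` and `2 i + 1` are inverse to each other -/
def flp (s : ℕ) : ℕ := if s % 2 = 0 then s + 1 else s - 1

/-- the inverse word -/
def invw (w : List ℕ) : List ℕ := (w.map flp).reverse

theorem wprod_invw (f : ℕ → Γ) (hf : ∀ s, f (flp s) = (f s)⁻¹) (w : List ℕ) :
    wprod f (invw w) = (wprod f w)⁻¹ := by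
  induction w with
  | nil => simp [invw, wprod_nil]
  | cons s w ih =>
    have : invw (s :: w) = invw w ++ [flp s] := by simp [invw]
    rw [this, wprod_append, ih, wprod_cons, wprod_cons, wprod_nil, mul_one, mul_inv_rev, hf s]

theorem wprod_replicate (f : ℕ → Γ) (m t : ℕ) : wprod f (List.replicate m t) = f t ^ m := by
  induction m with
  | zero => simp [wprod_nil]
  | succ m ih => rw [List.replicate_succ, wprod_cons, ih, pow_succ']

/-- the shape of a relator: the conjugate of the letter `2 i` by the word `w`, times the `m`-th power of the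
letter `t` -/
structure Cert where
  /-- the conjugating word -/
  w : List ℕ
  /-- the conjugated generator -/
  i : ℕ
  /-- the letter of the power -/
  t : ℕ
  /-- the exponent -/
  m : ℕ

/-- the relator of a shape -/
def Cert.word (c : Cert) : List ℕ := invw c.w ++ (2 * c.i) :: (c.w ++ List.replicate c.m c.t)

theorem wprod_cert (f : ℕ → Γ) (hf : ∀ s, f (flp s) = (f s)⁻¹) (c : Cert) :
    wprod f c.word = (wprod f c.w)⁻¹ * f (2 * c.i) * wprod f c.w * f c.t ^ c.m := by
  unfold Cert.word
  rw [wprod_append, wprod_cons, wprod_append, wprod_invw f hf, wprod_replicate]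
  group

end Words

section Main

variable {Γ G : Type*} [Group Γ] [Group G] (σ : Γ →* G)

theorem lift_rel [Finite Γ] (hcen : σ.ker ≤ Subgroup.center Γ) (q : ℕ)
    (hq : Nat.Coprime q (Nat.card σ.ker)) (f : ℕ → Γ) (hf : ∀ s, f (flp s) = (f s)⁻¹)
    (hfq : ∀ s, f s ^ q = 1) (c : Cert)
    (h : wprod (fun s => σ (f s)) c.word = 1) : wprod f c.word = 1 := by
  rw [WPres.wprod_map σ f] at h
  rw [wprod_cert f hf] at h ⊢
  have hx' : ((f c.t)⁻¹) ^ q = 1 := by rw [inv_pow, hfq, inv_one]
  have key : (wprod f c.w)⁻¹ * f (2 * c.i) * wprod f c.w = ((f c.t)⁻¹) ^ c.m := by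
    apply conj_lift σ hcen q hq (hfq _) hx'
    rw [inv_pow, map_inv]
    rw [map_mul] at h
    exact eq_inv_of_mul_eq_one_left h
  rw [key, inv_pow, inv_mul_cancel]

/-- a group presented by relators of the shapes above on elements of order `q` maps onto every finite stem
extension, with a kernel of order prime to `q`, of a group generated by elements which satisfy the relators -/
theorem exists_surj_of_coprime_stem [Finite Γ] (hσ : Cfsg.IsStemExtension σ) (q : ℕ)
    (hq : Nat.Coprime q (Nat.card σ.ker))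
    (n : ℕ) (baseL : List (List ℕ)) (hlet : lettersK (2 * n) baseL = true) (certs : List Cert)
    (hshape : ∀ b ∈ baseL, b = [] ∨ (∃ s, b = [s, flp s]) ∨ (∃ s, b = List.replicate q s) ∨
      ∃ c ∈ certs, b = c.word)
    (hpow : ∀ i < n, List.replicate q (2 * i) ∈ baseL)
    (hpair : ∀ i < n, [2 * i, 2 * i + 1] ∈ baseL)
    (x : ℕ → G) (hx : ∀ b ∈ baseL, wprod x b = 1)
    (hgen : Subgroup.closure {y | ∃ s < 2 * n, y = x s} = ⊤) :
    ∃ ψ : WPres.Grp (2 * n) baseL →* Γ, Function.Surjective ψ ∧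
      ∀ s < 2 * n, σ (ψ (WPres.v (2 * n) baseL s)) = x s := by
  have hcen := hσ.2.1
  have hxq : ∀ i < n, x (2 * i) ^ q = 1 := by
    intro i hi
    have := hx _ (hpow i hi)
    rwa [wprod_replicate] at this
  have hxinv : ∀ i < n, x (2 * i + 1) = (x (2 * i))⁻¹ := by
    intro i hi
    have := hx _ (hpair i hi)
    rw [wprod_cons, wprod_cons, wprod_nil, mul_one] at this
    exact (inv_eq_of_mul_eq_one_right this).symm
  -- the lifts
  have hex : ∀ i : ℕ, ∃ y : Γ, (i < n → σ y = x (2 * i)) ∧ y ^ q = 1 := by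
    intro i
    by_cases hi : i < n
    · obtain ⟨y, hy1, hy2⟩ := exists_pow_lift σ hσ.1 hcen q hq (hxq i hi)
      exact ⟨y, fun _ => hy1, hy2⟩
    · exact ⟨1, fun h => absurd h hi, one_pow q⟩
  choose y hy1 hy2 using hex
  set f : ℕ → Γ := fun s => if s % 2 = 0 then y (s / 2) else (y (s / 2))⁻¹ with hfdef
  have hf : ∀ s, f (flp s) = (f s)⁻¹ := by
    intro s
    simp only [hfdef, flp]
    by_cases hs : s % 2 = 0
    · have h1 : (s + 1) % 2 ≠ 0 := by omega
      have h2 : (s + 1) / 2 = s / 2 := by omega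
      rw [if_pos hs, if_neg h1, if_pos hs, h2]
    · have h1 : (s - 1) % 2 = 0 := by omega
      have h2 : (s - 1) / 2 = s / 2 := by omega
      rw [if_neg hs, if_pos h1, if_neg hs, h2, inv_inv]
  have hfq : ∀ s, f s ^ q = 1 := by
    intro s
    simp only [hfdef]
    by_cases hs : s % 2 = 0
    · rw [if_pos hs]; exact hy2 _
    · rw [if_neg hs, inv_pow, hy2, inv_one]
  have hσf : ∀ s < 2 * n, σ (f s) = x s := by
    intro s hs
    simp only [hfdef]
    by_cases hs2 : s % 2 = 0
    · rw [if_pos hs2, hy1 (s / 2) (by omega)]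
      congr 1; omega
    · rw [if_neg hs2, map_inv, hy1 (s / 2) (by omega), ← hxinv (s / 2) (by omega)]
      congr 1; omega
  have hw : ∀ b ∈ baseL, wprod f b = 1 := by
    intro b hb
    have hbl : ∀ s ∈ b, s < 2 * n := fun s hs => lettersK_lt hlet hb hs
    have hσfw : wprod (fun s => σ (f s)) b = wprod x b := by
      have : ∀ l : List ℕ, (∀ s ∈ l, s < 2 * n) → wprod (fun s => σ (f s)) l = wprod x l := by
        intro l
        induction l with
        | nil => intro _; rfl
        | cons s l ih =>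
          intro hl
          rw [wprod_cons, wprod_cons, ih (fun t ht => hl t (List.mem_cons_of_mem _ ht)),
            hσf s (hl s List.mem_cons_self)]
      exact this b hbl
    rcases hshape b hb with rfl | ⟨s, rfl⟩ | ⟨s, rfl⟩ | ⟨c, _, rfl⟩
    · rfl
    · rw [wprod_cons, wprod_cons, wprod_nil, mul_one, hf s, mul_inv_cancel]
    · rw [wprod_replicate]
      exact hfq s
    · apply lift_rel σ hcen q hq f hf hfq c
      rw [hσfw]
      exact hx _ hb
  obtain ⟨ψ, hψ⟩ := WPres.hlift (2 * n) baseL hlet f hw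
  refine ⟨ψ, ?_, ?_⟩
  · rw [← MonoidHom.range_eq_top]
    apply Cfsg.Agent.Lib.Helper12.McLM.OddLift.eq_top_of_map_eq_top σ hσ
    rw [eq_top_iff, ← hgen, Subgroup.closure_le]
    rintro y' ⟨s, hs, rfl⟩
    exact ⟨ψ (WPres.v (2 * n) baseL s), ⟨_, rfl⟩, by rw [hψ s hs]; exact hσf s hs⟩
  · intro s hs
    rw [hψ s hs]
    exact hσf s hs

/-- the kernel of a stem extension is the image of the kernel of the presented group -/
theorem ker_eq_map {U : Type*} [Group U] (φ : U →* G) (ψ : U →* Γ) (hψ : Function.Surjective ψ)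
    (h : σ.comp ψ = φ) : σ.ker = φ.ker.map ψ := by
  ext k
  constructor
  · intro hk
    obtain ⟨u, rfl⟩ := hψ k
    refine ⟨u, ?_, rfl⟩
    rw [SetLike.mem_coe, MonoidHom.mem_ker, ← h, MonoidHom.comp_apply]
    exact hk
  · rintro ⟨u, hu, rfl⟩
    rw [SetLike.mem_coe] at hu
    rw [MonoidHom.mem_ker] at hu ⊢
    rw [← MonoidHom.comp_apply, h]
    exact hu

end Main

section Cyclic

open Cfsg.Agent.Lib.helper3

variable {Γ G : Type*} [Group Γ] [Group G]

/-- a prime whose square does not divide the order of the group does not divide the order of the kernel of a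
finite stem extension -/
theorem not_dvd_card_ker_of_sq_not_dvd [Finite G] [Finite Γ] (p : ℕ) [hp : Fact p.Prime]
    (hsq : ¬ p ^ 2 ∣ Nat.card G) (σ : Γ →* G) (hσ : Cfsg.IsStemExtension σ) :
    ¬ p ∣ Nat.card σ.ker := by
  intro hdvd
  obtain ⟨hsurj, hcen, hder⟩ := hσ
  obtain ⟨a, ha⟩ := exists_prime_orderOf_dvd_card' p hdvd
  obtain ⟨Rr⟩ : Nonempty (Sylow p G) := inferInstance
  have hcyc : IsCyclic (Rr : Subgroup G) := by
    obtain ⟨j, hj⟩ := IsPGroup.iff_card.mp Rr.2
    have hdvd2 : p ^ j ∣ Nat.card G := by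
      rw [← hj]
      exact Subgroup.card_subgroup_dvd_card _
    have hj1 : j ≤ 1 := by
      by_contra hlt
      push Not at hlt
      exact hsq (dvd_trans (pow_dvd_pow p hlt) hdvd2)
    interval_cases j
    · rw [pow_zero] at hj
      have : Subsingleton (Rr : Subgroup G) := (Nat.card_eq_one_iff_unique.mp hj).1
      exact isCyclic_of_subsingleton
    · rw [pow_one] at hj
      exact isCyclic_of_prime_card hj
  have hind : ¬ p ∣ (Rr : Subgroup G).index := Sylow.not_dvd_index Rr
  have hz : (a : Γ) ^ p = 1 := by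
    have := pow_orderOf_eq_one a
    rw [ha] at this
    have h2 := congrArg Subtype.val this
    rwa [Subgroup.coe_pow] at h2
  have h1 : (a : Γ) = 1 := by
    refine stem_no_prime_of_subgroup σ hsurj hcen hder (Rr : Subgroup G) hind ?_ a.2 hz
    intro w hw _
    exact comm_comap_trivial_of_cyclic σ hcen (Rr : Subgroup G) w hw
  have h2 : a = 1 := Subtype.ext h1
  rw [h2, orderOf_one] at ha
  exact hp.out.one_lt.ne ha

end Cyclic

end Cfsg.Agent.Lib.Helper12.QLift
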