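import Mathlib
import Cfsg.Agent.Lib.Helper19.G2V.Defs

/-!
# Project G2V (S2461), row C6 (core): `X 0 r * iota A * u` is a product of two conjugates of `xG`,
from the statements of the rows L6, I7, J6, CB, I2, Q2, M2 (`X_mem_Qp`), I6 and `Qp ≤ Gp`
(helper12).  `CovG.of_conj` is proved here under the name `g2vc6_of_conj`.
-/

set_option autoImplicit false

namespace Cfsg.Agent.Lib.Helper19.G2V

open Cfsg.Lie Cfsg.Lie.ChevalleyDatum Matrix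
open Cfsg.Agent.Lib.helper8
open Cfsg.Agent.Lib.helper23.P4V

universe u

variable {F : Type u} [Field F]

/-- `CovG` is invariant under conjugation by `Gp` (= row G `CovG.of_conj`) -/
theorem g2vc6_of_conj {x g : GG F} (c : GG F) (hc : c ∈ Gp F) (h : CovG x (c * g * c⁻¹)) :
    CovG x g := by
  obtain ⟨a, ha, b, hb, e⟩ := h
  refine ⟨c⁻¹ * a, mul_mem (inv_mem hc) ha, c⁻¹ * b, mul_mem (inv_mem hc) hb, ?_⟩
  have : g = c⁻¹ * (c * g * c⁻¹) * c := by group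
  rw [this, e]
  group

/-- the determinant of an element of `GL₂(F)` is not zero -/
theorem g2vc6_det_ne (A : GL (Fin 2) F) : (A : M2 F).det ≠ 0 := by
  have := A.isUnit.map (Matrix.detMonoidHom (n := Fin 2) (R := F))
  exact this.ne_zero

/-- C6 with the statements of L6, I7, J6, CB, I2, Q2, M2, I6, M2/M3 as hypotheses. -/
theorem g2vc6_core (τ ν : F) (hG : Good' τ ν)
    (hL6 : ∀ A : M2 F, A.det ≠ 0 → ∃ P : M2 F, P.det ≠ 0 ∧ ∃ D1 D2 : F, D1 ≠ 0 ∧ D2 ≠ 0 ∧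
      InSig ν (!![D1, 0; 0, D2] * (P * A * P⁻¹)))
    (hI7 : ∀ (A : GL (Fin 2) F) (r : F),
      iota A * X 0 r * (iota A)⁻¹ = X 0 (r / (A : M2 F).det))
    (hJ6 : ∀ r s s1 s4 : F, 1 + s * r ≠ 0 → 1 + s * r + s1 * s4 * r ≠ 0 →
      ∀ B : GL (Fin 2) F, (B : M2 F) = !![1 + s * r, 0; 0, 1 + s * r + s1 * s4 * r] →
      ∃ v' ∈ Qm F, ∃ u' ∈ Qp F, X 6 s1 * X 10 s4 * X 11 s * X 0 r = v' * iota B * u')
    (hCB : ∀ v' : GG F, v' ∈ Qm F → ∀ u' : GG F, u' ∈ Qp F → ∀ M : GL (Fin 2) F,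
      InSig ν (M : M2 F) → CovG (xG τ ν hG.1.nu_ne_zero) (v' * iota M * u'))
    (hmul : ∀ A B : GL (Fin 2) F, iota (A * B) = iota A * iota B)
    (hinv : ∀ A : GL (Fin 2) F, iota A⁻¹ = (iota A)⁻¹)
    (hQ2 : ∀ (A : GL (Fin 2) F) (u : GG F), u ∈ Qp F → iota A * u * (iota A)⁻¹ ∈ Qp F)
    (hQ2' : ∀ (A : GL (Fin 2) F) (u : GG F), u ∈ Qp F → (iota A)⁻¹ * u * iota A ∈ Qp F)
    (hXQ : ∀ r : ℕ, r ∈ [6, 8, 9, 10, 11] → ∀ t : F, X r t ∈ Qp F)
    (hI6 : ∀ A : GL (Fin 2) F, iota A ∈ Gp F)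
    (hQG : Qp F ≤ Gp F)
    (r : F) (hr : r ≠ 0) (A : GL (Fin 2) F) (u : GG F) (hu : u ∈ Qp F) :
    CovG (xG τ ν hG.1.nu_ne_zero) (X 0 r * iota A * u) := by
  obtain ⟨P, hP, D1, D2, hD1, hD2, hIn⟩ := hL6 (A : M2 F) (g2vc6_det_ne A)
  set Pg : GL (Fin 2) F := mk2 P hP with hPg
  apply g2vc6_of_conj (iota Pg) (hI6 Pg)
  set r' : F := r / P.det with hr'
  have hr'0 : r' ≠ 0 := div_ne_zero hr hP
  have hX : iota Pg * X 0 r * (iota Pg)⁻¹ = X 0 r' := hI7 Pg r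
  set A' : GL (Fin 2) F := Pg * A * Pg⁻¹ with hA'
  set u1 : GG F := iota Pg * u * (iota Pg)⁻¹ with hu1
  have hu1m : u1 ∈ Qp F := hQ2 Pg u hu
  have e1 : iota Pg * (X 0 r * iota A * u) * (iota Pg)⁻¹ = X 0 r' * iota A' * u1 := by
    rw [hA', hmul, hmul, hinv, ← hX, hu1]
    group
  rw [e1]
  -- the second conjugation
  set s : F := (D1 - 1) / r' with hs
  set s4 : F := (D2 - D1) / r' with hs4
  have h1 : 1 + s * r' = D1 := by
    rw [hs]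
    field_simp
    ring
  have h2 : 1 + s * r' + 1 * s4 * r' = D2 := by
    rw [hs, hs4]
    field_simp
    ring
  have hBdet : (!![D1, 0; 0, D2] : M2 F).det ≠ 0 := by
    rw [Matrix.det_fin_two_of, mul_zero, sub_zero]
    exact mul_ne_zero hD1 hD2
  set Bg : GL (Fin 2) F := mk2 (!![D1, 0; 0, D2] : M2 F) hBdet with hBg
  have h2' : D1 + 1 * s4 * r' = D2 := by rw [← h1]; exact h2
  obtain ⟨v', hv', u', hu', hJ⟩ := hJ6 r' s 1 s4 (by rw [h1]; exact hD1) (by rw [h2]; exact hD2) Bg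
    (by rw [hBg, mk2_val, h1, h2'])
  set y : GG F := X 6 1 * X 10 s4 * X 11 s with hy
  have hym : y ∈ Qp F :=
    mul_mem (mul_mem (hXQ 6 (by simp) 1) (hXQ 10 (by simp) s4)) (hXQ 11 (by simp) s)
  apply g2vc6_of_conj y (hQG hym)
  have e2 : y * (X 0 r' * iota A' * u1) * y⁻¹ =
      v' * iota (Bg * A') * ((iota A')⁻¹ * u' * iota A' * (u1 * y⁻¹)) := by
    rw [hmul Bg A']
    calc y * (X 0 r' * iota A' * u1) * y⁻¹ = (y * X 0 r') * iota A' * u1 * y⁻¹ := by group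
      _ = (v' * iota Bg * u') * iota A' * u1 * y⁻¹ := by rw [hJ]
      _ = _ := by group
  rw [e2]
  apply hCB v' hv' _ _ (Bg * A')
  · have e3 : ((Bg * A' : GL (Fin 2) F) : M2 F) =
        !![D1, 0; 0, D2] * (P * (A : M2 F) * P⁻¹) := by
      rw [hA', Units.val_mul, Units.val_mul, Units.val_mul, Matrix.coe_units_inv, hBg, hPg,
        mk2_val, mk2_val]
    rw [e3]
    exact hIn
  · exact mul_mem (hQ2' A' u' hu') (mul_mem hu1m (inv_mem hym))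

end Cfsg.Agent.Lib.Helper19.G2V
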