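import Mathlib

set_option autoImplicit false

namespace Cfsg.Agent.Lib.Helper12

open MulAction

/-- The orbit of a point under a subgroup `K`, as a set. -/
theorem mem_orbit_subgroup {G X : Type*} [Group G] [MulAction G X] (K : Subgroup G) (x y : X) :
    y ∈ orbit K x ↔ ∃ k ∈ K, k • x = y := by
  constructor
  · rintro ⟨k, rfl⟩
    exact ⟨k.1, k.2, rfl⟩
  · rintro ⟨k, hk, rfl⟩
    exact ⟨⟨k, hk⟩, rfl⟩

/-- The size of the orbit of `x` under a subgroup `K` containing the stabiliser `H` of `x` is the
relative index of `H` in `K`. -/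
theorem ncard_orbit_subgroup {G X : Type*} [Group G] [MulAction G X] (K : Subgroup G) (x : X) :
    (orbit K x).ncard = (stabilizer G x).relIndex K := by
  have e := orbitEquivQuotientStabilizer K x
  have h1 : stabilizer K x = (stabilizer G x).subgroupOf K := Subgroup.map_subtype_inj.mp rfl
  rw [Subgroup.relIndex, ← h1, Subgroup.index_eq_card, ← Nat.card_congr e]
  rfl

theorem ncard_orbit_top {G X : Type*} [Group G] [MulAction G X] (x : X) :
    (orbit G x).ncard = (stabilizer G x).index := by
  have e := orbitEquivQuotientStabilizer G x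
  rw [Subgroup.index_eq_card, ← Nat.card_congr e]
  rfl

/-- Maximality of a point stabiliser from the suborbit lengths: if the stabiliser `H` of `x` is
transitive on each class of a class function on the (finite) orbit `Y` of `x`, and no proper
union of classes containing the class `{x}` has a size dividing `|Y|`, then `H` is a maximal
subgroup. -/
theorem isCoatom_stabilizer_of_classes {G X ι : Type*} [Group G] [MulAction G X] [DecidableEq ι]
    [Fintype ι] (x : X) (Y : Set X) (hYfin : Y.Finite)
    (htrans : ∀ y, y ∈ Y ↔ ∃ g : G, g • x = y)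
    (c : X → ι)
    (hhom : ∀ y ∈ Y, ∀ y' ∈ Y, c y = c y' → ∃ h ∈ stabilizer G x, h • y = y')
    (n : ι → ℕ) (hn : ∀ i, {y | y ∈ Y ∧ c y = i}.ncard = n i)
    (hx : ∀ y ∈ Y, c y = c x → y = x) (hne : ∃ y ∈ Y, y ≠ x)
    (harith : ∀ I : Finset ι, c x ∈ I → (∀ i ∈ I, n i ≠ 0) → (∑ i ∈ I, n i) ∣ Y.ncard →
      I = {c x} ∨ ∀ i, n i ≠ 0 → i ∈ I) :
    IsCoatom (stabilizer G x) := by
  classical
  have hxY : x ∈ Y := (htrans x).mpr ⟨1, one_smul _ _⟩
  have hYorb : Y = orbit G x := by
    ext y
    rw [htrans y]
    rfl
  constructor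
  · intro htop
    obtain ⟨y, hy, hyx⟩ := hne
    obtain ⟨g, rfl⟩ := (htrans y).mp hy
    apply hyx
    have : g ∈ stabilizer G x := by rw [htop]; trivial
    exact this
  · intro K hHK
    let H := stabilizer G x
    have hle : H ≤ K := le_of_lt hHK
    -- the orbit of x under K
    set O : Set X := orbit K x with hO
    have hOY : O ⊆ Y := by
      intro y hy
      rw [hO, mem_orbit_subgroup] at hy
      obtain ⟨k, _, rfl⟩ := hy
      exact (htrans _).mpr ⟨k, rfl⟩
    let I : Finset ι := Finset.univ.filter fun i => ∃ y ∈ O, c y = i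
    have hxO : x ∈ O := by
      rw [hO, mem_orbit_subgroup]
      exact ⟨1, K.one_mem, one_smul _ _⟩
    have hcxI : c x ∈ I := by
      simp only [I, Finset.mem_filter, Finset.mem_univ, true_and]
      exact ⟨x, hxO, rfl⟩
    have hOeq : O = {y | y ∈ Y ∧ c y ∈ I} := by
      ext y
      constructor
      · intro hy
        refine ⟨hOY hy, ?_⟩
        simp only [I, Finset.mem_filter, Finset.mem_univ, true_and]
        exact ⟨y, hy, rfl⟩
      · rintro ⟨hyY, hyI⟩
        simp only [I, Finset.mem_filter, Finset.mem_univ, true_and] at hyI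
        obtain ⟨y', hy'O, hcy'⟩ := hyI
        obtain ⟨h, hh, hhy⟩ := hhom y' (hOY hy'O) y hyY hcy'
        rw [hO, mem_orbit_subgroup] at hy'O ⊢
        obtain ⟨k, hk, rfl⟩ := hy'O
        exact ⟨h * k, K.mul_mem (hle hh) hk, by rw [mul_smul, hhy]⟩
    have hOcard : O.ncard = ∑ i ∈ I, n i := by
      have hU : O = ⋃ i ∈ (I : Set ι), {y | y ∈ Y ∧ c y = i} := by
        rw [hOeq]
        ext y
        simp only [Set.mem_ofPred_eq, Set.mem_iUnion, Finset.mem_coe, exists_prop]
        constructor
        · rintro ⟨hy, hc⟩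
          exact ⟨c y, hc, hy, rfl⟩
        · rintro ⟨i, hi, hy, rfl⟩
          exact ⟨hy, hi⟩
      rw [hU, Set.Finite.ncard_biUnion (Finset.finite_toSet I)]
      · rw [finsum_mem_coe_finset]
        exact Finset.sum_congr rfl (fun i _ => hn i)
      · intro i _
        exact hYfin.subset (fun y hy => hy.1)
      · intro i _ j _ hij
        rw [Function.onFun, Set.disjoint_left]
        rintro y ⟨_, hyi⟩ ⟨_, hyj⟩
        exact hij (hyi.symm.trans hyj)
    have hdvd : (∑ i ∈ I, n i) ∣ Y.ncard := by
      rw [← hOcard, hO, ncard_orbit_subgroup, hYorb, ncard_orbit_top]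
      exact Dvd.intro _ (Subgroup.relIndex_mul_index hle)
    have hInz : ∀ i ∈ I, n i ≠ 0 := by
      intro i hi
      simp only [I, Finset.mem_filter, Finset.mem_univ, true_and] at hi
      obtain ⟨y, hyO, hcy⟩ := hi
      rw [← hn i]
      intro h0
      have hfin : {z | z ∈ Y ∧ c z = i}.Finite := hYfin.subset (fun z hz => hz.1)
      rw [Set.ncard_eq_zero hfin] at h0
      have : y ∈ {z | z ∈ Y ∧ c z = i} := ⟨hOY hyO, hcy⟩
      rw [h0] at this
      exact this
    rcases harith I hcxI hInz hdvd with hI | hI
    · -- the orbit is {x}, so K = H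
      exfalso
      have hO1 : O = {x} := by
        rw [hOeq, hI]
        ext y
        simp only [Set.mem_ofPred_eq, Finset.mem_singleton, Set.mem_singleton_iff]
        constructor
        · rintro ⟨hy, hc⟩
          exact hx y hy hc
        · rintro rfl
          exact ⟨hxY, rfl⟩
      have : K ≤ H := by
        intro k hk
        have : k • x ∈ O := by
          rw [hO, mem_orbit_subgroup]
          exact ⟨k, hk, rfl⟩
        rw [hO1] at this
        exact this
      exact lt_irrefl _ (lt_of_lt_of_le hHK this)
    · -- the orbit is everything, so K = ⊤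
      have hOY' : O = Y := by
        apply Set.Subset.antisymm hOY
        intro y hy
        rw [hOeq]
        refine ⟨hy, hI _ ?_⟩
        rw [← hn (c y)]
        intro h0
        have hfin : {z | z ∈ Y ∧ c z = c y}.Finite := hYfin.subset (fun z hz => hz.1)
        rw [Set.ncard_eq_zero hfin] at h0
        have : y ∈ {z | z ∈ Y ∧ c z = c y} := ⟨hy, rfl⟩
        rw [h0] at this
        exact this
      rw [eq_top_iff]
      intro g _
      have : g • x ∈ O := by
        rw [hOY']
        exact (htrans _).mpr ⟨g, rfl⟩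
      rw [hO, mem_orbit_subgroup] at this
      obtain ⟨k, hk, hkx⟩ := this
      have hmem : k⁻¹ * g ∈ H := by
        show (k⁻¹ * g) • x = x
        rw [mul_smul, ← hkx, inv_smul_smul]
      have : g = k * (k⁻¹ * g) := by group
      rw [this]
      exact K.mul_mem hk (hle hmem)

end Cfsg.Agent.Lib.Helper12
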