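/-
INV piece STDC, core part (project leader helper14, target S2174): in characteristic two the standard involution
`∏ n_r(1)`, `r ∈ f4Std[k]` (pairwise orthogonal roots), is conjugate to `∏ x_r(1)` by `∏ x_{-r}(1)`.
-/
import Mathlib
import Cfsg.Prelude.Def_ChevStructure
import Cfsg.Agent.Lib.helper14.INV.F4Defs
import Cfsg.Agent.Lib.helper8.ChevSLP3
import Cfsg.Agent.Lib.helper8.ChevH5

set_option autoImplicit false
set_option linter.unusedVariables false

namespace Cfsg.Agent.Lib.helper14.INV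

open Cfsg.Lie Cfsg.Lie.ChevalleyDatum Cfsg.Agent.Lib.helper8 Cfsg.Agent.Lib.helper14

universe u

variable {F : Type u} [Field F]

/-- the abstract computation: `y r` conjugates `n r` to `x r` and commutes with the `n s`, `x s`,
`s ≠ r` -/
theorem invstdc_prod {G : Type*} [Group G] (y n x : ℕ → G) :
    ∀ R : List ℕ, R.Nodup →
      (∀ r ∈ R, y r * n r * (y r)⁻¹ = x r) →
      (∀ r ∈ R, ∀ s ∈ R, r ≠ s → y r * n s = n s * y r) →
      (∀ r ∈ R, ∀ s ∈ R, r ≠ s → y r * x s = x s * y r) →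
      (R.map y).prod * (R.map n).prod * ((R.map y).prod)⁻¹ = (R.map x).prod := by
  intro R
  induction R with
  | nil => intro _ _ _ _; simp
  | cons r R ih =>
    intro hnd hrk hyn hyx
    have hr : r ∉ R := (List.nodup_cons.mp hnd).1
    have hnd' : R.Nodup := (List.nodup_cons.mp hnd).2
    have ih' := ih hnd' (fun s hs => hrk s (List.mem_cons_of_mem _ hs))
      (fun s hs t ht => hyn s (List.mem_cons_of_mem _ hs) t (List.mem_cons_of_mem _ ht))
      (fun s hs t ht => hyx s (List.mem_cons_of_mem _ hs) t (List.mem_cons_of_mem _ ht))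
    have c1 : Commute (R.map y).prod (n r) := by
      apply Commute.list_prod_left
      intro g hg
      obtain ⟨s, hs, rfl⟩ := List.mem_map.mp hg
      exact hyn s (List.mem_cons_of_mem _ hs) r List.mem_cons_self (fun e => hr (e ▸ hs))
    have c2 : Commute (y r) (R.map x).prod := by
      apply Commute.list_prod_right
      intro g hg
      obtain ⟨s, hs, rfl⟩ := List.mem_map.mp hg
      exact hyx r List.mem_cons_self s (List.mem_cons_of_mem _ hs) (fun e => hr (e ▸ hs))
    rw [List.map_cons, List.map_cons, List.map_cons, List.prod_cons, List.prod_cons, List.prod_cons]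
    calc y r * (R.map y).prod * (n r * (R.map n).prod) * (y r * (R.map y).prod)⁻¹
        = y r * ((R.map y).prod * n r) * (R.map n).prod * ((R.map y).prod)⁻¹ * (y r)⁻¹ := by group
      _ = y r * (n r * (R.map y).prod) * (R.map n).prod * ((R.map y).prod)⁻¹ * (y r)⁻¹ := by
          rw [c1.eq]
      _ = y r * n r * ((R.map y).prod * (R.map n).prod * ((R.map y).prod)⁻¹) * (y r)⁻¹ := by group
      _ = y r * n r * (R.map x).prod * (y r)⁻¹ := by rw [ih']
      _ = y r * n r * ((R.map x).prod * (y r)⁻¹) := by group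
      _ = y r * n r * ((y r)⁻¹ * (R.map x).prod) := by rw [(c2.inv_left).eq]
      _ = y r * n r * (y r)⁻¹ * (R.map x).prod := by group
      _ = x r * (R.map x).prod := by rw [hrk r List.mem_cons_self]

theorem invstdc_mem_list : chevF4 ∈ [chevG2, chevB2, chevD4, chevF4, chevE6, chevE7, chevE8] := by
  simp

theorem invstdc_nroots : chevF4.nroots = 48 := by decide +kernel

/-- the data check: the roots of `f4Std[k]` are distinct, and for `r ≠ s` among them the root
subgroups `X_{-r}` and `X_{±s}` commute modulo `2` -/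
theorem invstdc_chk : ∀ k < 11, (f4Std.getD k []).Nodup ∧ (∀ r ∈ f4Std.getD k [], r < 48) ∧
    ∀ r ∈ f4Std.getD k [], ∀ s ∈ f4Std.getD k [], r ≠ s →
    (s ≠ chevF4.negIdx.getD (chevF4.negIdx.getD r 0) 0 ∧
      (∀ c ∈ chevF4.commTerms (chevF4.negIdx.getD r 0) s, c.2.1 % 2 = 0)) ∧
    (chevF4.negIdx.getD s 0 ≠ chevF4.negIdx.getD (chevF4.negIdx.getD r 0) 0 ∧
      (∀ c ∈ chevF4.commTerms (chevF4.negIdx.getD r 0) (chevF4.negIdx.getD s 0), c.2.1 % 2 = 0)) ∧
    chevF4.negIdx.getD r 0 < 48 ∧ s < 48 ∧ chevF4.negIdx.getD s 0 < 48 := by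
  decide +kernel

theorem invstdc_two [CharP F 2] : (((2 : ℕ) : ℤ) : F) = 0 := by
  have h : ((2 : ℕ) : F) = 0 := CharP.cast_eq_zero F 2
  exact_mod_cast h

/-- `x_{-r}(a)` commutes with `x_s(b)` and `x_{-s}(b)` for `r ≠ s` in `f4Std[k]` -/
theorem invstdc_comm [CharP F 2] (hB : H8Base.{u} chevF4) (k : ℕ) (hk : k < 11) (r s : ℕ)
    (hr : r ∈ f4Std.getD k []) (hs : s ∈ f4Std.getD k []) (hne : r ≠ s) (a b : F) :
    h8xU chevF4 hB (chevF4.negIdx.getD r 0) a * h8xU chevF4 hB s b =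
        h8xU chevF4 hB s b * h8xU chevF4 hB (chevF4.negIdx.getD r 0) a ∧
    h8xU chevF4 hB (chevF4.negIdx.getD r 0) a * h8xU chevF4 hB (chevF4.negIdx.getD s 0) b =
        h8xU chevF4 hB (chevF4.negIdx.getD s 0) b * h8xU chevF4 hB (chevF4.negIdx.getD r 0) a := by
  have hC : H8CommAll.{u} chevF4 := h8commAll.{u} chevF4 invstdc_mem_list
  have hm : (((2 : ℕ) : ℤ) : F) = 0 := invstdc_two
  obtain ⟨_, _, h⟩ := invstdc_chk k hk
  obtain ⟨⟨h1, h2⟩, ⟨h3, h4⟩, h5, h6, h7⟩ := h r hr s hs hne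
  constructor
  · exact (h8comm_of_zero chevF4 hB hC (chevF4.negIdx.getD r 0) s
      (by rw [invstdc_nroots]; exact h5) (by rw [invstdc_nroots]; exact h6) h1
      (fun _ c hc => f4c_coef_zero 2 hm _ (h2 c hc)) a b).symm
  · exact (h8comm_of_zero chevF4 hB hC (chevF4.negIdx.getD r 0) (chevF4.negIdx.getD s 0)
      (by rw [invstdc_nroots]; exact h5) (by rw [invstdc_nroots]; exact h7) h3
      (fun _ c hc => f4c_coef_zero 2 hm _ (h4 c hc)) a b).symm

/-- `n_s(1)` as a product of three root elements -/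
theorem invstdc_nU (hB : H8Base.{u} chevF4) (s : ℕ) :
    (h8nU chevF4 hB s (1 : F) : GL chevF4.Idx F) =
      h8xU chevF4 hB s 1 * (h8xU chevF4 hB (chevF4.negIdx.getD s 0) (-(1 : F)⁻¹) *
        h8xU chevF4 hB s 1) := by
  unfold h8nU ChevalleyDatum.nWord
  rw [h8wordU_cons, h8wordU_cons, h8wordU_cons]
  have : h8wordU chevF4 hB ([] : List (ℕ × F)) = 1 := rfl
  rw [this, mul_one]
  rfl

/-- STDC, core version: the rank one conjugation `x_{-r}(1) n_r(1) x_{-r}(1)⁻¹ = x_r(1)` is a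
hypothesis -/
theorem invstdc_core [CharP F 2] (hB : H8Base.{u} chevF4) (k : ℕ) (hk : k < 11)
    (hrk : ∀ r < 48, h8xU chevF4 hB (chevF4.negIdx.getD r 0) (1 : F) * h8nU chevF4 hB r (1 : F) *
      (h8xU chevF4 hB (chevF4.negIdx.getD r 0) (1 : F))⁻¹ = h8xU chevF4 hB r (1 : F)) :
    Cj chevF4 (n1 chevF4 hB (f4Std.getD k []) : GL chevF4.Idx F) (w1 chevF4 hB (f4Std.getD k [])) := by
  obtain ⟨hnd, hlt, -⟩ := invstdc_chk k hk
  set R := f4Std.getD k [] with hR
  set y : ℕ → GL chevF4.Idx F := fun r => h8xU chevF4 hB (chevF4.negIdx.getD r 0) (1 : F) with hy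
  refine ⟨(R.map y).prod, ?_, ?_⟩
  · apply Subgroup.list_prod_mem
    intro g hg
    obtain ⟨r, _, rfl⟩ := List.mem_map.mp hg
    exact h8xU_mem_group chevF4 hB _ _
  · have e1 : (n1 chevF4 hB R : GL chevF4.Idx F) =
        (R.map fun r => h8nU chevF4 hB r (1 : F)).prod := rfl
    have e2 : (w1 chevF4 hB R : GL chevF4.Idx F) =
        (R.map fun r => h8xU chevF4 hB r (1 : F)).prod := by
      unfold w1 h8wordU
      rw [List.map_map]
      rfl
    rw [e1, e2]
    apply invstdc_prod y (fun r => h8nU chevF4 hB r (1 : F)) (fun r => h8xU chevF4 hB r (1 : F)) R hnd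
    · intro r hr
      exact hrk r (hlt r hr)
    · intro r hr s hs hne
      obtain ⟨c1, c2⟩ := invstdc_comm hB k hk r s hr hs hne (1 : F) (1 : F)
      obtain ⟨_, c3⟩ := invstdc_comm hB k hk r s hr hs hne (1 : F) (-(1 : F)⁻¹)
      show y r * h8nU chevF4 hB s (1 : F) = h8nU chevF4 hB s (1 : F) * y r
      rw [invstdc_nU hB s]
      have k1 : Commute (y r) (h8xU chevF4 hB s (1 : F)) := c1
      have k2 : Commute (y r) (h8xU chevF4 hB (chevF4.negIdx.getD s 0) (-(1 : F)⁻¹)) := c3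
      exact (k1.mul_right (k2.mul_right k1)).eq
    · intro r hr s hs hne
      exact (invstdc_comm hB k hk r s hr hs hne (1 : F) (1 : F)).1

/-- the rank one homomorphisms of `F₄` -/
theorem invstdc_sl (hB : H8Base.{u} chevF4) : ∀ r < 48, H8SLHom chevF4 hB F r := by
  have hD := invstdc_mem_list
  have hA := h8reflAll chevF4 hD
  obtain ⟨dep, par, horb⟩ := h8orb_chk_all chevF4 hD
  intro r hr
  exact h8slHom_all (F := F) chevF4 hB hA (h8scChk_all chevF4 hD) (h8cartan_simple chevF4 hD) dep par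
    horb r (by rw [invstdc_nroots]; exact hr)

end Cfsg.Agent.Lib.helper14.INV
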