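/-
INV piece STDC (project leader helper14, target S2174): in characteristic two the standard involution
`∏ n_r(1)`, `r ∈ f4Std[k]` (pairwise orthogonal roots), is conjugate to `∏ x_r(1)` by `∏ x_{-r}(1)`.
The computation is in `INVSTDCa`; here the rank one conjugation is proved through `SL₂` and plugged in.
-/
import Mathlib
import Cfsg.Prelude.Def_ChevStructure
import Cfsg.Agent.Lib.Helper12.INVSTDCa

set_option autoImplicit false
set_option linter.unusedVariables false

namespace Cfsg.Agent.Lib.helper14.INV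

open Cfsg.Lie Cfsg.Lie.ChevalleyDatum Cfsg.Agent.Lib.helper8 Cfsg.Agent.Lib.helper14

universe u

variable {F : Type u} [Field F]

/-- `n_s(1)` as a product of three root elements (any datum) -/
theorem invstdc_nU' (D : ChevalleyDatum) (hB : H8Base.{u} D) (s : ℕ) :
    (h8nU D hB s (1 : F) : GL D.Idx F) =
      h8xU D hB s 1 * (h8xU D hB (D.negIdx.getD s 0) (-(1 : F)⁻¹) * h8xU D hB s 1) := by
  unfold h8nU ChevalleyDatum.nWord
  rw [h8wordU_cons, h8wordU_cons, h8wordU_cons]
  have : h8wordU D hB ([] : List (ℕ × F)) = 1 := rfl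
  rw [this, mul_one]
  rfl

/-- the rank one conjugation in characteristic two, proved through `SL₂` -/
theorem invstdc_rk1 [CharP F 2] (D : ChevalleyDatum) (hB : H8Base.{u} D) (r : ℕ)
    (hsl : H8SLHom D hB F r) :
    h8xU D hB (D.negIdx.getD r 0) (1 : F) * h8nU D hB r (1 : F) *
      (h8xU D hB (D.negIdx.getD r 0) (1 : F))⁻¹ = h8xU D hB r (1 : F) := by
  obtain ⟨φ, -, hup, hlo⟩ := hsl
  let U : F → Matrix.SpecialLinearGroup (Fin 2) F := fun t =>
    ⟨!![1, t; 0, 1], by simp [Matrix.det_fin_two]⟩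
  let L : F → Matrix.SpecialLinearGroup (Fin 2) F := fun t =>
    ⟨!![1, 0; t, 1], by simp [Matrix.det_fin_two]⟩
  have eU : ∀ t, φ (U t) = h8xU D hB r t := fun t => hup _ t rfl
  have eL : ∀ t, φ (L t) = h8xU D hB (D.negIdx.getD r 0) t := fun t => hlo _ t rfl
  have h2 : (2 : F) = 0 := CharTwo.two_eq_zero
  have hneg : (-1 : F) = 1 := CharTwo.neg_eq 1
  have key : L 1 * (U 1 * (L (-(1 : F)⁻¹) * U 1)) = U 1 * L 1 := by
    apply Subtype.ext
    simp only [Matrix.SpecialLinearGroup.coe_mul]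
    show (!![1, 0; (1 : F), 1] : Matrix (Fin 2) (Fin 2) F) *
        (!![1, (1 : F); 0, 1] * (!![1, 0; -(1 : F)⁻¹, 1] * !![1, (1 : F); 0, 1])) =
      !![1, (1 : F); 0, 1] * !![1, 0; (1 : F), 1]
    rw [inv_one, hneg]
    simp only [Matrix.mul_fin_two]
    ext i j
    fin_cases i <;> fin_cases j <;> simp [CharTwo.add_self_eq_zero]
  rw [invstdc_nU' D hB r, ← eU, ← eL, ← eL, ← map_mul, ← map_mul, ← map_mul, key, map_mul,
    mul_inv_cancel_right]

/-- STDC : `∏ n_r(1)` is conjugate to `∏ x_r(1)` (by `∏ x_{-r}(1)`) -/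
theorem f4_std_cj [CharP F 2] (hB : H8Base.{u} chevF4) (k : ℕ) (hk : k < 11) :
    Cj chevF4 (n1 chevF4 hB (f4Std.getD k []) : GL chevF4.Idx F) (w1 chevF4 hB (f4Std.getD k [])) :=
  invstdc_core hB k hk fun r hr => invstdc_rk1 chevF4 hB r (invstdc_sl hB r hr)

end Cfsg.Agent.Lib.helper14.INV
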