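import Mathlib
import Cfsg.Prelude.Def_ChevStructure
import Cfsg.Agent.Lib.Helper12.INVSTDC
import Cfsg.Agent.Lib.Helper11.INVSTDN

/-!
# Project INV (all types): generic STDC

In characteristic two `∏ n_r(1)` is conjugate to `∏ x_r(1)` (by `∏ x_{-r}(1)`) for every list `R` of
roots passing the Boolean check `stdcChk` (distinct roots; for `r ≠ s` the root subgroup `X_{-r}` commutes
with `X_s` and `X_{-s}` modulo `2`).
-/

set_option autoImplicit false
set_option linter.unusedVariables false

namespace Cfsg.Agent.Lib.helper14.INV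

open Cfsg.Lie Cfsg.Lie.ChevalleyDatum Cfsg.Agent.Lib.helper8 Cfsg.Agent.Lib.helper14

universe u

variable {F : Type u} [Field F]

/-- the check of generic STDC -/
def stdcChk (D : ChevalleyDatum) (R : List ℕ) : Bool :=
  decide R.Nodup && R.all (fun r => decide (r < D.nroots)) &&
    R.all fun r => R.all fun s => r == s ||
      (invstdnChk1 D (D.neg r) s && invstdnChk1 D (D.neg r) (D.neg s))

/-- the rank one homomorphisms, for every type -/
theorem stdcg_sl (D : ChevalleyDatum)
    (hD : D ∈ [chevG2, chevB2, chevD4, chevF4, chevE6, chevE7, chevE8]) (hB : H8Base.{u} D) :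
    ∀ r < D.nroots, H8SLHom D hB F r := by
  have hA := h8reflAll D hD
  obtain ⟨dep, par, horb⟩ := h8orb_chk_all D hD
  exact h8slHom_all (F := F) D hB hA (h8scChk_all D hD) (h8cartan_simple D hD) dep par horb

/-- generic STDC : `∏ n_r(1)` is conjugate to `∏ x_r(1)` -/
theorem std_cj_gen [CharP F 2] (D : ChevalleyDatum)
    (hD : D ∈ [chevG2, chevB2, chevD4, chevF4, chevE6, chevE7, chevE8]) (hB : H8Base.{u} D)
    (R : List ℕ) (h : stdcChk D R = true) :
    Cj D (n1 D hB R : GL D.Idx F) (w1 D hB R) := by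
  have hC : H8CommAll.{u} D := h8commAll.{u} D hD
  unfold stdcChk at h
  simp only [Bool.and_eq_true, decide_eq_true_eq, List.all_eq_true, Bool.or_eq_true,
    beq_iff_eq] at h
  obtain ⟨⟨hnd, hlt⟩, hpw⟩ := h
  set y : ℕ → GL D.Idx F := fun r => h8xU D hB (D.negIdx.getD r 0) (1 : F) with hy
  refine ⟨(R.map y).prod, ?_, ?_⟩
  · apply Subgroup.list_prod_mem
    intro g hg
    obtain ⟨r, _, rfl⟩ := List.mem_map.mp hg
    exact h8xU_mem_group D hB _ _
  · have e1 : (n1 D hB R : GL D.Idx F) = (R.map fun r => h8nU D hB r (1 : F)).prod := rfl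
    have e2 : (w1 D hB R : GL D.Idx F) = (R.map fun r => h8xU D hB r (1 : F)).prod := by
      unfold w1 h8wordU
      rw [List.map_map]
      rfl
    rw [e1, e2]
    have hcomm : ∀ r ∈ R, ∀ s ∈ R, r ≠ s → ∀ a b : F,
        Commute (h8xU D hB (D.negIdx.getD r 0) a) (h8xU D hB s b) ∧
        Commute (h8xU D hB (D.negIdx.getD r 0) a) (h8xU D hB (D.negIdx.getD s 0) b) := by
      intro r hr s hs hne a b
      rcases hpw r hr s hs with h1 | ⟨h1, h2⟩
      · exact absurd h1 hne
      · exact ⟨invstdn_comm1 D hB hC _ _ h1 a b, invstdn_comm1 D hB hC _ _ h2 a b⟩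
    apply invstdc_prod y (fun r => h8nU D hB r (1 : F)) (fun r => h8xU D hB r (1 : F)) R hnd
    · intro r hr
      exact invstdc_rk1 D hB r (stdcg_sl D hD hB r (hlt r hr))
    · intro r hr s hs hne
      show y r * h8nU D hB s (1 : F) = h8nU D hB s (1 : F) * y r
      rw [invstdc_nU' D hB s]
      have k1 : Commute (y r) (h8xU D hB s (1 : F)) := (hcomm r hr s hs hne 1 1).1
      have k2 : Commute (y r) (h8xU D hB (D.negIdx.getD s 0) (-(1 : F)⁻¹)) :=
        (hcomm r hr s hs hne 1 _).2
      exact (k1.mul_right (k2.mul_right k1)).eq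
    · intro r hr s hs hne
      exact ((hcomm r hr s hs hne 1 1).1).eq

end Cfsg.Agent.Lib.helper14.INV
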