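import Mathlib
import Cfsg.Prelude.Def_ChevStructure
import Cfsg.Agent.Lib.helper14.INVGT4

/-!
# Project INV (types `E₆`, `E₇`, `E₈`): fast evaluation of Weyl words for `decide +kernel`

`h8sW D w r` walks through the `chain` arrays of the datum, which costs the kernel milliseconds per
reflection. Here the fundamental reflections are packed into numerals (`T[i] = ∑ᵣ reflectRoot i r * 256^r`),
the set of positive roots and the sets `{r | cf D r i = 0}` into bit masks; `fsW T w r` evaluates a word with
shifts and masks only. The Boolean checks `gtInvChkF`, `gtTabChkF`, `gtGoodF` are the fast twins of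
`gtInvChk`, `gtTabChk`, `gtGood`.
-/

set_option autoImplicit false

namespace Cfsg.Agent.Lib.helper14.INV

open Cfsg.Lie Cfsg.Lie.ChevalleyDatum Cfsg.Agent.Lib.helper8 Cfsg.Agent.Lib.helper14

/-- the `s`-th byte of the numeral `t` -/
def fsGet (t s : ℕ) : ℕ := (t >>> (8 * s)) &&& 255

/-- fast evaluation of a Weyl word on a root index -/
def fsW (T : List ℕ) (w : List ℕ) (s : ℕ) : ℕ :=
  w.foldr (fun i acc => fsGet (T.getD i 0) acc) s

/-- the packed data of a datum: reflection tables, mask of the positive roots, masks of the roots with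
vanishing `i`-th coordinate -/
structure FsData where
  T : List ℕ
  P : ℕ
  Z : List ℕ

/-- the packed data agree with the datum -/
def fsChk (D : ChevalleyDatum) (A : FsData) : Bool :=
  ((List.range D.rank).all fun i => (List.range D.nroots).all fun r =>
    fsGet (A.T.getD i 0) r == D.reflectRoot i r) &&
  ((List.range D.nroots).all fun r => Nat.testBit A.P r == decide (D.IsPosRoot r)) &&
  ((List.range D.rank).all fun i => (List.range D.nroots).all fun r =>
    Nat.testBit (A.Z.getD i 0) r == decide (cf D r i = 0))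

theorem fsChk_refl (D : ChevalleyDatum) (A : FsData) (h : fsChk D A = true) (i r : ℕ)
    (hi : i < D.rank) (hr : r < D.nroots) : fsGet (A.T.getD i 0) r = D.reflectRoot i r := by
  unfold fsChk at h
  simp only [Bool.and_eq_true, List.all_eq_true, List.mem_range, beq_iff_eq] at h
  exact h.1.1 i hi r hr

theorem fsChk_pos (D : ChevalleyDatum) (A : FsData) (h : fsChk D A = true) (r : ℕ)
    (hr : r < D.nroots) : Nat.testBit A.P r = decide (D.IsPosRoot r) := by
  unfold fsChk at h
  simp only [Bool.and_eq_true, List.all_eq_true, List.mem_range, beq_iff_eq] at h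
  exact h.1.2 r hr

theorem fsChk_zero (D : ChevalleyDatum) (A : FsData) (h : fsChk D A = true) (i r : ℕ)
    (hi : i < D.rank) (hr : r < D.nroots) :
    Nat.testBit (A.Z.getD i 0) r = decide (cf D r i = 0) := by
  unfold fsChk at h
  simp only [Bool.and_eq_true, List.all_eq_true, List.mem_range, beq_iff_eq] at h
  exact h.2 i hi r hr

/-- the fast evaluation agrees with `h8sW` -/
theorem fsW_eq (D : ChevalleyDatum) (hA : H8ReflAll D) (A : FsData) (h : fsChk D A = true)
    (w : List ℕ) (hw : ValidW D w) (r : ℕ) (hr : r < D.nroots) : h8sW D w r = fsW A.T w r := by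
  induction w with
  | nil => rfl
  | cons i w ih =>
    have hw' : ValidW D w := fun j hj => hw j (List.mem_cons_of_mem _ hj)
    have e1 : h8sW D (i :: w) r = D.reflectRoot i (h8sW D w r) := rfl
    have e2 : fsW A.T (i :: w) r = fsGet (A.T.getD i 0) (fsW A.T w r) := rfl
    rw [e1, e2, ← ih hw', fsChk_refl D A h i _ (hw i List.mem_cons_self) (h8sW_lt D hA w hw' r hr)]

/-- fast twin of `gtInvChk` -/
def gtInvChkF (D : ChevalleyDatum) (A : FsData) (J c : List ℕ) : Bool :=
  c.all (fun i => decide (i < D.rank)) &&
  (List.range D.nroots).all fun r => !(Nat.testBit A.P r) ||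
    (Nat.testBit A.P (fsW A.T c r) ==
      (List.range D.rank).all fun i => J.contains i || Nat.testBit (A.Z.getD i 0) r)

theorem gtInvChkF_sound (D : ChevalleyDatum) (hA : H8ReflAll D) (A : FsData)
    (h : fsChk D A = true) (J c : List ℕ) (hc : gtInvChkF D A J c = true) :
    gtInvChk D J c = true := by
  unfold gtInvChkF at hc
  unfold gtInvChk
  rw [Bool.and_eq_true] at hc ⊢
  obtain ⟨hc1, hc2⟩ := hc
  refine ⟨hc1, ?_⟩
  have hv : ValidW D c := by
    intro i hi
    have := List.all_eq_true.mp hc1 i hi
    simpa using this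
  rw [List.all_eq_true] at hc2 ⊢
  intro r hr
  have hr' := List.mem_range.mp hr
  have h2 := hc2 r hr
  rw [fsChk_pos D A h r hr', fsChk_pos D A h _ (by
    rw [← fsW_eq D hA A h c hv r hr']; exact h8sW_lt D hA c hv r hr'),
    ← fsW_eq D hA A h c hv r hr'] at h2
  have e : ((List.range D.rank).all fun i => J.contains i || Nat.testBit (A.Z.getD i 0) r) =
      ((List.range D.rank).all fun i => J.contains i || decide (cf D r i = 0)) := by
    rw [Bool.eq_iff_iff, List.all_eq_true, List.all_eq_true]
    constructor
    · intro H i hi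
      rw [← fsChk_zero D A h i r (List.mem_range.mp hi) hr']
      exact H i hi
    · intro H i hi
      rw [fsChk_zero D A h i r (List.mem_range.mp hi) hr']
      exact H i hi
  rw [e] at h2
  exact h2

/-- fast twin of `gtTabChk` -/
def gtTabChkF (D : ChevalleyDatum) (A : FsData) (T : List (List ℕ × List ℕ)) : Bool :=
  ((List.range D.rank).sublists.all fun J => T.any fun e => e.1 == J) &&
  T.all fun e => gtInvChkF D A e.1 e.2

theorem gtTabChkF_sound (D : ChevalleyDatum) (hA : H8ReflAll D) (A : FsData)
    (h : fsChk D A = true) (T : List (List ℕ × List ℕ)) (hT : gtTabChkF D A T = true) :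
    gtTabChk D T = true := by
  unfold gtTabChkF at hT
  unfold gtTabChk
  rw [Bool.and_eq_true] at hT ⊢
  obtain ⟨hT1, hT2⟩ := hT
  refine ⟨hT1, ?_⟩
  rw [List.all_eq_true] at hT2 ⊢
  intro e he
  exact gtInvChkF_sound D hA A h e.1 e.2 (hT2 e he)

/-- a table check can be split into blocks -/
theorem gtTabChkF_blocks (D : ChevalleyDatum) (A : FsData) (Ts : List (List (List ℕ × List ℕ)))
    (h1 : ((List.range D.rank).sublists.all fun J => Ts.flatten.any fun e => e.1 == J) = true)
    (h2 : ∀ T ∈ Ts, (T.all fun e => gtInvChkF D A e.1 e.2) = true) :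
    gtTabChkF D A Ts.flatten = true := by
  unfold gtTabChkF
  rw [Bool.and_eq_true]
  refine ⟨h1, ?_⟩
  rw [List.all_eq_true]
  intro e he
  rw [List.mem_flatten] at he
  obtain ⟨T, hT, heT⟩ := he
  exact List.all_eq_true.mp (h2 T hT) e heT

/-- fast twin of `gtGood` -/
def gtGoodF (D : ChevalleyDatum) (A : FsData) (e : List ℕ × List ℕ) : Bool :=
  ((List.range D.nroots).all fun r => fsW A.T e.2 (fsW A.T e.2 r) == r) &&
  e.1.all fun j => fsW A.T e.2 (D.simple j) == D.simple j

theorem gtGoodF_of_good (D : ChevalleyDatum) (hA : H8ReflAll D) (hg : gtChk D = true) (A : FsData)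
    (h : fsChk D A = true) (e : List ℕ × List ℕ) (hv : ValidW D e.2)
    (hJ : ∀ j ∈ e.1, j < D.rank) (he : gtGood D e = true) : gtGoodF D A e = true := by
  unfold gtGood at he
  unfold gtGoodF
  rw [Bool.and_eq_true, List.all_eq_true, List.all_eq_true] at he ⊢
  constructor
  · intro r hr
    have hr' := List.mem_range.mp hr
    have := he.1 r hr
    rwa [fsW_eq D hA A h e.2 hv r hr', fsW_eq D hA A h e.2 hv _ (by
      rw [← fsW_eq D hA A h e.2 hv r hr']; exact h8sW_lt D hA e.2 hv r hr')] at this
  · intro j hj
    have := he.2 j hj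
    rwa [fsW_eq D hA A h e.2 hv _ (gtChk_simple_lt D hg j (hJ j hj))] at this

end Cfsg.Agent.Lib.helper14.INV
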