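import Mathlib
import Cfsg.Prelude.Def_ChevStructure
import Cfsg.Agent.Lib.Helper12.INVFAST

/-!
# Project INV (types `E₆`, `E₇`, `E₈`): fast check of the witness words of NONCONJ

`ncWsChkF D A ws L` checks through the packed tables that the Weyl words `ws` map the roots of `L` to
positive roots and that every root outside `L` is mapped to a non-positive root by some word of `ws`;
`ncWsChkF_sound` gives the three hypotheses `hws`, `hLpos`, `hLcl` of `nc_core`.
-/

set_option autoImplicit false

namespace Cfsg.Agent.Lib.helper14.INV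

open Cfsg.Lie Cfsg.Lie.ChevalleyDatum Cfsg.Agent.Lib.helper8 Cfsg.Agent.Lib.helper14

/-- fast check of the witness words -/
def ncWsChkF (D : ChevalleyDatum) (A : FsData) (ws : List (List ℕ)) (L : List ℕ) : Bool :=
  ws.all (fun v => v.all fun i => decide (i < D.rank)) &&
  L.all (fun r => decide (r < D.nroots)) &&
  ws.all (fun v => L.all fun r => Nat.testBit A.P (fsW A.T v r)) &&
  (List.range D.nroots).all fun s => L.contains s || ws.any fun v => !Nat.testBit A.P (fsW A.T v s)

theorem ncWsChkF_sound (D : ChevalleyDatum) (hA : H8ReflAll D) (A : FsData)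
    (h : fsChk D A = true) (ws : List (List ℕ)) (L : List ℕ) (hc : ncWsChkF D A ws L = true) :
    (∀ v ∈ ws, ∀ i ∈ v, i < D.rank) ∧
    (∀ v ∈ ws, ∀ r ∈ L, D.IsPosRoot (h8sW D v r)) ∧
    (∀ s < D.nroots, (∀ v ∈ ws, D.IsPosRoot (h8sW D v s)) → s ∈ L) := by
  unfold ncWsChkF at hc
  rw [Bool.and_eq_true, Bool.and_eq_true, Bool.and_eq_true] at hc
  obtain ⟨⟨⟨h1, h2⟩, h3⟩, h4⟩ := hc
  rw [List.all_eq_true] at h1 h2 h3 h4
  have hval : ∀ v ∈ ws, ValidW D v := by
    intro v hv i hi
    have := List.all_eq_true.mp (h1 v hv) i hi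
    rwa [decide_eq_true_eq] at this
  have hLlt : ∀ r ∈ L, r < D.nroots := by
    intro r hr
    have := h2 r hr
    rwa [decide_eq_true_eq] at this
  have hpos : ∀ v ∈ ws, ∀ r < D.nroots,
      Nat.testBit A.P (fsW A.T v r) = decide (D.IsPosRoot (h8sW D v r)) := by
    intro v hv r hr
    rw [← fsW_eq D hA A h v (hval v hv) r hr]
    exact fsChk_pos D A h _ (h8sW_lt D hA v (hval v hv) r hr)
  refine ⟨hval, ?_, ?_⟩
  · intro v hv r hr
    have := List.all_eq_true.mp (h3 v hv) r hr
    rw [hpos v hv r (hLlt r hr), decide_eq_true_eq] at this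
    exact this
  · intro s hs hall
    have := h4 s (List.mem_range.mpr hs)
    rw [Bool.or_eq_true, List.contains_iff_mem, List.any_eq_true] at this
    rcases this with h5 | ⟨v, hv, h5⟩
    · exact h5
    · exfalso
      rw [hpos v hv s hs] at h5
      simp only [Bool.not_eq_true', decide_eq_false_iff_not] at h5
      exact h5 (hall v hv)

end Cfsg.Agent.Lib.helper14.INV
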