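import Mathlib
import Cfsg.Prelude.Def_ChevStructure
import Cfsg.Agent.Lib.helper14.INV.F4Defs
import Cfsg.Agent.Lib.helper8.ChevWeyl1

/-!
# Project INV (all types): the action of `∏ n_r(1)` on the root subgroups (generic STDA)

If `a = v(p_j)` for a Weyl word `v`, then `n_a(1)` acts on the root subgroups through the word
`v ++ j :: v.reverse` (`nU_act_conj`); a product of such elements acts through the concatenation of the
words (`n1_act`).
-/

set_option autoImplicit false

namespace Cfsg.Agent.Lib.helper14.INV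

open Cfsg.Lie Cfsg.Lie.ChevalleyDatum Cfsg.Agent.Lib.helper8 Cfsg.Agent.Lib.helper14

universe u

variable {F : Type u} [Field F]

/-- `n_{v(p_j)}(1)` acts through the word `v ++ j :: v.reverse` -/
theorem nU_act_conj (D : ChevalleyDatum) (hB : H8Base.{u} D) (hA : H8ReflAll D) (hBN : H8BN D)
    (hW : H8BN2 D) (hO2 : H8Ord2 D) (v : List ℕ) (hv : ValidW D v) (j : ℕ) (hj : j < D.rank)
    (r : ℕ) (hr : r < D.nroots) :
    H8Act D hB (h8nU D hB (h8sW D v (D.simple j)) (1 : F)) r
      (h8sW D (v ++ j :: v.reverse) r) := by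
  have hs : D.simple j < D.nroots := (h8simple_pos D hBN j hj).1
  have hvr : ValidW D v.reverse := fun i hi => hv i (List.mem_reverse.mp hi)
  have h1 := h8Pi_conj (F := F) D hB hA hBN hW hO2 v hv (D.simple j) hs
  rw [h8Pi_simple D hB hA hBN hW hO2 j hj, h8wPerm_inv] at h1
  have h2 := h8Pi_act D hB hA hBN hW hO2
    (⟨h8nU D hB (h8sW D v (D.simple j)) (1 : F),
      h8nU_mem_N D hB _ (h8sW_lt D hA v hv _ hs)⟩ : ↥(D.monomialSubgroup F)) ⟨r, hr⟩
  rw [← h1] at h2
  have e : ((h8wPerm D hA v * h8sPerm D hA j * h8wPerm D hA v.reverse) ⟨r, hr⟩).val =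
      h8sW D (v ++ j :: v.reverse) r := by
    rw [Equiv.Perm.mul_apply, Equiv.Perm.mul_apply, h8wPerm_val D hA v hv,
      h8sPerm_val D hA j hj, h8wPerm_val D hA v.reverse hvr, h8sW_append]
    rfl
  rw [e] at h2
  exact h2

/-- the word through which `∏ n_a(1)`, `a = v(p_j)`, `(v, j) ∈ R`, acts -/
def stdWord (R : List (List ℕ × ℕ)) : List ℕ := R.flatMap fun e => e.1 ++ e.2 :: e.1.reverse

/-- the roots `v(p_j)`, `(v, j) ∈ R` -/
def stdRoots (D : ChevalleyDatum) (R : List (List ℕ × ℕ)) : List ℕ :=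
  R.map fun e => h8sW D e.1 (D.simple e.2)

theorem stdWord_valid (D : ChevalleyDatum) (R : List (List ℕ × ℕ))
    (hR : ∀ e ∈ R, ValidW D e.1 ∧ e.2 < D.rank) : ValidW D (stdWord R) := by
  intro i hi
  unfold stdWord at hi
  rw [List.mem_flatMap] at hi
  obtain ⟨e, he, hie⟩ := hi
  rw [List.mem_append, List.mem_cons, List.mem_reverse] at hie
  rcases hie with h | rfl | h
  · exact (hR e he).1 i h
  · exact (hR e he).2
  · exact (hR e he).1 i h

/-- generic STDA : `∏ n_a(1)` acts through the concatenated word -/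
theorem n1_act (D : ChevalleyDatum) (hB : H8Base.{u} D) (hA : H8ReflAll D) (hBN : H8BN D)
    (hW : H8BN2 D) (hO2 : H8Ord2 D) (R : List (List ℕ × ℕ))
    (hR : ∀ e ∈ R, ValidW D e.1 ∧ e.2 < D.rank) (r : ℕ) (hr : r < D.nroots) :
    H8Act D hB (n1 D hB (stdRoots D R) : GL D.Idx F) r (h8sW D (stdWord R) r) := by
  induction R with
  | nil =>
    refine ⟨1, one_ne_zero, fun t => ?_⟩
    simp [n1, stdRoots, stdWord, h8sW]
  | cons e R ih =>
    have hR' : ∀ e' ∈ R, ValidW D e'.1 ∧ e'.2 < D.rank :=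
      fun e' he' => hR e' (List.mem_cons_of_mem _ he')
    have h1 := ih hR'
    have hlt : h8sW D (stdWord R) r < D.nroots :=
      h8sW_lt D hA _ (stdWord_valid D R hR') r hr
    have h2 := nU_act_conj (F := F) D hB hA hBN hW hO2 e.1 (hR e List.mem_cons_self).1 e.2
      (hR e List.mem_cons_self).2 _ hlt
    have e1 : (n1 D hB (stdRoots D (e :: R)) : GL D.Idx F) =
        h8nU D hB (h8sW D e.1 (D.simple e.2)) (1 : F) * n1 D hB (stdRoots D R) := by
      unfold n1 stdRoots
      rw [List.map_cons, List.map_cons, List.prod_cons]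
    have e2 : h8sW D (stdWord (e :: R)) r =
        h8sW D (e.1 ++ e.2 :: e.1.reverse) (h8sW D (stdWord R) r) := by
      unfold stdWord
      rw [List.flatMap_cons, h8sW_append]
    rw [e1, e2]
    exact h8act_mul D hB _ _ _ _ _ h1 h2

end Cfsg.Agent.Lib.helper14.INV
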