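import Mathlib
import Cfsg.Agent.Lib.helper2.MI2.Defs

/-!
# MI2 row I5 (helper12): `Q_v` stabilises `X_v(H)`
-/

set_option autoImplicit false
set_option linter.unusedVariables false
set_option linter.unusedSectionVars false

namespace Cfsg.Agent.Lib.helper2.MI2

open Matrix

variable {m : ℕ}

theorem mi2i5_sub (H : Subgroup (G m)) {v : V m} {u : G m} (hu : u ∈ Qv v) {w : V m} (hw : w ∈ XA H v) :
    act u w ∈ XA H v := by
  obtain ⟨w₀, c₀, h0, rfl⟩ := hu
  rw [act_qe_of_perp h0 c₀ hw.1]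
  rcases z2_cases (ff w w₀) with h | h
  · rw [h, zero_smul, add_zero]; exact hw
  · rw [h, one_smul]; exact XA_add H hw (XA_self H v)

theorem XA_image_of_mem_Qv (H : Subgroup (G m)) {v : V m} {u : G m} (hu : u ∈ Qv v) :
    act u '' XA H v = XA H v := by
  apply Set.Subset.antisymm
  · rintro _ ⟨w, hw, rfl⟩
    exact mi2i5_sub H hu hw
  · intro w hw
    refine ⟨act u w, mi2i5_sub H hu hw, ?_⟩
    obtain ⟨w₀, c₀, h0, rfl⟩ := hu
    rw [← act_mul, qe_mul_self h0 c₀, act_one]

end Cfsg.Agent.Lib.helper2.MI2
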