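import Mathlib
import Cfsg.Agent.Lib.Helper24.MNP.Defs
import Cfsg.Agent.Lib.Helper1.TNPC.NilMax

/-!
# Project MNP (S4395), row M10 (core): every proper subgroup of the model `G0` has a normal
`p`-complement, from the statements of the rows M7, M8, M9 (helper12).
-/

set_option autoImplicit false

namespace Cfsg.Agent.Lib.Helper24.MNP

open scoped commutatorElement
open Cfsg.Agent.Lib.Helper24.SCH (SchAct)

universe u

section M

open SemidirectProduct

variable {T : Type u} [Group T] [Finite T] {p q r : ℕ} [Fact p.Prime] {α₀ : MulAut T}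

/-- M10 with the statements of M7, M8, M9 as hypotheses. -/
theorem mnpm10_core [Fact q.Prime] (hT : SchAct p q T α₀) (hr : 1 ≤ r) (hn : α₀ ^ (q ^ r) = 1)
    (hM7 : ∀ H : Subgroup (G0 (q ^ r) α₀ hn),
      (∀ g ∈ H, ∃ k : ZMod (q ^ r), g.right = Multiplicative.ofAdd ((q : ZMod (q ^ r)) * k)) →
      Group.IsNilpotent H)
    (hM8 : ∀ H : Subgroup (G0 (q ^ r) α₀ hn),
      (∃ g ∈ H, ¬ ∃ k : ZMod (q ^ r), g.right = Multiplicative.ofAdd ((q : ZMod (q ^ r)) * k)) →
      ∃ x : G0 (q ^ r) α₀ hn, x * inr (Multiplicative.ofAdd (1 : ZMod (q ^ r))) * x⁻¹ ∈ H)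
    (hM9 : ∀ H : Subgroup (G0 (q ^ r) α₀ hn),
      inr (Multiplicative.ofAdd (1 : ZMod (q ^ r))) ∈ H → H ≠ ⊤ → Group.IsNilpotent H)
    (H : Subgroup (G0 (q ^ r) α₀ hn)) (hH : H ≠ ⊤) : Cfsg.HasNormalPComplement p ↥H := by
  haveI : NeZero (q ^ r) := ⟨pow_ne_zero _ (Fact.out : q.Prime).ne_zero⟩
  have hnil : Group.IsNilpotent H := by
    by_cases h : ∀ g ∈ H, ∃ k : ZMod (q ^ r),
        g.right = Multiplicative.ofAdd ((q : ZMod (q ^ r)) * k)
    · exact hM7 H h
    · have h' : ∃ g ∈ H, ¬ ∃ k : ZMod (q ^ r),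
          g.right = Multiplicative.ofAdd ((q : ZMod (q ^ r)) * k) := by
        by_contra hc
        apply h
        intro g hg
        by_contra hk
        exact hc ⟨g, hg, hk⟩
      obtain ⟨x, hx⟩ := hM8 H h'
      set e : G0 (q ^ r) α₀ hn ≃* G0 (q ^ r) α₀ hn := MulAut.conj x⁻¹ with he
      set H' : Subgroup (G0 (q ^ r) α₀ hn) := H.map (e : G0 (q ^ r) α₀ hn →* G0 (q ^ r) α₀ hn)
        with hH'
      have hc : inr (Multiplicative.ofAdd (1 : ZMod (q ^ r))) ∈ H' := by
        refine ⟨x * inr (Multiplicative.ofAdd (1 : ZMod (q ^ r))) * x⁻¹, hx, ?_⟩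
        show e (x * inr (Multiplicative.ofAdd (1 : ZMod (q ^ r))) * x⁻¹) = _
        rw [he, MulAut.conj_apply]
        group
      have hne : H' ≠ ⊤ := by
        intro htop
        apply hH
        rw [eq_top_iff]
        intro g _
        have hg : e g ∈ H' := by rw [htop]; exact Subgroup.mem_top _
        obtain ⟨g', hg', hgg⟩ := hg
        have : g' = g := e.injective hgg
        rw [← this]
        exact hg'
      have hnil' : Group.IsNilpotent H' := hM9 H' hc hne
      exact Group.nilpotent_of_mulEquiv (e.subgroupMap H).symm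
  exact Cfsg.Agent.Lib.Helper1.TNPC.NilMax.npc_of_isNilpotent hnil

end M

end Cfsg.Agent.Lib.Helper24.MNP
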