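import Mathlib
import Cfsg.Agent.Lib.Helper12.MNPM10core
import Cfsg.Agent.Lib.helper3.MNPM7
import Cfsg.Agent.Lib.helper3.MNPM8
import Cfsg.Agent.Lib.Helper20.MNPM9

/-!
# Project MNP (S4395), row M10: every proper subgroup of the model `G0` has a normal
`p`-complement (helper12; `mnpm10_core` on the landed rows M7, M8, M9).
-/

set_option autoImplicit false

namespace Cfsg.Agent.Lib.Helper24.MNP

open scoped commutatorElement
open Cfsg.Agent.Lib.Helper24.SCH (SchAct)

universe u

section M

open SemidirectProduct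

variable {T : Type u} [Group T] [Finite T] {p q r : ℕ} [Fact p.Prime] {α₀ : MulAut T}

/-- M10 [M]. M7 or (M8, then M9 for the conjugate `H.map (MulAut.conj x⁻¹)`, isomorphic to `H`);
`Helper1 npc_of_isNilpotent`. -/
theorem proper_npc [Fact q.Prime] (hT : SchAct p q T α₀) (hr : 1 ≤ r) (hn : α₀ ^ (q ^ r) = 1)
    (H : Subgroup (G0 (q ^ r) α₀ hn)) (hH : H ≠ ⊤) : Cfsg.HasNormalPComplement p ↥H :=
  mnpm10_core hT hr hn (fun H hH => nilp_of_right_dvd hT hn H hH)
    (fun H hH => exists_conj_gen hT hr hn H hH)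
    (fun H hc hH => nilp_of_gen_mem hT hn H hc hH) H hH

end M

end Cfsg.Agent.Lib.Helper24.MNP
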