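import Mathlib
import Cfsg.Agent.Lib.Helper24.MNP.Defs

/-!
# Project MNP (S4395), row T2: the commutator formula in `UT K σ` (helper12).
-/

set_option autoImplicit false

namespace Cfsg.Agent.Lib.Helper24.MNP

open scoped commutatorElement
open Cfsg.Agent.Lib.Helper24.SCH (SchAct)

universe u

section T

variable {K : Type u} [Field K] [Finite K] {p q : ℕ} [Fact p.Prime] [Fact q.Prime] [CharP K p]

variable {σ : InvHom K}

/-- T2 [S-M]. Direct computation with `UT.mul_x/mul_z/inv_x/inv_z`. -/
theorem comm_UT (a b : UT K σ) :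
    (⁅a, b⁆ : UT K σ).x = 0 ∧ (⁅a, b⁆ : UT K σ).z = σ.s a.x * b.x - σ.s b.x * a.x := by
  rw [commutatorElement_def]
  constructor
  · simp only [UT.mul_x, UT.inv_x]
    ring
  · simp only [UT.mul_x, UT.mul_z, UT.inv_x, UT.inv_z, map_add, map_neg]
    ring

end T

end Cfsg.Agent.Lib.Helper24.MNP
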