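/-
MSS piece CARD1 (project leader helper27): the order of GL_2(q) for a prime q = 2^(k-1) - 1 mod 2^k
is 2^(k+1) times an odd number.
-/
import Mathlib

namespace Cfsg.Agent.Lib.Helper27.MSS

theorem msscard1_card (q : ℕ) [Fact q.Prime] :
    Nat.card (GL (Fin 2) (ZMod q)) = (q ^ 2 - 1) * (q ^ 2 - q) := by
  rw [Matrix.card_GL_field, ZMod.card]
  simp [Fin.prod_univ_two]

theorem msscard1_arith (q k : ℕ) (hk : 3 ≤ k) (hq : q % 2 ^ k = 2 ^ (k - 1) - 1) :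
    ∃ m : ℕ, Odd m ∧ (q ^ 2 - 1) * (q ^ 2 - q) = 2 ^ (k + 1) * m := by
  obtain ⟨j, rfl⟩ : ∃ j, k = j + 3 := ⟨k - 3, by omega⟩
  have hk1 : j + 3 - 1 = j + 2 := by omega
  rw [hk1] at hq
  set A : ℕ := 2 ^ j with hA
  have hApos : 1 ≤ A := Nat.one_le_two_pow
  have e3 : 2 ^ (j + 3) = 8 * A := by rw [hA]; ring
  have e2 : 2 ^ (j + 2) = 4 * A := by rw [hA]; ring
  have e4 : 2 ^ (j + 3 + 1) = 16 * A := by rw [hA]; ring
  obtain ⟨t, hq'⟩ : ∃ t, q = 8 * A * t + (4 * A - 1) := by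
    have := Nat.div_add_mod q (2 ^ (j + 3))
    rw [hq, e3, e2] at this
    exact ⟨_, this.symm⟩
  obtain ⟨c, hc⟩ : ∃ c, c + 1 = 4 * A * t + 2 * A := ⟨4 * A * t + 2 * A - 1, by omega⟩
  have hqc : q = 2 * c + 1 := by
    have h1 : 8 * A * t = 2 * (4 * A * t) := by ring
    omega
  have hcodd : Odd c := by
    refine ⟨2 * A * t + A - 1, ?_⟩
    have h1 : 4 * A * t = 2 * (2 * A * t) := by ring
    omega
  refine ⟨c ^ 2 * (2 * t + 1) * (2 * c + 1), ?_, ?_⟩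
  · exact ((hcodd.pow).mul ⟨t, rfl⟩).mul ⟨c, rfl⟩
  · rw [e4, hqc]
    have h1 : (2 * c + 1) ^ 2 - 1 = 4 * c * (c + 1) :=
      Nat.sub_eq_of_eq_add (by ring)
    have h2 : (2 * c + 1) ^ 2 - (2 * c + 1) = 2 * c * (2 * c + 1) :=
      Nat.sub_eq_of_eq_add (by ring)
    rw [h1, h2, hc]
    ring

/-- CARD1 -/
theorem card_gl_two (q k : ℕ) [Fact q.Prime] (hk : 3 ≤ k) (hq : q % 2 ^ k = 2 ^ (k - 1) - 1) :
    ∃ m : ℕ, Odd m ∧ Nat.card (GL (Fin 2) (ZMod q)) = 2 ^ (k + 1) * m := by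
  rw [msscard1_card]
  exact msscard1_arith q k hk hq

end Cfsg.Agent.Lib.Helper27.MSS
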