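/-
MSS piece Q8 (project leader helper27): the quaternion group of order 8 has an automorphism of
order 3 (the cyclic permutation of i, j, k), so it is not `SmallAut 2`.
-/
import Mathlib
import Cfsg.Agent.Lib.Helper27.AbInvNeg

namespace Cfsg.Agent.Lib.Helper27.MSS

open Cfsg.Agent.Lib.Helper27.AbInvNeg

/-- the cyclic permutation `i ↦ j ↦ k ↦ i` of the quaternion group of order 8 -/
def mssq8_fwd : QuaternionGroup 2 → QuaternionGroup 2
  | .a i => (![.a 0, .xa 0, .a 2, .xa 2] : Fin 4 → QuaternionGroup 2) i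
  | .xa i => (![.xa 3, .a 3, .xa 1, .a 1] : Fin 4 → QuaternionGroup 2) i

/-- the inverse permutation -/
def mssq8_bwd : QuaternionGroup 2 → QuaternionGroup 2
  | .a i => (![.a 0, .xa 3, .a 2, .xa 1] : Fin 4 → QuaternionGroup 2) i
  | .xa i => (![.a 1, .xa 2, .a 3, .xa 0] : Fin 4 → QuaternionGroup 2) i

theorem mssq8_left : ∀ x, mssq8_bwd (mssq8_fwd x) = x := by decide

theorem mssq8_right : ∀ x, mssq8_fwd (mssq8_bwd x) = x := by decide

theorem mssq8_mul : ∀ x y, mssq8_fwd (x * y) = mssq8_fwd x * mssq8_fwd y := by decide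

/-- the automorphism of order 3 -/
def mssq8_aut : MulAut (QuaternionGroup 2) where
  toFun := mssq8_fwd
  invFun := mssq8_bwd
  left_inv := mssq8_left
  right_inv := mssq8_right
  map_mul' := mssq8_mul

theorem mssq8_cube : mssq8_aut ^ 3 = 1 := by
  ext x
  revert x
  show ∀ x, mssq8_fwd (mssq8_fwd (mssq8_fwd x)) = x
  decide

theorem mssq8_ne_one : mssq8_aut ≠ 1 := by
  intro h
  have h1 : mssq8_aut (.a 1) = .a 1 := by rw [h]; rfl
  revert h1
  show ¬ mssq8_fwd (.a 1) = .a 1
  decide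

theorem mssq8_order : orderOf mssq8_aut = 3 := by
  have : Fact (Nat.Prime 3) := ⟨by norm_num⟩
  exact orderOf_eq_prime mssq8_cube mssq8_ne_one

/-- Q8 -/
theorem not_smallAut_quaternion_two : ¬ SmallAut 2 (QuaternionGroup 2) := by
  intro h
  have hc : (Nat.card ↥(Subgroup.zpowers mssq8_aut)).Coprime 2 := by
    rw [Nat.card_zpowers, mssq8_order]
    decide
  have h1 := (h (Subgroup.zpowers mssq8_aut) hc).2 mssq8_aut (Subgroup.mem_zpowers _)
  rw [show 2 - 1 = 1 from rfl, pow_one] at h1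
  exact mssq8_ne_one h1

end Cfsg.Agent.Lib.Helper27.MSS
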