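import Mathlib
import Cfsg.Prelude.Def_KGroupFacts
import Cfsg.Agent.Lib.helper23.SchurIndex

/-!
Restriction to a subgroup of index prime to `p`: if the order of the multiplier of the subgroup is prime to `p`,
then the order of the kernel of every finite stem extension of the group is prime to `p` (helper12).
-/

set_option autoImplicit false

namespace Cfsg.Agent.Lib.Helper12.MultRestrict

open Cfsg.Agent.Lib.helper23

universe u v w

theorem not_dvd_card_ker_of_subgroup {G : Type u} [Group G] [Finite G] (U : Subgroup G)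
    {B : Type v} [CommGroup B] (hB : Cfsg.HasSchurMultiplier U B) (p : ℕ) [hp : Fact p.Prime]
    (hpB : ¬ p ∣ Nat.card B) (hidx : ¬ p ∣ U.index)
    {Γ : Type w} [Group Γ] [Finite Γ] (σ : Γ →* G) (hσ : Cfsg.IsStemExtension σ) :
    ¬ p ∣ Nat.card σ.ker := by
  intro hdvd
  obtain ⟨a, ha⟩ := exists_prime_orderOf_dvd_card' p hdvd
  set ΓU : Subgroup Γ := U.comap σ with hΓU
  set σU : ΓU →* U := σ.subgroupComap U with hσU
  have hσUs : Function.Surjective σU := σ.subgroupComap_surjective_of_surjective U hσ.1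
  have hσUa : ∀ x : ΓU, ((σU x : U) : G) = σ (x : Γ) := fun x => rfl
  have hkerU' : ∀ x : ΓU, x ∈ σU.ker → (x : Γ) ∈ σ.ker := by
    intro x hx
    rw [MonoidHom.mem_ker] at hx ⊢
    rw [← hσUa, hx]; rfl
  have hkerU : σU.ker ≤ Subgroup.center ΓU := by
    intro x hx
    rw [Subgroup.mem_center_iff]
    intro g
    exact Subtype.ext (Subgroup.mem_center_iff.mp (hσ.2.1 (hkerU' x hx)) (g : Γ))
  obtain ⟨π, hπ⟩ := scv_mult_to_central hB σU hσUs hkerU
  have hidx' : ΓU.index = U.index := Subgroup.index_comap_of_surjective U hσ.1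
  have hfinB : Finite B := by
    obtain ⟨Γ', _, _, σ', _, ⟨e'⟩⟩ := hB.1
    exact Finite.of_equiv _ e'.toEquiv
  have ha1 : (a : Γ) ∈ Subgroup.center Γ := hσ.2.1 a.2
  have ha2 : (a : Γ) ∈ commutator Γ := hσ.2.2 a.2
  obtain ⟨h1, h2⟩ := sci_transfer_pow ΓU _ ha1 ha2
  have hk : (⟨(a : Γ) ^ ΓU.index, h1⟩ : ΓU) ∈ σU.ker := by
    rw [MonoidHom.mem_ker]
    apply Subtype.ext
    rw [hσUa]
    show σ ((a : Γ) ^ ΓU.index) = 1
    rw [map_pow, MonoidHom.mem_ker.mp a.2, one_pow]
  have hr : (⟨⟨(a : Γ) ^ ΓU.index, h1⟩, hk⟩ : σU.ker) ∈ π.range := (hπ _).mpr h2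
  -- the order of the element
  have hoa : orderOf (a : Γ) = p := by
    rw [Subgroup.orderOf_coe]; exact ha
  have hcop : Nat.Coprime p ΓU.index := by
    rw [hidx']
    exact (Nat.Prime.coprime_iff_not_dvd hp.out).mpr hidx
  have hopow : orderOf ((a : Γ) ^ ΓU.index) = p := by
    rw [Nat.Coprime.orderOf_pow (by rw [hoa]; exact hcop), hoa]
  have hoy : orderOf (⟨⟨⟨(a : Γ) ^ ΓU.index, h1⟩, hk⟩, hr⟩ : π.range) = p := by
    rw [← hopow]
    rw [← Subgroup.orderOf_coe, ← Subgroup.orderOf_coe, ← Subgroup.orderOf_coe]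
  have hd1 : p ∣ Nat.card π.range := by
    rw [← hoy]
    exact orderOf_dvd_natCard _
  have hd2 : Nat.card π.range ∣ Nat.card B := Subgroup.card_range_dvd π
  exact hpB (hd1.trans hd2)

/-- the form for a subgroup with trivial multiplier -/
theorem not_dvd_card_ker_of_trivial {G : Type u} [Group G] [Finite G] (U : Subgroup G)
    (hU : Cfsg.HasCyclicSchurMultiplier U 1) (p : ℕ) [hp : Fact p.Prime] (hidx : ¬ p ∣ U.index)
    {Γ : Type w} [Group Γ] [Finite Γ] (σ : Γ →* G) (hσ : Cfsg.IsStemExtension σ) :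
    ¬ p ∣ Nat.card σ.ker := by
  apply not_dvd_card_ker_of_subgroup U hU p _ hidx σ hσ
  have : Nat.card (Multiplicative (ZMod 1)) = 1 := by
    rw [Nat.card_eq_one_iff_unique]
    exact ⟨inferInstance, ⟨1⟩⟩
  rw [this]
  exact hp.out.one_lt.ne' ∘ Nat.dvd_one.mp

end Cfsg.Agent.Lib.Helper12.MultRestrict
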