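import Mathlib
import Cfsg.Agent.Lib.helper7.NCV.Defs

/-!
# Project NCV (S3894), row B7: row `0` of `uJ'` is not a multiple of `e_0` (helper12).
-/

set_option autoImplicit false

namespace Cfsg.Agent.Lib.helper7.NCV

open Matrix

universe u

variable {F : Type u} [Field F] {n : ℕ}

/-- the entry `(0, 1)` of `uJ'` is `1` -/
theorem ncvb7_entry (m : ℕ) : (uJ' m : Matrix (Fin (m + 3)) (Fin (m + 3)) F) 0 1 = 1 := by
  have h0 : (sw m) 0 = 1 := by simp [sw]
  have h1 : (sw m) 1 = 0 := by simp [sw]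
  simp only [uJ', Matrix.submatrix_apply, h0, h1, uJ]
  simp

/-- **B7 (ROW0').** Row `0` of `uJ'` is `e_0 + e_1`, not a multiple of `e_0`
(evaluate at the index `1`: `uJ' 0 1 = uJ 1 0 = 1`). -/
theorem uJ'_row0 (m : ℕ) (c : F) :
    (Pi.single 0 1 : Fin (m + 3) → F) ᵥ* uJ' m ≠ c • (Pi.single 0 1 : Fin (m + 3) → F) := by
  intro h
  have h1 := congrFun h 1
  rw [Matrix.single_one_vecMul] at h1
  simp only [Matrix.row_apply, Pi.smul_apply, smul_eq_mul] at h1
  rw [ncvb7_entry] at h1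
  have h2 : (Pi.single 0 1 : Fin (m + 3) → F) 1 = 0 := by
    rw [Pi.single_apply]
    have : (1 : Fin (m + 3)) ≠ 0 := by
      intro h
      have := congrArg Fin.val h
      simp at this
    simp [this]
  rw [h2, mul_zero] at h1
  exact one_ne_zero h1

end Cfsg.Agent.Lib.helper7.NCV
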