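import Mathlib
import Cfsg.Agent.Lib.helper17.OMP.Defs
import Cfsg.Agent.Lib.helper15.OMPA16

/-!
# Project OMP (designer helper17), block E, row E10 (`embI_tv`, restated with `κ` in its own universe), VERBATIM vs
`helper17/OMP/Skel.lean.txt`: the block embedding on transvections (one line on helper15's `ompa16_embI_tv`).
-/

set_option autoImplicit false

namespace Cfsg.Agent.Lib.helper17.OMP

open Matrix Cfsg.Agent.Lib.helper14.CTE Cfsg.Agent.Lib.helper14.CTA Cfsg.Agent.Lib.helper17.SLN Cfsg.Agent.Lib.Helper28.CTD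
  Cfsg.Agent.Lib.helper3.STC Cfsg.Agent.Lib.Lead.STD

universe u v w

section E

variable {F : Type u} [Field F] {ι : Type w} [Fintype ι] [DecidableEq ι]

/-- E10 -/
theorem embI_tv {κ : Type v} [Fintype κ] [DecidableEq κ] (f : κ → ι) (hf : Function.Injective f) (a b : κ) (hab : a ≠ b) (t : F) :
    embI f hf (tv a b t : Matrix.SpecialLinearGroup κ F) = tv (f a) (f b) t :=
  ompa16_embI_tv f hf a b hab t

end E

end Cfsg.Agent.Lib.helper17.OMP
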