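import Mathlib
import Cfsg.Agent.Lib.Helper19.ORE.Defs
import Cfsg.Agent.Lib.Helper24.OREC1
import Cfsg.Agent.Lib.Helper26.OREB4

/-!
# Project ORE (S2444), row C2: the cyclic piece of dimension `d + 1 ≥ 2`
(wrapper of `field_piece` and `one_chain`; helper12).
-/

set_option autoImplicit false

namespace Cfsg.Agent.Lib.Helper19.ORE

open Polynomial Module

universe u v w v₁ v₂ v₃ v₄

section General
variable {F : Type u} [Field F]

theorem cyc_piece [Fintype F] {V : Type v} [AddCommGroup V] [Module F V] [FiniteDimensional F V]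
    (g : V ≃ₗ[F] V) (hg : IsCyc g) (d : ℕ) (hd : 1 ≤ d) (hV : finrank F V = d + 1) :
    ∃ (m : (Fin d → F) ≃ₗ[F] (Fin d → F)) (p : F[X]) (D₀ : Fˣ),
      Split g m (smulE (LinearEquiv.det g)) ∧
      (∀ k : ℕ, ¬ (Fintype.card F ^ d - 1 ∣ k) → IsCoprime p (X ^ k - 1)) ∧
      ∀ E' : Fˣ, SolP m D₀ E' p := by
  obtain ⟨m, p, D₀, hm, hdet, hcop, hsol⟩ := field_piece (F := F) d hd
  refine ⟨m, p, D₀, ?_, hcop, hsol⟩
  have h := one_chain g m d hV (by simp) hg hm
  rw [hdet] at h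
  simpa using h

end General

end Cfsg.Agent.Lib.Helper19.ORE
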