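import Mathlib
import Cfsg.Prelude.Def_Classical
import Cfsg.Agent.Lib.helper23.P4V.Defs

/-!
# P4V (S2460), row I1 (core): `amat` of the sheared normal frame (helper12).
The invariance `om (g u) (g w) = om u w` (row OM2) is a hypothesis here.
-/

set_option autoImplicit false

namespace Cfsg.Agent.Lib.helper23.P4V

open Matrix

universe u

section Field

variable {F : Type u} [Field F]

theorem p4vi1_add_right (u v v' : V F) : om u (v + v') = om u v + om u v' := by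
  unfold om
  simp only [Pi.add_apply]
  ring

theorem p4vi1_smul_right (c : F) (u v : V F) : om u (c • v) = c * om u v := by
  unfold om
  simp only [Pi.smul_apply, smul_eq_mul]
  ring

theorem p4vi1_swap (u v : V F) : om v u = -om u v := by
  unfold om
  ring

theorem p4vi1_self (u : V F) : om u u = 0 := by
  unfold om
  ring

/-- **I1** (core): the statement of `caseI_amat` with OM2 for `g` as a hypothesis. -/
theorem p4vi1_core (g : M4 F) (hOM2 : ∀ u w : V F, om (g *ᵥ u) (g *ᵥ w) = om u w) (v e₂ f₂ : V F)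
    (hφ : om v (g *ᵥ v) ≠ 0) (hfr : IsFrame v e₂ ((om v (g *ᵥ v))⁻¹ • (g *ᵥ v)) f₂) (s₁₁ s₁₂ s₂₂ : F) :
    amat g v e₂ ((om v (g *ᵥ v))⁻¹ • (g *ᵥ v) + s₁₁ • v + s₁₂ • e₂) (f₂ + s₁₂ • v + s₂₂ • e₂) =
      !![-(om v (g *ᵥ v)) * s₁₁, s₁₁ * om (g *ᵥ e₂) v + s₁₂ * om (g *ᵥ e₂) e₂;
         -(om v (g *ᵥ v)) * s₁₂,
           om (g *ᵥ e₂) f₂ + s₁₂ * om (g *ᵥ e₂) v + s₂₂ * om (g *ᵥ e₂) e₂] := by
  obtain ⟨h12, hff, _h11, _h22, _h1f2, h2f1⟩ := hfr
  have hinv : (om v (g *ᵥ v))⁻¹ ≠ 0 := inv_ne_zero hφ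
  -- `om (g v) e₂ = 0`
  have ha : om (g *ᵥ v) e₂ = 0 := by
    rw [p4vi1_smul_right] at h2f1
    have : om e₂ (g *ᵥ v) = 0 := by
      rcases mul_eq_zero.mp h2f1 with h | h
      · exact absurd h hinv
      · exact h
    rw [p4vi1_swap, this, neg_zero]
  -- `om (g v) f₂ = 0`
  have hb : om (g *ᵥ v) f₂ = 0 := by
    rw [p4vi1_swap, p4vi1_smul_right] at hff
    have h' : (om v (g *ᵥ v))⁻¹ * om f₂ (g *ᵥ v) = 0 := neg_eq_zero.mp hff
    have : om f₂ (g *ᵥ v) = 0 := by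
      rcases mul_eq_zero.mp h' with h | h
      · exact absurd h hinv
      · exact h
    rw [p4vi1_swap, this, neg_zero]
  -- `om (g e₂) (g v) = 0`
  have hc : om (g *ᵥ e₂) (g *ᵥ v) = 0 := by
    rw [hOM2, p4vi1_swap, h12, neg_zero]
  have hd : om (g *ᵥ v) v = -om v (g *ᵥ v) := p4vi1_swap v (g *ᵥ v)
  have he : om (g *ᵥ v) (g *ᵥ v) = 0 := p4vi1_self _
  unfold amat
  simp only [p4vi1_add_right, p4vi1_smul_right, ha, hb, hc, hd, he]
  congr 1
  · ext i j
    fin_cases i <;> fin_cases j <;> simp <;> ring
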