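import Mathlib
import Cfsg.Prelude.Def_Classical
import Cfsg.Agent.Lib.helper23.P4V.Defs
import Cfsg.Agent.Lib.Helper20.P4VOM2
import Cfsg.Agent.Lib.Helper12.P4VI1core

/-!
# P4V (S2460), row I1: `amat` of the sheared normal frame (helper12; verbatim wrapper of the core).
-/

set_option autoImplicit false

namespace Cfsg.Agent.Lib.helper23.P4V

open Matrix

universe u

section Field

variable {F : Type u} [Field F]

/-- **I1**.  Frame `(v, e₂, φ⁻¹ g v, f₂)`, `φ = om v (g v)`, sheared by `s`: bilinearity, OM2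
(`om (g e₂) (g v) = om e₂ v = 0`) and the frame relations. -/
theorem caseI_amat (g : M4 F) (hg : g ∈ Matrix.symplecticGroup (Fin 2) F) (v e₂ f₂ : V F)
    (hφ : om v (g *ᵥ v) ≠ 0) (hfr : IsFrame v e₂ ((om v (g *ᵥ v))⁻¹ • (g *ᵥ v)) f₂) (s₁₁ s₁₂ s₂₂ : F) :
    amat g v e₂ ((om v (g *ᵥ v))⁻¹ • (g *ᵥ v) + s₁₁ • v + s₁₂ • e₂) (f₂ + s₁₂ • v + s₂₂ • e₂) =
      !![-(om v (g *ᵥ v)) * s₁₁, s₁₁ * om (g *ᵥ e₂) v + s₁₂ * om (g *ᵥ e₂) e₂;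
         -(om v (g *ᵥ v)) * s₁₂,
           om (g *ᵥ e₂) f₂ + s₁₂ * om (g *ᵥ e₂) v + s₂₂ * om (g *ᵥ e₂) e₂] :=
  p4vi1_core g (fun u w => om_mulVec g hg u w) v e₂ f₂ hφ hfr s₁₁ s₁₂ s₂₂

end Field

end Cfsg.Agent.Lib.helper23.P4V
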