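import Mathlib
import Cfsg.Prelude.Def_OddOrderLocal
import Cfsg.Prelude.Def_Transfer
import Cfsg.Agent.Lib.Helper18.PRL.Defs
import Cfsg.Agent.Lib.Helper21.MaxClassP
import Cfsg.Agent.Lib.helper17.Frattini
import Cfsg.Agent.Lib.Helper11.FrobQuot

/-!
# PRL-P27 : a non-metacyclic group of order 27 and class 2 is extraspecial of exponent 3
-/

set_option autoImplicit false

namespace Cfsg.Agent.Lib.Helper18.PRL

open scoped commutatorElement

universe u

section three
variable {G : Type u} [Group G] [Finite G]

/-- PRL-P27 -/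
theorem extraspecial_of_not_metacyclic (h : MC 3 G 3) (hm : ¬ Cfsg.IsMetacyclic G) :
    Cfsg.IsExtraspecial 3 G ∧ Monoid.exponent G = 3 := by
  classical
  have hp3 : Fact (Nat.Prime 3) := ⟨Nat.prime_three⟩
  obtain ⟨hcard, hcl⟩ := h
  have hpg : IsPGroup 3 G := IsPGroup.of_card hcard
  have hnil : Group.IsNilpotent G := hpg.isNilpotent
  obtain ⟨hZ, hQ, -⟩ := Cfsg.Agent.Lib.Helper21.mc_center_card 3 3 le_rfl G hcard hcl
  obtain ⟨hidx, hpow⟩ := Cfsg.Agent.Lib.Helper21.mc_p_index 3 3 G le_rfl hcard hcl
  -- the derived subgroup has order 3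
  have hD : Nat.card (commutator G) = 3 := by
    have := (commutator G).card_mul_index
    rw [hidx, hcard] at this
    omega
  -- the central quotient is abelian
  have hQc : ∀ a b : G ⧸ Subgroup.center G, a * b = b * a := by
    have hmc : IsMulCommutative (G ⧸ Subgroup.center G) :=
      IsPGroup.isMulCommutative_of_card_eq_prime_sq (p := 3) (by rw [hQ])
    exact fun a b => hmc.is_comm.comm a b
  have hDZ : commutator G ≤ Subgroup.center G := by
    let _ : CommGroup (G ⧸ Subgroup.center G) :=
      { (inferInstance : Group (G ⧸ Subgroup.center G)) with mul_comm := hQc }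
    have := Abelianization.commutator_subset_ker (QuotientGroup.mk' (Subgroup.center G))
    rwa [QuotientGroup.ker_mk'] at this
  have hDeq : commutator G = Subgroup.center G :=
    Subgroup.eq_of_le_of_card_ge hDZ (by rw [hZ, hD])
  have hcomm : ∀ x y : G, ⁅x, y⁆ ∈ Subgroup.center G := fun x y =>
    hDZ (Subgroup.commutator_mem_commutator (Subgroup.mem_top x) (Subgroup.mem_top y))
  have hpowZ : ∀ x : G, x ^ 3 ∈ Subgroup.center G := fun x => hDeq ▸ hpow x
  have hF : frattini G = Subgroup.center G := by
    apply le_antisymm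
    · exact Cfsg.Agent.Lib.helper17.frattini_le_of_comm_pow_mem (p := 3) _ hcomm hpowZ
    · rw [← hDeq]
      exact Cfsg.Agent.Lib.Helper11.FrobQuot.nilpotent_commutator_le_frattini
  refine ⟨⟨⟨hpg, hF, hDeq⟩, hZ⟩, ?_⟩
  -- exponent three
  have hcube : ∀ x : G, x ^ 3 = 1 := by
    intro x
    by_contra hx
    apply hm
    have hx9 : x ^ 9 = 1 := by
      have h1 : (⟨x ^ 3, hpow x⟩ : commutator G) ^ 3 = 1 := by
        have := pow_card_eq_one' (G := commutator G) (x := ⟨x ^ 3, hpow x⟩)
        rwa [hD] at this
      have h2 := congrArg Subtype.val h1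
      simp only [Subgroup.coe_pow, Subgroup.coe_one] at h2
      rw [← h2, ← pow_mul]
    have hord : orderOf x = 9 := by
      have hd : orderOf x ∣ 3 ^ 2 := orderOf_dvd_of_pow_eq_one hx9
      obtain ⟨k, hk, hk'⟩ := (Nat.dvd_prime_pow Nat.prime_three).mp hd
      have hk3 : ¬ orderOf x ∣ 3 := fun hdvd => hx (orderOf_dvd_iff_pow_eq_one.mp hdvd)
      interval_cases k
      · rw [hk'] at hk3; norm_num at hk3
      · rw [hk'] at hk3; norm_num at hk3
      · rw [hk']; norm_num
    have hNcard : Nat.card (Subgroup.zpowers x) = 9 := by rw [Nat.card_zpowers, hord]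
    have hNidx : (Subgroup.zpowers x).index = 3 := by
      have := (Subgroup.zpowers x).card_mul_index
      rw [hNcard, hcard] at this
      omega
    have hNn : (Subgroup.zpowers x).Normal := by
      apply Subgroup.normal_of_index_eq_minFac_card
      rw [hNidx, hcard]
      norm_num
    refine ⟨Subgroup.zpowers x, hNn, inferInstance, ?_⟩
    have : Nat.card (G ⧸ Subgroup.zpowers x) = 3 := by
      rw [← Subgroup.index_eq_card]; exact hNidx
    exact isCyclic_of_prime_card this
  have hnt : Nontrivial G := by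
    rw [← Finite.one_lt_card_iff_nontrivial, hcard]; norm_num
  have hdvd : Monoid.exponent G ∣ 3 := Monoid.exponent_dvd_of_forall_pow_eq_one hcube
  rcases (Nat.dvd_prime Nat.prime_three).mp hdvd with h1 | h3
  · exfalso
    have := Monoid.exp_eq_one_iff.mp h1
    exact not_subsingleton G this
  · exact h3

end three

end Cfsg.Agent.Lib.Helper18.PRL
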