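import Mathlib

/-!
# PRL-SYL : a group of order 81 with a core-free subgroup of order 9 is a Sylow 3-subgroup of
the symmetric group of degree 9
-/

set_option autoImplicit false

namespace Cfsg.Agent.Lib.Helper18.PRL

/-- PRL-SYL -/
theorem sylow_perm9 {X : Type*} [Group X] (hX : Nat.card X = 81) (K : Subgroup X)
    (hK : Nat.card K = 9) (hc : K.normalCore = ⊥) :
    ∃ W : Sylow 3 (Equiv.Perm (Fin 9)),
      Nonempty (X ≃* ↥(W : Subgroup (Equiv.Perm (Fin 9)))) := by
  classical
  have : Finite X := Nat.finite_of_card_ne_zero (by rw [hX]; norm_num)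
  -- the coset space has nine points
  have hidx : K.index = 9 := by
    have h := K.card_mul_index
    rw [hK, hX] at h
    omega
  have hcard : Nat.card (X ⧸ K) = 9 := by rw [← Subgroup.index_eq_card]; exact hidx
  haveI : Fintype (X ⧸ K) := Fintype.ofFinite _
  have hcard' : Fintype.card (X ⧸ K) = 9 := by rw [← Nat.card_eq_fintype_card]; exact hcard
  let e : (X ⧸ K) ≃ Fin 9 := Fintype.equivFinOfCardEq hcard'
  -- the faithful action
  let φ : X →* Equiv.Perm (Fin 9) :=
    (e.permCongrHom.toMonoidHom).comp (MulAction.toPermHom X (X ⧸ K))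
  have hker : (MulAction.toPermHom X (X ⧸ K)).ker = ⊥ := by
    rw [← Subgroup.normalCore_eq_ker, hc]
  have hinj : Function.Injective φ := by
    intro a b hab
    have h1 : MulAction.toPermHom X (X ⧸ K) a = MulAction.toPermHom X (X ⧸ K) b :=
      e.permCongrHom.injective hab
    exact (MonoidHom.ker_eq_bot_iff _).mp hker h1
  have hrange : Nat.card φ.range = 81 := by
    rw [← hX]
    exact (Nat.card_congr (MonoidHom.ofInjective hinj).toEquiv).symm
  have hfact : (Nat.card (Equiv.Perm (Fin 9))).factorization 3 = 4 := by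
    rw [Nat.card_eq_fintype_card, Fintype.card_perm, Fintype.card_fin]
    have : (9 : ℕ).factorial = 3 ^ 4 * 4480 := by decide
    rw [this, Nat.factorization_mul (by norm_num) (by norm_num), Nat.factorization_pow]
    simp only [Finsupp.coe_add, Finsupp.coe_smul, Pi.add_apply, Pi.smul_apply, smul_eq_mul]
    rw [Nat.Prime.factorization_self Nat.prime_three]
    have : (4480 : ℕ).factorization 3 = 0 := Nat.factorization_eq_zero_of_not_dvd (by norm_num)
    rw [this]
  have : Fact (Nat.Prime 3) := ⟨Nat.prime_three⟩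
  refine ⟨Sylow.ofCard φ.range (by rw [hrange, hfact]; norm_num), ⟨?_⟩⟩
  exact MonoidHom.ofInjective hinj

end Cfsg.Agent.Lib.Helper18.PRL
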