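import Mathlib
import Cfsg.Prelude.Def_AxialAlgebras
import Cfsg.Agent.Lib.Helper24.SAK.Defs

/-!
# Project SAK (S5544), row B3 (core): the action of `μ₀`, `μ₁` on the six axes, from the
statements of the rows A1 (`mu_invol`) and A2 (`mu_fix`) (helper12).
-/

set_option autoImplicit false

namespace Cfsg.Agent.Lib.Helper24.SAK

open Cfsg.Axial

variable {V : Type*} [AddCommGroup V] [Module ℝ V]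

/-- B3 with the statements of A1, A2 as hypotheses. -/
theorem sakb3_core {mul : V →ₗ[ℝ] V →ₗ[ℝ] V} {B : LinearMap.BilinForm ℝ V} {μ₀ μ₁ : V ≃ₗ[ℝ] V}
    {am2 am1 a0 a1 a2 a3 s1 s2e s2o : V} {l m n k p q r : ℝ}
    (hA1 : ∀ (μ : V ≃ₗ[ℝ] V) (a : V), IsMajoranaPair mul B μ a → ∀ v : V, μ (μ v) = v)
    (hA2 : ∀ (μ : V ≃ₗ[ℝ] V) (a : V), IsMajoranaPair mul B μ a → μ a = a)
    (h : Dih mul B μ₀ μ₁ am2 am1 a0 a1 a2 a3 s1 s2e s2o l m n k p q r) :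
    μ₀ a0 = a0 ∧ μ₀ a1 = am1 ∧ μ₀ am1 = a1 ∧ μ₀ a2 = am2 ∧ μ₀ am2 = a2 ∧
      μ₁ a1 = a1 ∧ μ₁ a0 = a2 ∧ μ₁ a2 = a0 ∧ μ₁ am1 = a3 ∧ μ₁ a3 = am1 := by
  obtain ⟨⟨_, h0, h1, _, _⟩, e2, em1, em2, e3, _⟩ := h
  refine ⟨hA2 μ₀ a0 h0, em1.symm, ?_, em2.symm, ?_, hA2 μ₁ a1 h1, e2.symm, ?_, e3.symm, ?_⟩
  · rw [em1, hA1 μ₀ a0 h0]
  · rw [em2, hA1 μ₀ a0 h0]
  · rw [e2, hA1 μ₁ a1 h1]
  · rw [e3, hA1 μ₁ a1 h1]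

end Cfsg.Agent.Lib.Helper24.SAK
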