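import Mathlib
import Cfsg.Prelude.Def_AxialAlgebras
import Cfsg.Agent.Lib.Helper24.SAK.Defs

/-!
# Project SAK (S5544), row B7 (core): the products `a_i · s`, from the statements of the rows
A12 (`sg_mul`), B3 (`dih_act`), B4 (`dih_sfix`) (helper12).
-/

set_option autoImplicit false

namespace Cfsg.Agent.Lib.Helper24.SAK

open Cfsg.Axial

variable {V : Type*} [AddCommGroup V] [Module ℝ V]

/-- `sg` is symmetric when the product is commutative -/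
theorem sakb7_sg_comm {mul : V →ₗ[ℝ] V →ₗ[ℝ] V} (hc : IsCommMul mul) (x y : V) :
    sg mul x y = sg mul y x := by
  unfold sg
  rw [hc x y, add_comm x y]

/-- B7 with the statement of A12 and the conclusions of B3, B4 (for the given `Dih`) as hypotheses. -/
theorem sakb7_core {mul : V →ₗ[ℝ] V →ₗ[ℝ] V} {B : LinearMap.BilinForm ℝ V} {μ₀ μ₁ : V ≃ₗ[ℝ] V}
    {am2 am1 a0 a1 a2 a3 s1 s2e s2o : V} {l m n k p q r : ℝ}
    (hA12 : ∀ (μ : V ≃ₗ[ℝ] V) (a : V), IsMajoranaAmbient mul B → IsMajoranaPair mul B μ a →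
      B a a = 1 → ∀ b : V, mul a (sg mul a b) = (7 / 32 : ℝ) • sg mul a b +
        ((3 / 4 : ℝ) * B a b - 25 / 1024) • a + (7 / 2048 : ℝ) • (b + μ b))
    (hB3 : μ₀ a0 = a0 ∧ μ₀ a1 = am1 ∧ μ₀ am1 = a1 ∧ μ₀ a2 = am2 ∧ μ₀ am2 = a2 ∧
      μ₁ a1 = a1 ∧ μ₁ a0 = a2 ∧ μ₁ a2 = a0 ∧ μ₁ am1 = a3 ∧ μ₁ a3 = am1)
    (hB4 : μ₀ s1 = s1 ∧ μ₁ s1 = s1 ∧ μ₀ s2e = s2e ∧ μ₁ s2e = s2e ∧ μ₀ s2o = s2o ∧ μ₁ s2o = s2o)
    (h : Dih mul B μ₀ μ₁ am2 am1 a0 a1 a2 a3 s1 s2e s2o l m n k p q r) :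
    mul am1 s1 = (7 / 32 : ℝ) • s1 + ((3 / 4 : ℝ) * l - 25 / 1024) • am1 + (7 / 2048 : ℝ) • (am2 + a0) ∧
      mul a0 s1 = (7 / 32 : ℝ) • s1 + ((3 / 4 : ℝ) * l - 25 / 1024) • a0 + (7 / 2048 : ℝ) • (am1 + a1) ∧
      mul a1 s1 = (7 / 32 : ℝ) • s1 + ((3 / 4 : ℝ) * l - 25 / 1024) • a1 + (7 / 2048 : ℝ) • (a0 + a2) ∧
      mul a2 s1 = (7 / 32 : ℝ) • s1 + ((3 / 4 : ℝ) * l - 25 / 1024) • a2 + (7 / 2048 : ℝ) • (a1 + a3) ∧
      mul a0 s2e = (7 / 32 : ℝ) • s2e + ((3 / 4 : ℝ) * m - 25 / 1024) • a0 + (7 / 2048 : ℝ) • (am2 + a2) ∧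
      mul a1 s2o = (7 / 32 : ℝ) • s2o + ((3 / 4 : ℝ) * n - 25 / 1024) • a1 + (7 / 2048 : ℝ) • (am1 + a3) := by
  obtain ⟨⟨hV, h0, h1, hn0, hn1⟩, e2, em1, em2, e3, es1, es2e, es2o, el, em, en, _⟩ := h
  obtain ⟨f00, f01, f0m1, f02, f0m2, f11, f10, f12, f1m1, f13⟩ := hB3
  obtain ⟨g0s1, g1s1, _, _, _, _⟩ := hB4
  have hc : IsCommMul mul := hV.1
  have hsym : ∀ u v : V, B u v = B v u := hV.2.1
  -- the two basic products
  have p0 : mul a0 s1 = (7 / 32 : ℝ) • s1 + ((3 / 4 : ℝ) * l - 25 / 1024) • a0 +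
      (7 / 2048 : ℝ) • (am1 + a1) := by
    have := hA12 μ₀ a0 hV h0 hn0 a1
    rw [← es1, ← el, f01, add_comm a1 am1] at this
    exact this
  have p1 : mul a1 s1 = (7 / 32 : ℝ) • s1 + ((3 / 4 : ℝ) * l - 25 / 1024) • a1 +
      (7 / 2048 : ℝ) • (a0 + a2) := by
    have := hA12 μ₁ a1 hV h1 hn1 a0
    rw [← sakb7_sg_comm hc a0 a1, ← es1, hsym a1 a0, ← el, f10] at this
    exact this
  refine ⟨?_, p0, p1, ?_, ?_, ?_⟩
  · -- apply `μ₀` to `p1`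
    have := congrArg μ₀ p1
    rw [h0.1, f01, g0s1] at this
    rw [this]
    simp only [map_add, map_smul, f01, g0s1, f00, f02]
    rw [add_comm a0 am2]
  · -- apply `μ₁` to `p0`
    have := congrArg μ₁ p0
    rw [h1.1, f10, g1s1] at this
    rw [this]
    simp only [map_add, map_smul, f10, g1s1, f1m1, f11]
    rw [add_comm a3 a1]
  · have := hA12 μ₀ a0 hV h0 hn0 a2
    rw [← es2e, ← em, f02, add_comm a2 am2] at this
    exact this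
  · have := hA12 μ₁ a1 hV h1 hn1 am1
    rw [← es2o, ← en, f1m1] at this
    exact this

end Cfsg.Agent.Lib.Helper24.SAK
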