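import Mathlib
import Cfsg.Prelude.Def_AxialAlgebras
import Cfsg.Agent.Lib.Helper24.SAK.Defs

/-!
# Project SAK (S5544), row E5 (core): `B a0 (μ₁ a0) = 1` gives `(μ₀ μ₁)² = 1`, from the statements
of the rows A1 (`mu_invol`), A3 (`pair_unique`), A4 (`pair_conj`), E2 (`eq_of_form`) (helper12).
-/

set_option autoImplicit false

namespace Cfsg.Agent.Lib.Helper24.SAK

open Cfsg.Axial

variable {V : Type*} [AddCommGroup V] [Module ℝ V]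

/-- E5 with the statements of A1, A3, A4, E2 as hypotheses. -/
theorem sake5_core {mul : V →ₗ[ℝ] V →ₗ[ℝ] V} {B : LinearMap.BilinForm ℝ V} {μ₀ μ₁ : V ≃ₗ[ℝ] V}
    {a0 a1 : V}
    (hA1 : ∀ (μ : V ≃ₗ[ℝ] V) (a : V), IsMajoranaPair mul B μ a → ∀ v : V, μ (μ v) = v)
    (hA3 : ∀ (μ μ' : V ≃ₗ[ℝ] V) (a : V), IsMajoranaPair mul B μ a → IsMajoranaPair mul B μ' a →
      μ = μ')
    (hA4 : ∀ (μ g : V ≃ₗ[ℝ] V) (a c : V), IsMajoranaPair mul B g c → IsMajoranaPair mul B μ a →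
      IsMajoranaPair mul B (g * μ * g) (g a))
    (hE2 : IsMajoranaAmbient mul B → ∀ x y : V, B x x = 1 → B y y = 1 → B x y = 1 → x = y)
    (h : Cfg mul B μ₀ μ₁ a0 a1) (hm : B a0 (μ₁ a0) = 1) : (μ₀ * μ₁) ^ 2 = 1 := by
  obtain ⟨hV, h0, h1, hn0, hn1⟩ := h
  have hn2 : B (μ₁ a0) (μ₁ a0) = 1 := by
    rw [h1.2.1]
    exact hn0
  have e : a0 = μ₁ a0 := hE2 hV a0 (μ₁ a0) hn0 hn2 hm
  have hp : IsMajoranaPair mul B (μ₁ * μ₀ * μ₁) (μ₁ a0) := hA4 μ₀ μ₁ a0 a1 h1 h0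
  rw [← e] at hp
  have hu : μ₁ * μ₀ * μ₁ = μ₀ := hA3 _ _ a0 hp h0
  have h00 : μ₀ * μ₀ = 1 := by
    ext v
    rw [LinearEquiv.mul_apply, hA1 μ₀ a0 h0 v]
    rfl
  calc (μ₀ * μ₁) ^ 2 = μ₀ * (μ₁ * μ₀ * μ₁) := by
        rw [pow_two]
        group
    _ = μ₀ * μ₀ := by rw [hu]
    _ = 1 := h00

end Cfsg.Agent.Lib.Helper24.SAK
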