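import Mathlib
import Cfsg.Prelude.Def_AxialAlgebras
import Cfsg.Agent.Lib.Helper24.SAK.Defs
import Cfsg.Agent.Lib.helper2.SAKA1
import Cfsg.Agent.Lib.Helper11.SAKA3
import Cfsg.Agent.Lib.Helper11.SAKA4
import Cfsg.Agent.Lib.Helper24.SAKE2
import Cfsg.Agent.Lib.Helper12.SAKE5core

/-!
# Project SAK (S5544), row E5 (verbatim): `a2 = a0` gives `(μ₀ μ₁)^2 = 1` (helper12).
-/

set_option autoImplicit false

namespace Cfsg.Agent.Lib.Helper24.SAK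

open Cfsg.Axial

variable {V : Type*} [AddCommGroup V] [Module ℝ V]

theorem fin2 {mul : V →ₗ[ℝ] V →ₗ[ℝ] V} {B : LinearMap.BilinForm ℝ V} {μ₀ μ₁ : V ≃ₗ[ℝ] V} {a0 a1 : V}
    (h : Cfg mul B μ₀ μ₁ a0 a1) (hm : B a0 (μ₁ a0) = 1) : (μ₀ * μ₁) ^ 2 = 1 :=
  sake5_core (fun _ _ hp v => mu_invol hp v) (fun _ _ _ hp hp' => pair_unique hp hp')
    (fun _ _ _ _ hg hp => pair_conj hg hp) (fun hV x y hx hy hxy => eq_of_form hV x y hx hy hxy) h hm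

end Cfsg.Agent.Lib.Helper24.SAK
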