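import Cfsg.Agent.Lib.helper7.SAP.Defs

/-!
# Project SAP (designer helper7), row GL3 core (helper12): the action of `ν` on the old Carmichael family
-/

namespace Cfsg.Agent.Lib.helper7.SAP

open Equiv

universe u

section glue
variable {p k l : ℕ} {G : Type u} [Group G]

/-- GL3 core: `glue_nu_act` from the statements of GL1 (`glue_psi_zo`), GL2 (`glue_injOn_old`) and
PERM5 (`nh_conj_zh`). -/
theorem sapgl3_core (H : GlueHyp p k l G)
    (hGL1 : ∀ x : ZMod p, H.ψ (zo H.a H.z x) = zh (Sum.inl x))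
    (hGL2 : Set.InjOn H.ψ (Subgroup.closure (Set.range (zo H.a H.z : ZMod p → G)) : Set G))
    (hPERM5 : ∀ x : ZMod p,
      nh p k l * zh (Sum.inl x) * (nh p k l)⁻¹ = (zh (Sum.inl (nuI p l x) : Ix p k)) ^ (sgn l))
    (x : ZMod p) :
    H.ν * zo H.a H.z x * H.ν⁻¹ = (zo H.a H.z (nuI p l x)) ^ (sgn l) := by
  have hmem : ∀ y : ZMod p, zo H.a H.z y ∈ Subgroup.closure (Set.range (zo H.a H.z : ZMod p → G)) :=
    fun y => Subgroup.subset_closure ⟨y, rfl⟩
  apply hGL2
  · exact Subgroup.mul_mem _ (Subgroup.mul_mem _ H.hν (hmem x)) (Subgroup.inv_mem _ H.hν)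
  · exact Subgroup.zpow_mem _ (hmem _) _
  · rw [map_mul, map_mul, map_inv, map_zpow, H.hψν, hGL1, hGL1, hPERM5]

end glue

end Cfsg.Agent.Lib.helper7.SAP
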