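import Cfsg.Agent.Lib.helper7.SAP.Defs
import Cfsg.Agent.Lib.helper23.SAPGL1
import Cfsg.Agent.Lib.Helper25.SAPGL2
import Cfsg.Agent.Lib.helper8.SAPPERM5
import Cfsg.Agent.Lib.Helper12.SAPGL3core

/-!
# Project SAP (designer helper7), row GL3 (verbatim, helper12): the action of `ν` on the old Carmichael family
-/

namespace Cfsg.Agent.Lib.helper7.SAP

open Equiv

universe u

section glue
variable {p k l : ℕ} {G : Type u} [Group G]

/-- GL3 [S-M] (GL2, `nh_conj_zh`) -/
theorem glue_nu_act [Fact p.Prime] (H : GlueHyp p k l G) (x : ZMod p) :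
    H.ν * zo H.a H.z x * H.ν⁻¹ = (zo H.a H.z (nuI p l x)) ^ (sgn l) :=
  sapgl3_core H (fun x => glue_psi_zo H x) (glue_injOn_old H)
    (fun x => nh_conj_zh p k l H.hlp (by have := H.hkl; omega) x) x

end glue

end Cfsg.Agent.Lib.helper7.SAP
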