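import Cfsg.Agent.Lib.helper7.SAP.Defs

/-!
# Project SAP (designer helper7), row GL9 core (helper12): Carmichael's relations for the extended family
-/

namespace Cfsg.Agent.Lib.helper7.SAP

open Equiv

universe u

section glue
variable {p k l : ℕ} {G : Type u} [Group G]

/-- iterating GL7: `τ ^ t` acts on the extended family through `tauI^[t]` -/
theorem sapgl9_iter (a z τ : G)
    (hGL7 : ∀ y : Ix p k, τ * zx a z τ l y * τ⁻¹ = zx a z τ l (tauI p k l y)) (t : ℕ) (y : Ix p k) :
    τ ^ t * zx a z τ l y * (τ ^ t)⁻¹ = zx a z τ l ((tauI p k l)^[t] y) := by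
  induction t generalizing y with
  | zero => simp
  | succ t ih =>
    rw [Function.iterate_succ_apply, ← ih (tauI p k l y), ← hGL7 y, pow_succ]
    group

/-- GL9 core: `glue_carRel` from the statements of BASE3 (`base_carRel`), GL7 (`glue_tau_zx`) and GL8
(`tauI_injective`, `tauI_cover`). -/
theorem sapgl9_core (a z τ : G)
    (hBASE3 : CarRel (zo a z : ZMod p → G))
    (hGL7 : ∀ y : Ix p k, τ * zx a z τ l y * τ⁻¹ = zx a z τ l (tauI p k l y))
    (hGL8a : Function.Injective (tauI p k l))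
    (hGL8b : ∀ y y' : Ix p k, ∃ t : ℕ, ∃ x x' : ZMod p,
      (tauI p k l)^[t] y = Sum.inl x ∧ (tauI p k l)^[t] y' = Sum.inl x') :
    CarRel (zx a z τ l : Ix p k → G) := by
  refine ⟨fun y => ?_, fun y y' hyy' => ?_⟩
  · rcases y with x | j
    · exact hBASE3.1 x
    · show (τ ^ (j.val + 1) * zo a z ((l : ℕ) : ZMod p) * (τ ^ (j.val + 1))⁻¹) ^ 3 = 1
      rw [conj_pow, hBASE3.1, mul_one, mul_inv_cancel]
  · obtain ⟨t, x, x', hx, hx'⟩ := hGL8b y y'
    have hne : x ≠ x' := by
      intro h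
      apply hyy'
      apply (hGL8a.iterate t)
      rw [hx, hx', h]
    have h1 := sapgl9_iter a z τ hGL7 t y
    have h2 := sapgl9_iter a z τ hGL7 t y'
    rw [hx] at h1
    rw [hx'] at h2
    have h3 : τ ^ t * (zx a z τ l y * zx a z τ l y') ^ 2 * (τ ^ t)⁻¹ = 1 := by
      rw [← conj_pow, ← conj_mul, h1, h2]
      exact hBASE3.2 x x' hne
    have h4 : (zx a z τ l y * zx a z τ l y') ^ 2 = (τ ^ t)⁻¹ * 1 * τ ^ t := by
      rw [← h3]
      group
    rw [h4, mul_one, inv_mul_cancel]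

end glue

end Cfsg.Agent.Lib.helper7.SAP
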