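import Cfsg.Agent.Lib.helper7.SAP.Defs
import Cfsg.Agent.Lib.Helper21.SAPBASE3
import Cfsg.Agent.Lib.Helper13.SAPGL7
import Cfsg.Agent.Lib.Helper13.SAPGL8
import Cfsg.Agent.Lib.Helper12.SAPGL9core

/-!
# Project SAP (designer helper7), row GL9 (verbatim, helper12): Carmichael's relations for the extended family
-/

namespace Cfsg.Agent.Lib.helper7.SAP

open Equiv

universe u

section glue
variable {p k l : ℕ} {G : Type u} [Group G]

/-- GL9 [M] (BASE3, GL7, GL8) -/
theorem glue_carRel [Fact p.Prime] (H : GlueHyp p k l G) :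
    CarRel (zx H.a H.z H.τ l : Ix p k → G) :=
  sapgl9_core H.a H.z H.τ (base_carRel H.toBaseHyp) (fun y => glue_tau_zx H y)
    (tauI_injective H.hkl H.hlp) (fun y y' => tauI_cover H.hkl H.hlp y y')

end glue

end Cfsg.Agent.Lib.helper7.SAP
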