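import Cfsg.Agent.Lib.helper7.SAP.Defs

/-!
# Project SAP (designer helper7), row PERM7A core (helper12): `bh` lies in the old alternating part
-/

namespace Cfsg.Agent.Lib.helper7.SAP

open Equiv

universe u

/-- multiplication by a generator of `(ZMod p)ˣ` is a cycle on `ZMod p` -/
theorem sapperm7a_isCycle (p : ℕ) [Fact p.Prime] (hp : 3 ≤ p) (r : (ZMod p)ˣ)
    (hr : ∀ u : (ZMod p)ˣ, u ∈ Subgroup.zpowers r) :
    (Units.mulLeft r : Perm (ZMod p)).IsCycle := by
  have hpow : ∀ (i : ℤ) (x : ZMod p), ((Units.mulLeft r : Perm (ZMod p)) ^ i) x = ((r ^ i : (ZMod p)ˣ) : ZMod p) * x := by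
    intro i x
    have h : (Units.mulLeft r : Perm (ZMod p)) = MulAction.toPermHom (ZMod p)ˣ (ZMod p) r := by
      ext y
      rfl
    rw [h, ← map_zpow]
    rfl
  have hr1 : r ≠ 1 := by
    intro h1
    have hall : ∀ u : (ZMod p)ˣ, u = 1 := by
      intro u
      obtain ⟨i, hi⟩ := hr u
      rw [← hi]
      show r ^ i = 1
      rw [h1, one_zpow]
    have hcard : Fintype.card (ZMod p)ˣ = p - 1 := ZMod.card_units p
    have hsub : Fintype.card (ZMod p)ˣ ≤ 1 := Fintype.card_le_one_iff.mpr fun a b => by rw [hall a, hall b]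
    omega
  refine ⟨1, ?_, ?_⟩
  · show (r : ZMod p) * 1 ≠ 1
    rw [mul_one]
    intro h
    exact hr1 (Units.ext h)
  · intro y hy
    have hy0 : y ≠ 0 := by
      rintro rfl
      apply hy
      show (r : ZMod p) * 0 = 0
      rw [mul_zero]
    obtain ⟨i, hi⟩ := hr (Units.mk0 y hy0)
    refine ⟨i, ?_⟩
    rw [hpow, mul_one]
    have := congrArg (fun u : (ZMod p)ˣ => (u : ZMod p)) hi
    simpa using this

theorem sapperm7a_support (p : ℕ) [Fact p.Prime] (hp : 3 ≤ p) (r : (ZMod p)ˣ)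
    (hr : ∀ u : (ZMod p)ˣ, u ∈ Subgroup.zpowers r) :
    (Units.mulLeft r : Perm (ZMod p)).support.card = p - 1 := by
  have hr1 : (r : ZMod p) ≠ 1 := by
    intro h1
    have hcyc := sapperm7a_isCycle p hp r hr
    obtain ⟨x, hx, _⟩ := hcyc
    apply hx
    show (r : ZMod p) * x = x
    rw [h1, one_mul]
  have hsupp : (Units.mulLeft r : Perm (ZMod p)).support = Finset.univ.erase 0 := by
    ext x
    rw [Equiv.Perm.mem_support, Finset.mem_erase]
    show (r : ZMod p) * x ≠ x ↔ _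
    constructor
    · intro h
      refine ⟨?_, Finset.mem_univ _⟩
      rintro rfl
      exact h (mul_zero _)
    · rintro ⟨hx0, _⟩ h
      have h2 : ((r : ZMod p) - 1) * x = 0 := by rw [sub_mul, one_mul, h, sub_self]
      rcases mul_eq_zero.mp h2 with h3 | h3
      · exact hr1 (sub_eq_zero.mp h3)
      · exact hx0 h3
  rw [hsupp, Finset.card_erase_of_mem (Finset.mem_univ _), Finset.card_univ, ZMod.card]

/-- the sign of multiplication by a generator of `(ZMod p)ˣ` (`p` odd) is `-1` -/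
theorem sapperm7a_sign (p : ℕ) [Fact p.Prime] (hp : 3 ≤ p) (r : (ZMod p)ˣ)
    (hr : ∀ u : (ZMod p)ˣ, u ∈ Subgroup.zpowers r) :
    Perm.sign (Units.mulLeft r : Perm (ZMod p)) = -1 := by
  rw [(sapperm7a_isCycle p hp r hr).sign, sapperm7a_support p hp r hr]
  have hodd : Odd p := (Fact.out : p.Prime).odd_of_ne_two (by omega)
  have heven : Even (p - 1) := by
    obtain ⟨m, hm⟩ := hodd
    exact ⟨m, by omega⟩
  rw [heven.neg_one_pow]

/-- PERM7A core: `bh_mem` from the statement of PERM3B `mem_closure_zh_old`. -/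
theorem sapperm7a_core (p k : ℕ) [Fact p.Prime] (hp : 3 ≤ p) (r : (ZMod p)ˣ)
    (hr : ∀ u : (ZMod p)ˣ, u ∈ Subgroup.zpowers r)
    (hPERM3B : ∀ (σ : Perm (ZMod p ⊕ Fin 2)), Perm.sign σ = 1 →
      (Equiv.sumCongr σ (Equiv.refl (Fin k)) : Perm (Pt p k)) ∈
        Subgroup.closure (Set.range fun x : ZMod p => zh (Sum.inl x : Ix p k))) :
    bh k r ∈ Subgroup.closure (Set.range fun x : ZMod p => zh (Sum.inl x : Ix p k)) := by
  unfold bh
  apply hPERM3B
  rw [Equiv.Perm.sign_sumCongr, sapperm7a_sign p hp r hr, Equiv.Perm.sign_swap (by decide)]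
  norm_num

end Cfsg.Agent.Lib.helper7.SAP
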