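import Cfsg.Agent.Lib.helper7.SAP.Defs
import Cfsg.Agent.Lib.Helper13.SAPPERM3
import Cfsg.Agent.Lib.Helper12.SAPPERM7Acore

/-!
# Project SAP (designer helper7), row PERM7A (verbatim, helper12): `bh` lies in the old alternating part
-/

namespace Cfsg.Agent.Lib.helper7.SAP

open Equiv

universe u

section perm
variable (p k l : ℕ)

/-- PERM7 [M]: memberships (signs). -/
theorem bh_mem [Fact p.Prime] (hp : 3 ≤ p) (r : (ZMod p)ˣ) (hr : ∀ u : (ZMod p)ˣ, u ∈ Subgroup.zpowers r) :
    bh k r ∈ Subgroup.closure (Set.range fun x : ZMod p => zh (Sum.inl x : Ix p k)) :=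
  sapperm7a_core p k hp r hr (fun σ hσ => mem_closure_zh_old p k σ hσ)

end perm

end Cfsg.Agent.Lib.helper7.SAP
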