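import Mathlib
import Cfsg.Agent.Lib.helper7.SAP.Defs
import Cfsg.Agent.Lib.Helper11.SAPSM4
import Cfsg.Agent.Lib.Helper10.SAPSIX1
import Cfsg.Agent.Lib.Helper26.SAPALT3
import Cfsg.Agent.Lib.Helper29.SAPBASE1

/-!
# Project SAP (designer helper7), row SIX3 spare (helper12): `S_6` on 2 generators and 5 relators

`S_6 = ⟨a, z | a^4, z^3, (z · a z a⁻¹)^2, (z · a² z a⁻²)^2, a⁻² W⟩`, `a ↦ (0 1 2 3)`, `z ↦ (0 4 5)`,
`W = x₀ x₁ x₂ x₀⁻¹ x₃⁻¹ x₁` with `x_i = a^i z a^-i` (a word for `(0 2)(1 3)`).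
-/

set_option autoImplicit false

namespace Cfsg.Agent.Lib.helper7.SAP

open Equiv

universe u

/-- the word `x₀ x₁ x₂ x₀⁻¹ x₃⁻¹ x₁` in the seed family `x_i = a^i z a^-i`, `i : ZMod 4` -/
def sapsix3_h12_W {G : Type*} [Group G] (a z : G) : G :=
  zo (p := 4) a z 0 * zo (p := 4) a z 1 * zo (p := 4) a z 2 * (zo (p := 4) a z 0)⁻¹ *
    (zo (p := 4) a z 3)⁻¹ * zo (p := 4) a z 1

theorem sapsix3_h12_map_zo {G H : Type*} [Group G] [Group H] (f : G →* H) (a z : G) (i : ZMod 4) :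
    f (zo a z i) = zo (f a) (f z) i := by
  unfold zo
  rw [map_mul, map_mul, map_inv, map_pow]

theorem sapsix3_h12_map_W {G H : Type*} [Group G] [Group H] (f : G →* H) (a z : G) :
    f (sapsix3_h12_W a z) = sapsix3_h12_W (f a) (f z) := by
  unfold sapsix3_h12_W
  simp only [map_mul, map_inv, sapsix3_h12_map_zo]

/-- the five relators -/
def sapsix3_h12_L : List (FreeGroup (Fin 2)) :=
  [wA ^ 4, wG ^ 3, (wG * (wA * wG * wA⁻¹)) ^ 2, (wG * (wA ^ 2 * wG * (wA ^ 2)⁻¹)) ^ 2,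
    (wA ^ 2)⁻¹ * sapsix3_h12_W wA wG]

theorem sapsix3_h12_eval {G : Type*} [Group G] (u v : G) :
    (∀ r ∈ sapsix3_h12_L, FreeGroup.lift ![u, v] r = 1) ↔
      u ^ 4 = 1 ∧ v ^ 3 = 1 ∧ (v * (u * v * u⁻¹)) ^ 2 = 1 ∧ (v * (u ^ 2 * v * (u ^ 2)⁻¹)) ^ 2 = 1 ∧
        (u ^ 2)⁻¹ * sapsix3_h12_W u v = 1 := by
  simp [sapsix3_h12_L, sapsix3_h12_map_W]

/-- `(0 1 2 3)` -/
def sapsix3_h12_a6 : Perm (Fin 6) := swap 0 1 * swap 1 2 * swap 2 3

/-- `(0 4 5)` -/
def sapsix3_h12_z6 : Perm (Fin 6) := c3 0 4 5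

set_option maxRecDepth 100000 in
theorem sapsix3_h12_rel6 :
    ∀ r ∈ sapsix3_h12_L, FreeGroup.lift ![sapsix3_h12_a6, sapsix3_h12_z6] r = 1 := by
  rw [sapsix3_h12_eval]
  refine ⟨by decide, by decide, by decide, by decide, by decide⟩

theorem sapsix3_h12_gen6 :
    Subgroup.closure ({sapsix3_h12_a6, sapsix3_h12_z6} : Set (Perm (Fin 6))) = ⊤ := by
  set K := Subgroup.closure ({sapsix3_h12_a6, sapsix3_h12_z6} : Set (Perm (Fin 6))) with hK
  have ha : sapsix3_h12_a6 ∈ K := Subgroup.subset_closure (by simp)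
  have hz : sapsix3_h12_z6 ∈ K := Subgroup.subset_closure (by simp)
  have hconj : ∀ n : ℕ, sapsix3_h12_a6 ^ n * sapsix3_h12_z6 * (sapsix3_h12_a6 ^ n)⁻¹ ∈ K := fun n =>
    K.mul_mem (K.mul_mem (K.pow_mem ha n) hz) (K.inv_mem (K.pow_mem ha n))
  have halt : alternatingGroup (Fin 6) ≤ K := by
    rw [← altgen (4 : Fin 6) 5 (by decide), Subgroup.closure_le]
    rintro _ ⟨⟨y, hy4, hy5⟩, rfl⟩
    show c3 y 4 5 ∈ K
    fin_cases y
    · have h : c3 (0 : Fin 6) 4 5 = sapsix3_h12_a6 ^ 0 * sapsix3_h12_z6 * (sapsix3_h12_a6 ^ 0)⁻¹ := by decide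
      simp only [Fin.zero_eta]
      rw [h]; exact hconj 0
    · have h : c3 (1 : Fin 6) 4 5 = sapsix3_h12_a6 ^ 1 * sapsix3_h12_z6 * (sapsix3_h12_a6 ^ 1)⁻¹ := by decide
      simp only [Fin.mk_one]
      rw [h]; exact hconj 1
    · have h : c3 (2 : Fin 6) 4 5 = sapsix3_h12_a6 ^ 2 * sapsix3_h12_z6 * (sapsix3_h12_a6 ^ 2)⁻¹ := by decide
      show c3 (2 : Fin 6) 4 5 ∈ K
      rw [h]; exact hconj 2
    · have h : c3 (3 : Fin 6) 4 5 = sapsix3_h12_a6 ^ 3 * sapsix3_h12_z6 * (sapsix3_h12_a6 ^ 3)⁻¹ := by decide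
      show c3 (3 : Fin 6) 4 5 ∈ K
      rw [h]; exact hconj 3
    · exact absurd rfl hy4
    · exact absurd rfl hy5
  have hsa : Perm.sign sapsix3_h12_a6 = -1 := by
    unfold sapsix3_h12_a6
    rw [Perm.sign_mul, Perm.sign_mul, Perm.sign_swap (by decide), Perm.sign_swap (by decide),
      Perm.sign_swap (by decide)]
    decide
  rw [eq_top_iff]
  intro g _
  rcases Int.units_eq_one_or (Perm.sign g) with hg | hg
  · exact halt (Perm.mem_alternatingGroup.2 hg)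
  · have h1 : sapsix3_h12_a6⁻¹ * g ∈ K := by
      apply halt
      rw [Perm.mem_alternatingGroup, Perm.sign_mul, Perm.sign_inv, hsa, hg]
      decide
    have h2 : g = sapsix3_h12_a6 * (sapsix3_h12_a6⁻¹ * g) := by group
    rw [h2]
    exact K.mul_mem ha h1

/-- the abstract order bound -/
theorem sapsix3_h12_bound (G : Type) [Group G] (u v : G)
    (hgen : Subgroup.closure ({u, v} : Set G) = ⊤)
    (hrel : ∀ r ∈ sapsix3_h12_L, FreeGroup.lift ![u, v] r = 1) :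
    Finite G ∧ Nat.card G ≤ 720 := by
  rw [sapsix3_h12_eval] at hrel
  obtain ⟨h4, h3, h01, h02, hW⟩ := hrel
  set x : ZMod 4 → G := zo (p := 4) u v with hx
  have e0 : x 0 = v := by
    show u ^ (0 : ZMod 4).val * v * (u ^ (0 : ZMod 4).val)⁻¹ = v
    rw [show (0 : ZMod 4).val = 0 from rfl, pow_zero, one_mul, inv_one, mul_one]
  have e1 : x 1 = u * v * u⁻¹ := by
    show u ^ (1 : ZMod 4).val * v * (u ^ (1 : ZMod 4).val)⁻¹ = _
    rw [show (1 : ZMod 4).val = 1 from rfl, pow_one]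
  have e2 : x 2 = u ^ 2 * v * (u ^ 2)⁻¹ := by
    show u ^ (2 : ZMod 4).val * v * (u ^ (2 : ZMod 4).val)⁻¹ = _
    rw [show (2 : ZMod 4).val = 2 from rfl]
  have hcar : CarRel x := by
    refine cyc4_carRel u x 1 (Or.inl rfl) (fun i => ?_) (fun i => ?_) ?_ ?_
    · rw [zpow_one]
      exact zo_conj_a u v h4 i
    · show (u ^ i.val * v * (u ^ i.val)⁻¹) ^ 3 = 1
      rw [conj_pow, h3, mul_one, mul_inv_cancel]
    · rw [e0, e1]; exact h01
    · rw [e0, e2]; exact h02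
  obtain ⟨hNfin, hNcard⟩ := car_card_le x hcar
  set N := Subgroup.closure (Set.range x) with hN
  have hxN : ∀ i, x i ∈ N := fun i => Subgroup.subset_closure ⟨i, rfl⟩
  have hnorm : ∀ n ∈ N, u * n * u⁻¹ ∈ N := by
    intro n hn
    induction hn using Subgroup.closure_induction with
    | mem y hy =>
      obtain ⟨i, rfl⟩ := hy
      show u * zo u v i * u⁻¹ ∈ N
      rw [zo_conj_a u v h4 i]
      exact hxN _
    | one => rw [mul_one, mul_inv_cancel]; exact N.one_mem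
    | mul a b _ _ ha hb =>
      have h : u * (a * b) * u⁻¹ = (u * a * u⁻¹) * (u * b * u⁻¹) := by group
      rw [h]; exact N.mul_mem ha hb
    | inv a _ ha =>
      have h : u * a⁻¹ * u⁻¹ = (u * a * u⁻¹)⁻¹ := by group
      rw [h]; exact N.inv_mem ha
  have hu2 : u ^ 2 ∈ N := by
    have h : u ^ 2 = sapsix3_h12_W u v := by
      rw [← mul_one (u ^ 2), ← hW, mul_inv_cancel_left]
    rw [h]
    unfold sapsix3_h12_W
    exact N.mul_mem (N.mul_mem (N.mul_mem (N.mul_mem (N.mul_mem (hxN 0) (hxN 1)) (hxN 2))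
      (N.inv_mem (hxN 0))) (N.inv_mem (hxN 3))) (hxN 1)
  have hsup : N ⊔ Subgroup.zpowers u = ⊤ := by
    rw [eq_top_iff, ← hgen, Subgroup.closure_le]
    intro y hy
    simp only [Set.mem_insert_iff, Set.mem_singleton_iff] at hy
    rcases hy with rfl | rfl
    · exact (le_sup_right : Subgroup.zpowers y ≤ N ⊔ Subgroup.zpowers y) (Subgroup.mem_zpowers y)
    · exact (le_sup_left : N ≤ N ⊔ Subgroup.zpowers u) (e0 ▸ hxN 0)
  obtain ⟨hfin, hle⟩ := sapsm4_index_two N u hnorm hu2 hsup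
  refine ⟨hfin, hle.trans ?_⟩
  have h720 : (Nat.card (ZMod 4) + 2).factorial = 720 := by
    rw [Nat.card_zmod]
    decide
  rw [h720] at hNcard
  exact hNcard

/-- SIX3 (spare, exact Skel statement of `pres_S6`). -/
theorem sapsix3_h12_pres_S6 : ∃ rels : Finset (FreeGroup (Fin 2)), rels.card ≤ 7 ∧
    Nonempty (PresentedGroup (↑rels : Set (FreeGroup (Fin 2))) ≃* Perm (Fin 6)) := by
  classical
  refine ⟨sapsix3_h12_L.toFinset, ?_, ?_⟩
  · exact (List.toFinset_card_le _).trans (by decide)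
  · refine sapsm4_pres2 sapsix3_h12_L sapsix3_h12_a6 sapsix3_h12_z6 sapsix3_h12_gen6 sapsix3_h12_rel6 ?_
    intro G _ u v hgen hrel
    obtain ⟨hfin, hle⟩ := sapsix3_h12_bound G u v hgen hrel
    refine ⟨hfin, hle.trans ?_⟩
    rw [Nat.card_eq_fintype_card, Fintype.card_perm, Fintype.card_fin]
    decide

end Cfsg.Agent.Lib.helper7.SAP
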