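import Mathlib
import Cfsg.Prelude.Def_Sporadic_a
import Cfsg.Agent.Lib.helper4.ElemClassB
import Cfsg.Agent.Lib.helper4.M24GenB
import Cfsg.Agent.Lib.Helper12.SBInvData

/-!
# The involutions of `M24` with a fixed point: a certified list

`inv2A` (in `SBInvData`) is a search tree holding the packed function tables of 11385 permutations.
Here: every entry is an involution of `M24` with a fixed point, the entries are distinct, and
every involution of `M24` with a fixed point occurs (the set of entries contains `rep2A`, is closed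
under conjugation by the three generators of `M24`, and these involutions form one class by
helper4's `class2A`).  Consequence: a counting formula `card_inv`.
-/

set_option autoImplicit false

namespace Cfsg.Agent.Lib.Helper12.SBInv

open Cfsg Cfsg.Agent.Lib.helper4 Cfsg.Agent.Lib.Helper12.Golay
open CT

/-! ### trees -/

/-- in-order list of entries -/
def toList : CT → List ℕ
  | L => []
  | N l c r => toList l ++ c :: toList r

/-- search -/
def memb : CT → ℕ → Bool
  | L, _ => false
  | N l v r, c => cond (Nat.beq c v) true (cond (Nat.blt c v) (memb l c) (memb r c))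

theorem memb_sound : ∀ (t : CT) (c : ℕ), memb t c = true → c ∈ toList t
  | L, c, h => by simp [memb] at h
  | N l v r, c, h => by
    unfold memb at h
    unfold toList
    rw [List.mem_append, List.mem_cons]
    by_cases h1 : Nat.beq c v = true
    · exact Or.inr (Or.inl (Nat.eq_of_beq_eq_true h1))
    · rw [Bool.not_eq_true] at h1
      rw [h1] at h
      by_cases h2 : Nat.blt c v = true
      · rw [h2] at h
        exact Or.inl (memb_sound l c h)
      · rw [Bool.not_eq_true] at h2
        rw [h2] at h
        exact Or.inr (Or.inr (memb_sound r c h))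

/-- all entries satisfy `p` -/
def allT (p : ℕ → Bool) : CT → Bool
  | L => true
  | N l c r => p c && allT p l && allT p r

theorem allT_spec (p : ℕ → Bool) : ∀ t : CT, allT p t = true → ∀ c ∈ toList t, p c = true
  | L, _, c, hc => by simp [toList] at hc
  | N l v r, h, c, hc => by
    unfold allT at h
    rw [Bool.and_eq_true, Bool.and_eq_true] at h
    unfold toList at hc
    rw [List.mem_append, List.mem_cons] at hc
    rcases hc with hc | rfl | hc
    · exact allT_spec p l h.1.2 c hc
    · exact h.1.1
    · exact allT_spec p r h.2 c hc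

/-- number of entries satisfying `p` -/
def cntT (p : ℕ → Bool) : CT → ℕ
  | L => 0
  | N l c r => Nat.add (Nat.add (cntT p l) (cond (p c) 1 0)) (cntT p r)

theorem cntT_eq (p : ℕ → Bool) : ∀ t : CT, cntT p t = ((toList t).filter p).length
  | L => rfl
  | N l c r => by
    unfold cntT toList
    rw [List.filter_append, List.length_append, List.filter_cons, cntT_eq p l, cntT_eq p r]
    cases p c
    · simp
    · simp only [cond_true, if_true, List.length_cons, Nat.add_eq]
      omega

/-- strict search-tree order between the bounds -/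
def bst : CT → ℕ → ℕ → Bool
  | L, _, _ => true
  | N l c r, lo, hi => Nat.blt lo c && Nat.blt c hi && bst l lo c && bst r c hi

theorem bst_spec : ∀ (t : CT) (lo hi : ℕ), bst t lo hi = true →
    (toList t).Pairwise (· < ·) ∧ ∀ x ∈ toList t, lo < x ∧ x < hi
  | L, _, _, _ => by simp [toList]
  | N l c r, lo, hi, h => by
    unfold bst at h
    simp only [Bool.and_eq_true, Nat.blt_eq] at h
    obtain ⟨⟨⟨h1, h2⟩, h3⟩, h4⟩ := h
    obtain ⟨pl, bl⟩ := bst_spec l lo c h3
    obtain ⟨pr, br⟩ := bst_spec r c hi h4
    unfold toList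
    constructor
    · rw [List.pairwise_append]
      refine ⟨pl, List.pairwise_cons.mpr ⟨fun x hx => (br x hx).1, pr⟩, ?_⟩
      intro a ha b hb
      rcases List.mem_cons.mp hb with rfl | hb
      · exact (bl a ha).2
      · exact lt_trans (bl a ha).2 (br b hb).1
    · intro x hx
      rcases List.mem_append.mp hx with hx | hx
      · exact ⟨(bl x hx).1, lt_trans (bl x hx).2 h2⟩
      · rcases List.mem_cons.mp hx with rfl | hx
        · exact ⟨h1, h2⟩
        · exact ⟨lt_trans h1 (br x hx).1, (br x hx).2⟩

/-! ### packed tables -/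

/-- entry `i` of a packed table -/
def fld5 (c i : ℕ) : ℕ := Nat.land (Nat.shiftRight c (Nat.mul 5 i)) 31

/-- the function table of a code -/
def unpack (c : ℕ) : List ℕ := (List.range 24).map (fld5 c)

/-- the code of a table -/
def pack : List ℕ → ℕ
  | [] => 0
  | a :: l => Nat.add a (Nat.mul 32 (pack l))

/-- the codes, in increasing order -/
def codes : List ℕ := toList inv2A

/-- the tables -/
def L2A : List (List ℕ) := codes.map unpack

theorem unpack_length (c : ℕ) : (unpack c).length = 24 := by simp [unpack]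

theorem unpack_getD (c : ℕ) {i : ℕ} (hi : i < 24) : (unpack c).getD i 0 = fld5 c i := by
  unfold unpack
  rw [List.getD_eq_getElem _ _ (by simpa using hi)]
  simp

theorem map_range_congr {f g : ℕ → ℕ} (h : ∀ i < 24, f i = g i) :
    (List.range 24).map f = (List.range 24).map g :=
  List.map_congr_left fun i hi => h i (List.mem_range.mp hi)

theorem filter_range_congr {f g : ℕ → Bool} (h : ∀ i < 24, f i = g i) :
    (List.range 24).filter f = (List.range 24).filter g :=
  List.filter_congr fun i hi => h i (List.mem_range.mp hi)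

/-- evaluate a number before passing it on (identity function, forces evaluation order in the
kernel) -/
def forceNat {α : Type} : ℕ → (ℕ → α) → α
  | 0, k => k 0
  | t + 1, k => k (t + 1)

theorem forceNat_eq {α : Type} (n : ℕ) (k : ℕ → α) : forceNat n k = k n := by
  cases n <;> rfl

/-! ### the element check -/

/-- a code is the code of an involution of the group with eight fixed points -/
def chkElem (c : ℕ) : Bool :=
  (List.range 24).all (fun i => Nat.blt (fld5 c i) 24) &&
  (List.range 24).all (fun i => Nat.beq (fld5 c (fld5 c i)) i) &&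
  Nat.beq ((List.range 24).filter fun i => Nat.beq (fld5 c i) i).length 8 &&
  Nat.beq (pack (unpack c)) c &&
  forceList (unpack c) fun T => allL rows fun r => isCodeF (actK T r)

/-- what the element check certifies -/
structure Good (c : ℕ) : Prop where
  lt : ∀ i < 24, fld5 c i < 24
  inv : ∀ i < 24, fld5 c (fld5 c i) = i
  fix8 : ((List.range 24).filter fun i => Nat.beq (fld5 c i) i).length = 8
  pk : pack (unpack c) = c
  rws : allL rows (fun r => isCodeF (actK (unpack c) r)) = true

theorem good_of_chk {c : ℕ} (h : chkElem c = true) : Good c := by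
  unfold chkElem at h
  rw [forceList_eq] at h
  simp only [Bool.and_eq_true, List.all_eq_true, List.mem_range, Nat.blt_eq, natBeq_iff] at h
  obtain ⟨⟨⟨⟨h1, h2⟩, h3⟩, h4⟩, h5⟩ := h
  exact ⟨h1, h2, h3, h4, h5⟩

namespace Good

variable {c : ℕ} (hc : Good c)
include hc

theorem valid : ValidT (unpack c) := by
  refine ⟨unpack_length c, ?_, ?_⟩
  · intro v hv
    unfold unpack at hv
    rw [List.mem_map] at hv
    obtain ⟨i, hi, rfl⟩ := hv
    exact hc.lt i (List.mem_range.mp hi)
  · unfold unpack
    refine List.Nodup.map_on ?_ List.nodup_range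
    intro i hi j hj e
    rw [List.mem_range] at hi hj
    rw [← hc.inv i hi, ← hc.inv j hj, e]

theorem okK_true : okK (unpack c) = true := by
  unfold okK
  rw [Bool.and_eq_true]
  exact ⟨decide_eq_true hc.valid, hc.rws⟩

theorem sq : compTbl (unpack c) (unpack c) = List.range 24 := by
  unfold compTbl
  have : ∀ i < 24, (unpack c).getD ((unpack c).getD i 0) 0 = id i := by
    intro i hi
    rw [unpack_getD c hi, unpack_getD c (hc.lt i hi), hc.inv i hi, id]
  rw [map_range_congr this, List.map_id]

theorem fixCount_eq : fixCount (unpack c) = 8 := by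
  have h : (List.range 24).filter (fun i => Nat.beq ((unpack c).getD i 0) i) =
      (List.range 24).filter (fun i => Nat.beq (fld5 c i) i) :=
    filter_range_congr fun i hi => by rw [unpack_getD c hi]
  unfold fixCount
  rw [h]
  exact hc.fix8

theorem ne_range : unpack c ≠ List.range 24 := by
  intro h
  have h1 := hc.fixCount_eq
  rw [h] at h1
  revert h1
  decide

theorem mem_M24 : fperm (unpack c) ∈ M24 := fperm_mem hc.okK_true

theorem tblOf_eq : tblOf (fperm (unpack c)) = unpack c := tblOf_fperm hc.valid

theorem mul_self : fperm (unpack c) * fperm (unpack c) = 1 := by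
  apply tblOf_injective
  rw [tblOf_mul, hc.tblOf_eq, hc.sq, tblOf_one]

theorem ne_one : fperm (unpack c) ≠ 1 := by
  intro h
  have := hc.tblOf_eq
  rw [h, tblOf_one] at this
  exact hc.ne_range this.symm

theorem exists_fixed : ∃ p, fperm (unpack c) p = p := by
  rw [← fixCount_pos_iff, hc.tblOf_eq, hc.fixCount_eq]
  norm_num

end Good

/-! ### closure under conjugation -/

/-- codes of the generators and their inverses, and of helper4's representative -/
def cA : ℕ := 956302485175575353788796878166559809
def cAi : ℕ := 983478296959358443554250846857397270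
def cB : ℕ := 1795248432537898728475572672376535
def cC : ℕ := 974380510768821363662145534143076928
def cCi : ℕ := 980275914351787324191492553553580224
def cRep : ℕ := 984475305396832770772846284196105376

def gAinv : List ℕ :=
  [22, 0, 1, 2, 3, 4, 5, 6, 7, 8, 9, 10, 11, 12, 13, 14, 15, 16, 17, 18, 19, 20, 21, 23]

def gCinv : List ℕ :=
  [0, 6, 4, 3, 18, 7, 2, 10, 12, 13, 20, 17, 9, 16, 22, 15, 8, 14, 1, 11, 21, 5, 19, 23]

/-- the conjugate of the table with code `c` by the table with code `cs` (inverse `csi`) is
listed -/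
def conjChk (cs csi c : ℕ) : Bool :=
  forceNat (pack ((List.range 24).map fun i => fld5 cs (fld5 c (fld5 csi i)))) fun d =>
    memb inv2A d && (List.range 24).all fun i => Nat.beq (fld5 d i) (fld5 cs (fld5 c (fld5 csi i)))

theorem conjChk_spec {cs csi c : ℕ} (h : conjChk cs csi c = true) :
    ∃ d ∈ codes, unpack d = (List.range 24).map fun i => fld5 cs (fld5 c (fld5 csi i)) := by
  unfold conjChk at h
  rw [forceNat_eq, Bool.and_eq_true, List.all_eq_true] at h
  refine ⟨_, memb_sound _ _ h.1, ?_⟩
  unfold unpack
  apply map_range_congr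
  intro i hi
  exact natBeq_iff.mp (h.2 i (List.mem_range.mpr hi))

/-- membership of a permutation in the list -/
def InS (x : Equiv.Perm GolayPt) : Prop := tblOf x ∈ L2A

theorem conj_gen {s sinv : List ℕ} {cs csi : ℕ} (hs : unpack cs = s) (hsi : unpack csi = sinv)
    (hvs : ValidT s) (hvi : ValidT sinv) (hinv : compTbl s sinv = List.range 24)
    (hgood : ∀ c ∈ codes, Good c)
    (hchk : allT (conjChk cs csi) inv2A = true) (y : Equiv.Perm GolayPt) (hy : InS y) :
    InS (fperm s * y * (fperm s)⁻¹) := by
  have hinv' : (fperm s)⁻¹ = fperm sinv := by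
    apply inv_eq_of_mul_eq_one_right
    apply tblOf_injective
    rw [tblOf_mul, tblOf_fperm hvs, tblOf_fperm hvi, hinv, tblOf_one]
  unfold InS L2A at hy ⊢
  rw [List.mem_map] at hy ⊢
  obtain ⟨c, hc, hcy⟩ := hy
  obtain ⟨d, hd, hdu⟩ := conjChk_spec (allT_spec _ _ hchk c hc)
  refine ⟨d, hd, ?_⟩
  rw [hdu, hinv', tblOf_mul, tblOf_mul, tblOf_fperm hvs, tblOf_fperm hvi, ← hcy]
  have hg := hgood c hc
  show _ = (List.range 24).map fun i => (compTbl s (unpack c)).getD (sinv.getD i 0) 0
  apply map_range_congr
  intro i hi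
  have h1 : sinv.getD i 0 = fld5 csi i := by rw [← hsi, unpack_getD _ hi]
  have h2 : fld5 csi i < 24 := by rw [← h1]; exact getD_lt_of_valid hvi.2.1 i
  rw [h1, compTbl_getD _ _ h2, unpack_getD _ h2, ← hs, unpack_getD _ (hg.lt _ h2)]

/-- closure property of a group element -/
def ConjP (w : Equiv.Perm GolayPt) : Prop := ∀ y, InS y → InS (w * y * w⁻¹)

theorem conjP_one : ConjP 1 := fun y hy => by simpa using hy

theorem conjP_mul {v w : Equiv.Perm GolayPt} (hv : ConjP v) (hw : ConjP w) : ConjP (v * w) := by
  intro y hy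
  have := hv _ (hw y hy)
  have e : v * w * y * (v * w)⁻¹ = v * (w * y * w⁻¹) * v⁻¹ := by group
  rw [e]
  exact this

theorem conjP_pow {w : Equiv.Perm GolayPt} (hw : ConjP w) : ∀ n : ℕ, ConjP (w ^ n)
  | 0 => by rw [pow_zero]; exact conjP_one
  | n + 1 => by rw [pow_succ]; exact conjP_mul (conjP_pow hw n) hw

theorem conjP_inv {w : Equiv.Perm GolayPt} (hw : ConjP w) : ConjP w⁻¹ := by
  have hpos : 0 < orderOf w := orderOf_pos w
  have e : w⁻¹ = w ^ (orderOf w - 1) := by
    apply inv_eq_of_mul_eq_one_left
    rw [← pow_succ, Nat.sub_add_cancel hpos, pow_orderOf_eq_one]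
  rw [e]
  exact conjP_pow hw _

theorem tblOf_shift : tblOf (Equiv.optionCongr (Equiv.addRight (1 : ZMod 23))) = g374A := by decide

theorem tblOf_projInv : tblOf Cfsg.projInv = g374B := by decide

theorem tblOf_cubeTwist : tblOf Cfsg.cubeTwist = g374C := by
  show (List.range 24).map (fun i => idx (Cfsg.cubeTwistFun (pt i))) = g374C
  decide

theorem valid_gens : ValidT g374A ∧ ValidT g374B ∧ ValidT g374C ∧ ValidT gAinv ∧ ValidT gCinv := by
  decide

/-- every element of the group has the closure property, given the three generator checks -/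
theorem conjP_all (hgood : ∀ c ∈ codes, Good c)
    (hpk : unpack cA = g374A ∧ unpack cAi = gAinv ∧ unpack cB = g374B ∧ unpack cC = g374C ∧
      unpack cCi = gCinv)
    (hinv : compTbl g374A gAinv = List.range 24 ∧ compTbl g374B g374B = List.range 24 ∧
      compTbl g374C gCinv = List.range 24)
    (hA : allT (conjChk cA cAi) inv2A = true) (hB : allT (conjChk cB cB) inv2A = true)
    (hC : allT (conjChk cC cCi) inv2A = true) : ∀ w ∈ M24, ConjP w := by
  obtain ⟨vA, vB, vC, vAi, vCi⟩ := valid_gens
  obtain ⟨pA, pAi, pB, pC, pCi⟩ := hpk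
  intro w hw
  rw [← closure_eq_M24] at hw
  induction hw using Subgroup.closure_induction with
  | mem x hx =>
    rcases hx with rfl | rfl | rfl
    · rw [eq_fperm_of_tblOf vA tblOf_shift]
      exact conj_gen pA pAi vA vAi hinv.1 hgood hA
    · rw [eq_fperm_of_tblOf vB tblOf_projInv]
      exact conj_gen pB pB vB vB hinv.2.1 hgood hB
    · rw [eq_fperm_of_tblOf vC tblOf_cubeTwist]
      exact conj_gen pC pCi vC vCi hinv.2.2 hgood hC
  | one => exact conjP_one
  | mul x y _ _ hx hy => exact conjP_mul hx hy
  | inv x _ hx => exact conjP_inv hx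

/-- completeness of the list -/
theorem mem_L2A_of (hall : ∀ w ∈ M24, ConjP w)
    (hrep : (memb inv2A cRep && (unpack cRep == rep2A)) = true)
    {x : Equiv.Perm GolayPt} (hx : x ∈ M24) (h2 : x * x = 1) (h1 : x ≠ 1) (hf : ∃ p, x p = p) :
    tblOf x ∈ L2A := by
  obtain ⟨-, w, hw, e⟩ := class2A hx (by rw [pow_two]; exact h2) h1 hf
  have hrepS : InS (fperm rep2A) := by
    unfold InS L2A
    rw [Bool.and_eq_true, beq_iff_eq] at hrep
    rw [tblOf_fperm (okK_valid class_oks.2.2.2.2.2.2.2.2.2.2.1), List.mem_map]
    exact ⟨cRep, memb_sound _ _ hrep.1, hrep.2⟩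
  have := hall w⁻¹ (M24.inv_mem hw) _ hrepS
  rw [← e] at this
  have e2 : w⁻¹ * (w * x * w⁻¹) * w⁻¹⁻¹ = x := by group
  rw [e2] at this
  exact this

/-! ### the counting formula -/

theorem codes_nodup (hbst : bst inv2A 0 (2 ^ 120) = true) : codes.Nodup :=
  ((bst_spec _ _ _ hbst).1).imp fun h => ne_of_lt h

theorem cntT_congr {p q : ℕ → Bool} (t : CT) (h : ∀ c ∈ toList t, p c = q c) :
    cntT p t = cntT q t := by
  rw [cntT_eq, cntT_eq, List.filter_congr h]

/-- the number of involutions of the group with a fixed point whose table passes a test -/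
theorem card_inv (hgood : ∀ c ∈ codes, Good c) (hnd : codes.Nodup)
    (hcompl : ∀ x : Equiv.Perm GolayPt, x ∈ M24 → x * x = 1 → x ≠ 1 → (∃ p, x p = p) →
      tblOf x ∈ L2A) (q : List ℕ → Bool) :
    Nat.card {x : Equiv.Perm GolayPt // x ∈ M24 ∧ x * x = 1 ∧ x ≠ 1 ∧ (∃ p, x p = p) ∧
      q (tblOf x) = true} = cntT (fun c => q (unpack c)) inv2A := by
  classical
  rw [cntT_eq]
  set S : Finset ℕ := (codes.filter fun c => q (unpack c)).toFinset with hS
  have hSmem : ∀ c, c ∈ S ↔ c ∈ codes ∧ q (unpack c) = true := by
    intro c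
    rw [hS, List.mem_toFinset, List.mem_filter]
  have hset : {x : Equiv.Perm GolayPt | x ∈ M24 ∧ x * x = 1 ∧ x ≠ 1 ∧ (∃ p, x p = p) ∧
      q (tblOf x) = true} = ↑(S.image fun c => fperm (unpack c)) := by
    ext x
    simp only [Set.mem_ofPred_eq, Finset.coe_image, Set.mem_image, Finset.mem_coe]
    constructor
    · rintro ⟨hx, h2, h1, hf, hq⟩
      have hm := hcompl x hx h2 h1 hf
      unfold L2A at hm
      rw [List.mem_map] at hm
      obtain ⟨c, hc, hcx⟩ := hm
      refine ⟨c, (hSmem c).mpr ⟨hc, by rw [hcx]; exact hq⟩, ?_⟩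
      exact (eq_fperm_of_tblOf (hgood c hc).valid hcx.symm).symm
    · rintro ⟨c, hcS, rfl⟩
      obtain ⟨hc, hq⟩ := (hSmem c).mp hcS
      have hg := hgood c hc
      exact ⟨hg.mem_M24, hg.mul_self, hg.ne_one, hg.exists_fixed, by rw [hg.tblOf_eq]; exact hq⟩
  show Nat.card ↥{x : Equiv.Perm GolayPt | x ∈ M24 ∧ x * x = 1 ∧ x ≠ 1 ∧ (∃ p, x p = p) ∧
      q (tblOf x) = true} = _
  have hinj : Set.InjOn (fun c => fperm (unpack c)) (S : Set ℕ) := by
    intro a ha b hb e
    rw [Finset.mem_coe, hSmem] at ha hb
    have := congrArg tblOf e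
    rw [(hgood a ha.1).tblOf_eq, (hgood b hb.1).tblOf_eq] at this
    rw [← (hgood a ha.1).pk, ← (hgood b hb.1).pk, this]
  rw [hset, Nat.card_coe_set_eq, Set.ncard_coe_finset, Finset.card_image_of_injOn hinj, hS,
    List.toFinset_card_of_nodup (hnd.filter _)]
  rfl

/-! ### fast fixed-point counts of `x * r` and its square -/

/-- number of points where the tables agree -/
def agr (c r : ℕ) : ℕ := ((List.range 24).filter fun i => Nat.beq (fld5 r i) (fld5 c i)).length

/-- number of fixed points of the square of the product -/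
def agr2 (c r : ℕ) : ℕ :=
  ((List.range 24).filter fun i => Nat.beq (fld5 r (fld5 c (fld5 r i))) (fld5 c i)).length

theorem comp_getD {c r : ℕ} (hr : ∀ i < 24, fld5 r i < 24) {i : ℕ} (hi : i < 24) :
    (compTbl (unpack c) (unpack r)).getD i 0 = fld5 c (fld5 r i) := by
  rw [compTbl_getD _ _ hi, unpack_getD r hi, unpack_getD c (hr i hi)]

theorem fixCount_comp {c r : ℕ} (hc : Good c) (hr : ∀ i < 24, fld5 r i < 24) :
    fixCount (compTbl (unpack c) (unpack r)) = agr c r := by
  unfold fixCount agr
  congr 1
  apply filter_range_congr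
  intro i hi
  rw [comp_getD hr hi, Bool.eq_iff_iff, natBeq_iff, natBeq_iff]
  constructor
  · intro h
    have := hc.inv (fld5 r i) (hr i hi)
    rw [h] at this
    exact this.symm
  · intro h
    rw [h, hc.inv i hi]

theorem fixCount_comp_sq {c r : ℕ} (hc : Good c) (hr : ∀ i < 24, fld5 r i < 24) :
    fixCount (compTbl (compTbl (unpack c) (unpack r)) (compTbl (unpack c) (unpack r))) =
      agr2 c r := by
  unfold fixCount agr2
  congr 1
  apply filter_range_congr
  intro i hi
  have h1 : fld5 c (fld5 r i) < 24 := hc.lt _ (hr i hi)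
  rw [compTbl_getD _ _ hi, comp_getD hr hi, comp_getD hr h1, Bool.eq_iff_iff, natBeq_iff,
    natBeq_iff]
  constructor
  · intro h
    have := hc.inv (fld5 r (fld5 c (fld5 r i))) (hr _ h1)
    rw [h] at this
    exact this.symm
  · intro h
    rw [h, hc.inv i hi]

end Cfsg.Agent.Lib.Helper12.SBInv
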