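import Mathlib
import Cfsg.Agent.Lib.Helper12.SBInv

/-!
# Element checks, part 0

Generated kernel checks.
-/

set_option autoImplicit false
set_option maxRecDepth 100000

namespace Cfsg.Agent.Lib.Helper12.SBInv

open Cfsg Cfsg.Agent.Lib.helper4 Cfsg.Agent.Lib.Helper12.Golay
open CT


theorem ga0 : allT chkElem ch0 = true := by decide +kernel

theorem ga1 : allT chkElem ch1 = true := by decide +kernel

theorem ga2 : allT chkElem ch2 = true := by decide +kernel

theorem ga3 : allT chkElem ch3 = true := by decide +kernel

theorem ga4 : allT chkElem ch4 = true := by decide +kernel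

theorem ga5 : allT chkElem ch5 = true := by decide +kernel

theorem ga6 : allT chkElem ch6 = true := by decide +kernel

theorem ga7 : allT chkElem ch7 = true := by decide +kernel


end Cfsg.Agent.Lib.Helper12.SBInv
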