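import Mathlib
import Cfsg.Agent.Lib.Helper12.SBInv

/-!
# Element checks, part 1

Generated kernel checks.
-/

set_option autoImplicit false
set_option maxRecDepth 100000

namespace Cfsg.Agent.Lib.Helper12.SBInv

open Cfsg Cfsg.Agent.Lib.helper4 Cfsg.Agent.Lib.Helper12.Golay
open CT


theorem ga8 : allT chkElem ch8 = true := by decide +kernel

theorem ga9 : allT chkElem ch9 = true := by decide +kernel

theorem ga10 : allT chkElem ch10 = true := by decide +kernel

theorem ga11 : allT chkElem ch11 = true := by decide +kernel

theorem ga12 : allT chkElem ch12 = true := by decide +kernel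

theorem ga13 : allT chkElem ch13 = true := by decide +kernel

theorem ga14 : allT chkElem ch14 = true := by decide +kernel

theorem ga15 : allT chkElem ch15 = true := by decide +kernel


end Cfsg.Agent.Lib.Helper12.SBInv
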