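import Mathlib
import Cfsg.Agent.Lib.Helper12.SBInv

/-!
# Element checks, part 2

Generated kernel checks.
-/

set_option autoImplicit false
set_option maxRecDepth 100000

namespace Cfsg.Agent.Lib.Helper12.SBInv

open Cfsg Cfsg.Agent.Lib.helper4 Cfsg.Agent.Lib.Helper12.Golay
open CT


theorem ga16 : allT chkElem ch16 = true := by decide +kernel

theorem ga17 : allT chkElem ch17 = true := by decide +kernel

theorem ga18 : allT chkElem ch18 = true := by decide +kernel

theorem ga19 : allT chkElem ch19 = true := by decide +kernel

theorem ga20 : allT chkElem ch20 = true := by decide +kernel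

theorem ga21 : allT chkElem ch21 = true := by decide +kernel

theorem ga22 : allT chkElem ch22 = true := by decide +kernel

theorem ga23 : allT chkElem ch23 = true := by decide +kernel


end Cfsg.Agent.Lib.Helper12.SBInv
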