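import Mathlib
import Cfsg.Agent.Lib.Helper12.SBInv

/-!
# Element checks, part 3

Generated kernel checks.
-/

set_option autoImplicit false
set_option maxRecDepth 100000

namespace Cfsg.Agent.Lib.Helper12.SBInv

open Cfsg Cfsg.Agent.Lib.helper4 Cfsg.Agent.Lib.Helper12.Golay
open CT


theorem ga24 : allT chkElem ch24 = true := by decide +kernel

theorem ga25 : allT chkElem ch25 = true := by decide +kernel

theorem ga26 : allT chkElem ch26 = true := by decide +kernel

theorem ga27 : allT chkElem ch27 = true := by decide +kernel

theorem ga28 : allT chkElem ch28 = true := by decide +kernel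

theorem ga29 : allT chkElem ch29 = true := by decide +kernel

theorem ga30 : allT chkElem ch30 = true := by decide +kernel

theorem ga31 : allT chkElem ch31 = true := by decide +kernel


end Cfsg.Agent.Lib.Helper12.SBInv
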