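import Mathlib
import Cfsg.Agent.Lib.Helper12.SBInv

/-!
# Closure checks, part 0

Generated kernel checks.
-/

set_option autoImplicit false
set_option maxRecDepth 100000

namespace Cfsg.Agent.Lib.Helper12.SBInv

open Cfsg Cfsg.Agent.Lib.helper4 Cfsg.Agent.Lib.Helper12.Golay
open CT


theorem cjA0 : allT (conjChk cA cAi) ch0 = true := by decide +kernel

theorem cjB0 : allT (conjChk cB cB) ch0 = true := by decide +kernel

theorem cjC0 : allT (conjChk cC cCi) ch0 = true := by decide +kernel

theorem cjA1 : allT (conjChk cA cAi) ch1 = true := by decide +kernel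

theorem cjB1 : allT (conjChk cB cB) ch1 = true := by decide +kernel

theorem cjC1 : allT (conjChk cC cCi) ch1 = true := by decide +kernel

theorem cjA2 : allT (conjChk cA cAi) ch2 = true := by decide +kernel

theorem cjB2 : allT (conjChk cB cB) ch2 = true := by decide +kernel

theorem cjC2 : allT (conjChk cC cCi) ch2 = true := by decide +kernel

theorem cjA3 : allT (conjChk cA cAi) ch3 = true := by decide +kernel

theorem cjB3 : allT (conjChk cB cB) ch3 = true := by decide +kernel

theorem cjC3 : allT (conjChk cC cCi) ch3 = true := by decide +kernel

theorem cjA4 : allT (conjChk cA cAi) ch4 = true := by decide +kernel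

theorem cjB4 : allT (conjChk cB cB) ch4 = true := by decide +kernel

theorem cjC4 : allT (conjChk cC cCi) ch4 = true := by decide +kernel

theorem cjA5 : allT (conjChk cA cAi) ch5 = true := by decide +kernel

theorem cjB5 : allT (conjChk cB cB) ch5 = true := by decide +kernel

theorem cjC5 : allT (conjChk cC cCi) ch5 = true := by decide +kernel

theorem cjA6 : allT (conjChk cA cAi) ch6 = true := by decide +kernel

theorem cjB6 : allT (conjChk cB cB) ch6 = true := by decide +kernel

theorem cjC6 : allT (conjChk cC cCi) ch6 = true := by decide +kernel

theorem cjA7 : allT (conjChk cA cAi) ch7 = true := by decide +kernel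

theorem cjB7 : allT (conjChk cB cB) ch7 = true := by decide +kernel

theorem cjC7 : allT (conjChk cC cCi) ch7 = true := by decide +kernel


end Cfsg.Agent.Lib.Helper12.SBInv
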