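import Mathlib
import Cfsg.Agent.Lib.Helper12.SBInv

/-!
# Closure checks, part 1

Generated kernel checks.
-/

set_option autoImplicit false
set_option maxRecDepth 100000

namespace Cfsg.Agent.Lib.Helper12.SBInv

open Cfsg Cfsg.Agent.Lib.helper4 Cfsg.Agent.Lib.Helper12.Golay
open CT


theorem cjA8 : allT (conjChk cA cAi) ch8 = true := by decide +kernel

theorem cjB8 : allT (conjChk cB cB) ch8 = true := by decide +kernel

theorem cjC8 : allT (conjChk cC cCi) ch8 = true := by decide +kernel

theorem cjA9 : allT (conjChk cA cAi) ch9 = true := by decide +kernel

theorem cjB9 : allT (conjChk cB cB) ch9 = true := by decide +kernel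

theorem cjC9 : allT (conjChk cC cCi) ch9 = true := by decide +kernel

theorem cjA10 : allT (conjChk cA cAi) ch10 = true := by decide +kernel

theorem cjB10 : allT (conjChk cB cB) ch10 = true := by decide +kernel

theorem cjC10 : allT (conjChk cC cCi) ch10 = true := by decide +kernel

theorem cjA11 : allT (conjChk cA cAi) ch11 = true := by decide +kernel

theorem cjB11 : allT (conjChk cB cB) ch11 = true := by decide +kernel

theorem cjC11 : allT (conjChk cC cCi) ch11 = true := by decide +kernel

theorem cjA12 : allT (conjChk cA cAi) ch12 = true := by decide +kernel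

theorem cjB12 : allT (conjChk cB cB) ch12 = true := by decide +kernel

theorem cjC12 : allT (conjChk cC cCi) ch12 = true := by decide +kernel

theorem cjA13 : allT (conjChk cA cAi) ch13 = true := by decide +kernel

theorem cjB13 : allT (conjChk cB cB) ch13 = true := by decide +kernel

theorem cjC13 : allT (conjChk cC cCi) ch13 = true := by decide +kernel

theorem cjA14 : allT (conjChk cA cAi) ch14 = true := by decide +kernel

theorem cjB14 : allT (conjChk cB cB) ch14 = true := by decide +kernel

theorem cjC14 : allT (conjChk cC cCi) ch14 = true := by decide +kernel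

theorem cjA15 : allT (conjChk cA cAi) ch15 = true := by decide +kernel

theorem cjB15 : allT (conjChk cB cB) ch15 = true := by decide +kernel

theorem cjC15 : allT (conjChk cC cCi) ch15 = true := by decide +kernel


end Cfsg.Agent.Lib.Helper12.SBInv
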