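import Mathlib
import Cfsg.Agent.Lib.Helper12.SBInv

/-!
# Closure checks, part 2

Generated kernel checks.
-/

set_option autoImplicit false
set_option maxRecDepth 100000

namespace Cfsg.Agent.Lib.Helper12.SBInv

open Cfsg Cfsg.Agent.Lib.helper4 Cfsg.Agent.Lib.Helper12.Golay
open CT


theorem cjA16 : allT (conjChk cA cAi) ch16 = true := by decide +kernel

theorem cjB16 : allT (conjChk cB cB) ch16 = true := by decide +kernel

theorem cjC16 : allT (conjChk cC cCi) ch16 = true := by decide +kernel

theorem cjA17 : allT (conjChk cA cAi) ch17 = true := by decide +kernel

theorem cjB17 : allT (conjChk cB cB) ch17 = true := by decide +kernel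

theorem cjC17 : allT (conjChk cC cCi) ch17 = true := by decide +kernel

theorem cjA18 : allT (conjChk cA cAi) ch18 = true := by decide +kernel

theorem cjB18 : allT (conjChk cB cB) ch18 = true := by decide +kernel

theorem cjC18 : allT (conjChk cC cCi) ch18 = true := by decide +kernel

theorem cjA19 : allT (conjChk cA cAi) ch19 = true := by decide +kernel

theorem cjB19 : allT (conjChk cB cB) ch19 = true := by decide +kernel

theorem cjC19 : allT (conjChk cC cCi) ch19 = true := by decide +kernel

theorem cjA20 : allT (conjChk cA cAi) ch20 = true := by decide +kernel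

theorem cjB20 : allT (conjChk cB cB) ch20 = true := by decide +kernel

theorem cjC20 : allT (conjChk cC cCi) ch20 = true := by decide +kernel

theorem cjA21 : allT (conjChk cA cAi) ch21 = true := by decide +kernel

theorem cjB21 : allT (conjChk cB cB) ch21 = true := by decide +kernel

theorem cjC21 : allT (conjChk cC cCi) ch21 = true := by decide +kernel

theorem cjA22 : allT (conjChk cA cAi) ch22 = true := by decide +kernel

theorem cjB22 : allT (conjChk cB cB) ch22 = true := by decide +kernel

theorem cjC22 : allT (conjChk cC cCi) ch22 = true := by decide +kernel

theorem cjA23 : allT (conjChk cA cAi) ch23 = true := by decide +kernel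

theorem cjB23 : allT (conjChk cB cB) ch23 = true := by decide +kernel

theorem cjC23 : allT (conjChk cC cCi) ch23 = true := by decide +kernel


end Cfsg.Agent.Lib.Helper12.SBInv
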