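import Mathlib
import Cfsg.Agent.Lib.Helper12.SBInv

/-!
# Closure checks, part 3

Generated kernel checks.
-/

set_option autoImplicit false
set_option maxRecDepth 100000

namespace Cfsg.Agent.Lib.Helper12.SBInv

open Cfsg Cfsg.Agent.Lib.helper4 Cfsg.Agent.Lib.Helper12.Golay
open CT


theorem cjA24 : allT (conjChk cA cAi) ch24 = true := by decide +kernel

theorem cjB24 : allT (conjChk cB cB) ch24 = true := by decide +kernel

theorem cjC24 : allT (conjChk cC cCi) ch24 = true := by decide +kernel

theorem cjA25 : allT (conjChk cA cAi) ch25 = true := by decide +kernel

theorem cjB25 : allT (conjChk cB cB) ch25 = true := by decide +kernel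

theorem cjC25 : allT (conjChk cC cCi) ch25 = true := by decide +kernel

theorem cjA26 : allT (conjChk cA cAi) ch26 = true := by decide +kernel

theorem cjB26 : allT (conjChk cB cB) ch26 = true := by decide +kernel

theorem cjC26 : allT (conjChk cC cCi) ch26 = true := by decide +kernel

theorem cjA27 : allT (conjChk cA cAi) ch27 = true := by decide +kernel

theorem cjB27 : allT (conjChk cB cB) ch27 = true := by decide +kernel

theorem cjC27 : allT (conjChk cC cCi) ch27 = true := by decide +kernel

theorem cjA28 : allT (conjChk cA cAi) ch28 = true := by decide +kernel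

theorem cjB28 : allT (conjChk cB cB) ch28 = true := by decide +kernel

theorem cjC28 : allT (conjChk cC cCi) ch28 = true := by decide +kernel

theorem cjA29 : allT (conjChk cA cAi) ch29 = true := by decide +kernel

theorem cjB29 : allT (conjChk cB cB) ch29 = true := by decide +kernel

theorem cjC29 : allT (conjChk cC cCi) ch29 = true := by decide +kernel

theorem cjA30 : allT (conjChk cA cAi) ch30 = true := by decide +kernel

theorem cjB30 : allT (conjChk cB cB) ch30 = true := by decide +kernel

theorem cjC30 : allT (conjChk cC cCi) ch30 = true := by decide +kernel

theorem cjA31 : allT (conjChk cA cAi) ch31 = true := by decide +kernel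

theorem cjB31 : allT (conjChk cB cB) ch31 = true := by decide +kernel

theorem cjC31 : allT (conjChk cC cCi) ch31 = true := by decide +kernel


end Cfsg.Agent.Lib.Helper12.SBInv
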