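import Mathlib
import Cfsg.Agent.Lib.Helper12.SBInv

/-!
# Assembling counts over a search tree from counts over its subtrees
-/

set_option autoImplicit false

namespace Cfsg.Agent.Lib.Helper12.SBInv

open CT

theorem cntT_N (p : ℕ → Bool) (l : CT) (c : ℕ) (r : CT) (a b : ℕ) (hl : cntT p l = a)
    (hr : cntT p r = b) : cntT p (N l c r) = Nat.add (Nat.add a (cond (p c) 1 0)) b := by
  rw [← hl, ← hr]
  rfl

end Cfsg.Agent.Lib.Helper12.SBInv
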