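import Mathlib
import Cfsg.Agent.Lib.Helper12.SBInvChkA0
import Cfsg.Agent.Lib.Helper12.SBInvChkA1
import Cfsg.Agent.Lib.Helper12.SBInvChkA2
import Cfsg.Agent.Lib.Helper12.SBInvChkA3
import Cfsg.Agent.Lib.Helper12.SBInvChkC0
import Cfsg.Agent.Lib.Helper12.SBInvChkC1
import Cfsg.Agent.Lib.Helper12.SBInvChkC2
import Cfsg.Agent.Lib.Helper12.SBInvChkC3

/-!
# The certified list of involutions: assembly

Generated kernel checks.
-/

set_option autoImplicit false
set_option maxRecDepth 100000

namespace Cfsg.Agent.Lib.Helper12.SBInv

open Cfsg Cfsg.Agent.Lib.helper4 Cfsg.Agent.Lib.Helper12.Golay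
open CT


/-- the subtrees below the top five levels of the search tree -/
def chunkL : List CT := [ch0, ch1, ch2, ch3, ch4, ch5, ch6, ch7, ch8, ch9, ch10, ch11, ch12, ch13, ch14, ch15, ch16, ch17, ch18, ch19, ch20, ch21, ch22, ch23, ch24, ch25, ch26, ch27, ch28, ch29, ch30, ch31]

/-- the entries in the top five levels of the search tree -/
def sepL : List ℕ := [46067079176408391509876766926375660, 91013004498645000768493076399971648, 135854879293702928893959451328631024, 180701476279949194445355961093080320, 225444698646751724883947864945953162, 270430579038541015061642493662169641, 315579968513511028888584075425265792, 360484438401119368926211692612242560, 402631743324541581693861873834305568, 444494834111839431407619283184322592, 486271618918629309646708649444347946, 527888506106029917720858020930494465, 582375939626429635255241354736938038, 626995957811426339837881699686629781, 671969279400694384846992042428220459, 716957296299607735391632746912090144, 761541206447083139626272908608818691, 806942927263896415675799786777315660, 851688134488820346829452596417840167, 896629817238259086894811832832328775, 944552455396366398530732572558264532,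 957558678510212464794092656954248905, 961452631242009344200067098467641385, 965346457858280311602285612983897608, 969240118097008726526406917528625184, 973130174857336885136747289839210016, 977017712743791500311511600821881894, 980910192863787661187562972655945829, 984029488254357623753660416805688357, 984388114837826112377209070981063302, 984778194297846984635214162915600851]

theorem allT_inv2A (p : ℕ → Bool) (hch : ∀ t ∈ chunkL, allT p t = true)
    (hsep : ∀ v ∈ sepL, p v = true) : allT p inv2A = true := by
  unfold inv2A
  simp only [allT, Bool.and_eq_true]
  repeat' constructor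
  all_goals first
    | exact hsep _ (by simp [sepL])
    | exact hch _ (by simp [chunkL])

theorem good_chk : allT chkElem inv2A = true := by
  apply allT_inv2A
  · intro t ht
    simp only [chunkL, List.mem_cons, List.not_mem_nil, or_false] at ht
    rcases ht with rfl | rfl | rfl | rfl | rfl | rfl | rfl | rfl | rfl | rfl | rfl | rfl | rfl | rfl | rfl | rfl | rfl | rfl | rfl | rfl | rfl | rfl | rfl | rfl | rfl | rfl | rfl | rfl | rfl | rfl | rfl | rfl
    · exact ga0
    · exact ga1
    · exact ga2
    · exact ga3
    · exact ga4
    · exact ga5
    · exact ga6
    · exact ga7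
    · exact ga8
    · exact ga9
    · exact ga10
    · exact ga11
    · exact ga12
    · exact ga13
    · exact ga14
    · exact ga15
    · exact ga16
    · exact ga17
    · exact ga18
    · exact ga19
    · exact ga20
    · exact ga21
    · exact ga22
    · exact ga23
    · exact ga24
    · exact ga25
    · exact ga26
    · exact ga27
    · exact ga28
    · exact ga29
    · exact ga30
    · exact ga31
  · decide +kernel

theorem conj_chkA : allT (conjChk cA cAi) inv2A = true := by
  apply allT_inv2A
  · intro t ht
    simp only [chunkL, List.mem_cons, List.not_mem_nil, or_false] at ht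
    rcases ht with rfl | rfl | rfl | rfl | rfl | rfl | rfl | rfl | rfl | rfl | rfl | rfl | rfl | rfl | rfl | rfl | rfl | rfl | rfl | rfl | rfl | rfl | rfl | rfl | rfl | rfl | rfl | rfl | rfl | rfl | rfl | rfl
    · exact cjA0
    · exact cjA1
    · exact cjA2
    · exact cjA3
    · exact cjA4
    · exact cjA5
    · exact cjA6
    · exact cjA7
    · exact cjA8
    · exact cjA9
    · exact cjA10
    · exact cjA11
    · exact cjA12
    · exact cjA13
    · exact cjA14
    · exact cjA15
    · exact cjA16
    · exact cjA17
    · exact cjA18
    · exact cjA19
    · exact cjA20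
    · exact cjA21
    · exact cjA22
    · exact cjA23
    · exact cjA24
    · exact cjA25
    · exact cjA26
    · exact cjA27
    · exact cjA28
    · exact cjA29
    · exact cjA30
    · exact cjA31
  · decide +kernel

theorem conj_chkB : allT (conjChk cB cB) inv2A = true := by
  apply allT_inv2A
  · intro t ht
    simp only [chunkL, List.mem_cons, List.not_mem_nil, or_false] at ht
    rcases ht with rfl | rfl | rfl | rfl | rfl | rfl | rfl | rfl | rfl | rfl | rfl | rfl | rfl | rfl | rfl | rfl | rfl | rfl | rfl | rfl | rfl | rfl | rfl | rfl | rfl | rfl | rfl | rfl | rfl | rfl | rfl | rfl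
    · exact cjB0
    · exact cjB1
    · exact cjB2
    · exact cjB3
    · exact cjB4
    · exact cjB5
    · exact cjB6
    · exact cjB7
    · exact cjB8
    · exact cjB9
    · exact cjB10
    · exact cjB11
    · exact cjB12
    · exact cjB13
    · exact cjB14
    · exact cjB15
    · exact cjB16
    · exact cjB17
    · exact cjB18
    · exact cjB19
    · exact cjB20
    · exact cjB21
    · exact cjB22
    · exact cjB23
    · exact cjB24
    · exact cjB25
    · exact cjB26
    · exact cjB27
    · exact cjB28
    · exact cjB29
    · exact cjB30
    · exact cjB31
  · decide +kernel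

theorem conj_chkC : allT (conjChk cC cCi) inv2A = true := by
  apply allT_inv2A
  · intro t ht
    simp only [chunkL, List.mem_cons, List.not_mem_nil, or_false] at ht
    rcases ht with rfl | rfl | rfl | rfl | rfl | rfl | rfl | rfl | rfl | rfl | rfl | rfl | rfl | rfl | rfl | rfl | rfl | rfl | rfl | rfl | rfl | rfl | rfl | rfl | rfl | rfl | rfl | rfl | rfl | rfl | rfl | rfl
    · exact cjC0
    · exact cjC1
    · exact cjC2
    · exact cjC3
    · exact cjC4
    · exact cjC5
    · exact cjC6
    · exact cjC7
    · exact cjC8
    · exact cjC9
    · exact cjC10
    · exact cjC11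
    · exact cjC12
    · exact cjC13
    · exact cjC14
    · exact cjC15
    · exact cjC16
    · exact cjC17
    · exact cjC18
    · exact cjC19
    · exact cjC20
    · exact cjC21
    · exact cjC22
    · exact cjC23
    · exact cjC24
    · exact cjC25
    · exact cjC26
    · exact cjC27
    · exact cjC28
    · exact cjC29
    · exact cjC30
    · exact cjC31
  · decide +kernel

theorem bst_chk : bst inv2A 0 (2 ^ 120) = true := by decide +kernel

theorem rep_chk : (memb inv2A cRep && (unpack cRep == rep2A)) = true := by decide +kernel

theorem pk_chk : unpack cA = g374A ∧ unpack cAi = gAinv ∧ unpack cB = g374B ∧ unpack cC = g374C ∧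
    unpack cCi = gCinv := by decide +kernel

theorem ginv_chk : compTbl g374A gAinv = List.range 24 ∧ compTbl g374B g374B = List.range 24 ∧
    compTbl g374C gCinv = List.range 24 := by decide +kernel

theorem good_codes : ∀ c ∈ codes, Good c := fun c hc =>
  good_of_chk (allT_spec _ _ good_chk c hc)

theorem codes_nd : codes.Nodup := codes_nodup bst_chk

theorem complete (x : Equiv.Perm GolayPt) (hx : x ∈ M24) (h2 : x * x = 1) (h1 : x ≠ 1)
    (hf : ∃ p, x p = p) : tblOf x ∈ L2A :=
  mem_L2A_of (conjP_all good_codes pk_chk ginv_chk conj_chkA conj_chkB conj_chkC) rep_chk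
    hx h2 h1 hf

/-- the number of involutions of `M24` with a fixed point whose function table passes the test
`q` -/
theorem card_inv_eq (q : List ℕ → Bool) :
    Nat.card {x : Equiv.Perm GolayPt // x ∈ M24 ∧ x * x = 1 ∧ x ≠ 1 ∧ (∃ p, x p = p) ∧
      q (tblOf x) = true} = cntT (fun c => q (unpack c)) inv2A :=
  card_inv good_codes codes_nd complete q



end Cfsg.Agent.Lib.Helper12.SBInv
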