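import Mathlib
import Cfsg.Prelude.Def_Spor_Mathieu
import Cfsg.Agent.Lib.Helper12.SBInv
import Cfsg.Agent.Lib.Helper26.SB.Defs

/-!
# Fast versions of helper26's tests `inY24`, `inY22` on products `x * r` with `x` a listed
involution, and the membership test for `M22`
-/

set_option autoImplicit false

namespace Cfsg.Agent.Lib.Helper12.SBInv

open Cfsg Cfsg.Agent.Lib.helper4 Cfsg.Agent.Lib.Helper12.Golay Cfsg.Agent.Lib.Helper26.SB
open CT

/-- fast `inY24` of the product of the involution with code `c` and the table with code `r` -/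
def yF24 (r c : ℕ) : Bool := forceNat (agr c r) fun f =>
  cond (Nat.beq f 8) (Nat.beq (agr2 c r) 24)
    (cond (Nat.beq f 0)
      (forceNat (agr2 c r) fun f2 => Nat.beq f2 2 || Nat.beq f2 4 || Nat.beq f2 8) false)

/-- fast `inY22`, together with the test for fixing the points `23` and `0` -/
def yF22 (r c : ℕ) : Bool :=
  Nat.beq (fld5 c 23) 23 && Nat.beq (fld5 c 0) 0 && forceNat (agr c r) fun f =>
    cond (Nat.beq f 8) (Nat.beq (agr2 c r) 24) (cond (Nat.beq f 4) (Nat.beq (agr2 c r) 4) false)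

theorem beq_natBeq (a b : ℕ) : (a == b) = Nat.beq a b := by
  rw [Bool.eq_iff_iff, beq_iff_eq, natBeq_iff]

theorem yF24_spec {c r : ℕ} (hc : Good c) (hr : ∀ i < 24, fld5 r i < 24) :
    inY24 (compTbl (unpack c) (unpack r)) = yF24 r c := by
  unfold inY24 yF24
  rw [fixCount_comp hc hr, fixCount_comp_sq hc hr, forceNat_eq, forceNat_eq]
  simp only [beq_natBeq]
  by_cases h8 : Nat.beq (agr c r) 8 = true
  · have h0 : Nat.beq (agr c r) 0 = false := by
      rw [natBeq_iff] at h8
      rw [h8]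
      rfl
    rw [h8, h0]
    simp
  · rw [Bool.not_eq_true] at h8
    rw [h8]
    cases Nat.beq (agr c r) 0 <;> simp

/-- the table test for lying in `M22` (fixing `23` and `0`) followed by `inY22` -/
def q22 (R T : List ℕ) : Bool :=
  Nat.beq (T.getD 23 0) 23 && Nat.beq (T.getD 0 0) 0 && inY22 (compTbl T R)

theorem yF22_spec {c r : ℕ} (hc : Good c) (hr : ∀ i < 24, fld5 r i < 24) :
    q22 (unpack r) (unpack c) = yF22 r c := by
  unfold q22 inY22 yF22
  rw [fixCount_comp hc hr, fixCount_comp_sq hc hr, forceNat_eq, unpack_getD c (by norm_num),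
    unpack_getD c (by norm_num)]
  simp only [beq_natBeq]
  congr 1
  by_cases h8 : Nat.beq (agr c r) 8 = true
  · have h4 : Nat.beq (agr c r) 4 = false := by
      rw [natBeq_iff] at h8
      rw [h8]
      rfl
    rw [h8, h4]
    simp
  · rw [Bool.not_eq_true] at h8
    rw [h8]
    cases Nat.beq (agr c r) 4 <;> simp

theorem sb_mem_M22_iff (g : Equiv.Perm GolayPt) :
    g ∈ Cfsg.Spor.M22 ↔ g ∈ M24 ∧ g none = none ∧ g (some 0) = some 0 := by
  unfold Cfsg.Spor.M22 Cfsg.Spor.M23
  rw [Subgroup.mem_inf, Subgroup.mem_inf, and_assoc]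
  exact Iff.rfl

theorem idx_eq_23 (p : GolayPt) : idx p = 23 ↔ p = none := by
  revert p; decide

theorem idx_eq_0 (p : GolayPt) : idx p = 0 ↔ p = some 0 := by
  revert p; decide

theorem fix_tbl (g : Equiv.Perm GolayPt) :
    (Nat.beq ((tblOf g).getD 23 0) 23 && Nat.beq ((tblOf g).getD 0 0) 0) = true ↔
      g none = none ∧ g (some 0) = some 0 := by
  rw [Bool.and_eq_true, natBeq_iff, natBeq_iff, tblOf_getD g (by norm_num : 23 < 24),
    tblOf_getD g (by norm_num : 0 < 24), idx_eq_23, idx_eq_0]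
  rfl

end Cfsg.Agent.Lib.Helper12.SBInv
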