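import Mathlib
import Cfsg.Agent.Lib.Helper12.SBInvY

/-!
# Codes of helper26's class representatives

Generated kernel checks.
-/

set_option autoImplicit false
set_option maxRecDepth 100000

namespace Cfsg.Agent.Lib.Helper12.SBInv

open Cfsg Cfsg.Agent.Lib.helper4 Cfsg.Agent.Lib.Helper12.Golay Cfsg.Agent.Lib.Helper26.SB
open CT


def r24c0 : ℕ := 984818244535754528103549039458486304

def r24c1 : ℕ := 841883022297656746769405358522240247

def r24c2 : ℕ := 261102089748087222036430128396389966

def r24c3 : ℕ := 797450538914470498354111376881976688

def r24c4 : ℕ := 969799040607463925532481641823969428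

def r24c5 : ℕ := 968931413451285475188073995620234639

def r24c6 : ℕ := 840109583034474714610682232736669355

def r24c7 : ℕ := 344788866244474521835951579340194543

def r24c8 : ℕ := 67726351705840634849057252225626445

def r24c9 : ℕ := 126254657710408378072755099821244599

def r24c10 : ℕ := 9596252617276650143757177071580866

def r24c11 : ℕ := 753791322898099760422123663158467841

def r24c12 : ℕ := 110681573573953392398320190903165967

def r22c0 : ℕ := 984818244535754528103549039458486304

def r22c1 : ℕ := 974012117573270728796148573018567776

def r22c2 : ℕ := 984736857203988313292536688211542688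

def r22c3 : ℕ := 969236908038757767374332035256857280

def r22c4 : ℕ := 960904118428531725882110659653064096

def r22c5 : ℕ := 959978063930145619040282265043458720

def r22c6 : ℕ := 980514631316630277404128508482339200


end Cfsg.Agent.Lib.Helper12.SBInv
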