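import Mathlib
import Cfsg.Agent.Lib.Helper12.SBInvMain
import Cfsg.Agent.Lib.Helper12.SBN22Tot

/-!
# SB-N22: the parity certificate for `M22`
-/

set_option autoImplicit false

namespace Cfsg.Agent.Lib.Helper12.SBInv

open Cfsg Cfsg.Agent.Lib.helper4 Cfsg.Agent.Lib.Helper12.Golay Cfsg.Agent.Lib.Helper26.SB
open CT

theorem reps22_codes : [unpack r22c0, unpack r22c1, unpack r22c2, unpack r22c3, unpack r22c4,
    unpack r22c5, unpack r22c6] = reps22 := by decide +kernel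

theorem reps22_lt : ∀ r ∈ [r22c0, r22c1, r22c2, r22c3, r22c4, r22c5, r22c6],
    ∀ i < 24, fld5 r i < 24 := by decide +kernel

theorem reps22_valid : ∀ R ∈ reps22, ValidT R := by decide +kernel

/-- the count for one representative -/
theorem card22 {R : List ℕ} {r n : ℕ} (hR : unpack r = R) (hv : ValidT R)
    (hlt : ∀ i < 24, fld5 r i < 24) (hn : cntT (yF22 r) inv2A = n) :
    Nat.card {x : Equiv.Perm GolayPt // x ∈ Cfsg.Spor.M22 ∧ x * x = 1 ∧ x ≠ 1 ∧ (∃ p, x p = p) ∧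
      inY22 (tblOf (x * fperm R)) = true} = n := by
  have e : ∀ x : Equiv.Perm GolayPt,
      (x ∈ Cfsg.Spor.M22 ∧ x * x = 1 ∧ x ≠ 1 ∧ (∃ p, x p = p) ∧
        inY22 (tblOf (x * fperm R)) = true) ↔
      (x ∈ M24 ∧ x * x = 1 ∧ x ≠ 1 ∧ (∃ p, x p = p) ∧ q22 R (tblOf x) = true) := by
    intro x
    have e1 : inY22 (tblOf (x * fperm R)) = inY22 (compTbl (tblOf x) R) := by
      rw [tblOf_mul, tblOf_fperm hv]
    constructor
    · rintro ⟨hm, ha, hb, hc, hd⟩
      obtain ⟨h24, hn, h0⟩ := (sb_mem_M22_iff x).mp hm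
      refine ⟨h24, ha, hb, hc, ?_⟩
      unfold q22
      rw [Bool.and_eq_true]
      exact ⟨(fix_tbl x).mpr ⟨hn, h0⟩, e1 ▸ hd⟩
    · rintro ⟨h24, ha, hb, hc, hd⟩
      unfold q22 at hd
      rw [Bool.and_eq_true] at hd
      obtain ⟨hn, h0⟩ := (fix_tbl x).mp hd.1
      exact ⟨(sb_mem_M22_iff x).mpr ⟨h24, hn, h0⟩, ha, hb, hc, e1 ▸ hd.2⟩
  rw [Nat.card_congr (Equiv.subtypeEquivRight e)]
  refine (card_inv_eq (q22 R)).trans ?_
  rw [← hn]
  apply cntT_congr
  intro c hc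
  show q22 R (unpack c) = yF22 r c
  rw [← hR]
  exact yF22_spec (good_codes c hc) hlt

end Cfsg.Agent.Lib.Helper12.SBInv

namespace Cfsg.Agent.Lib.Helper26.SB

open Cfsg Cfsg.Agent.Lib.helper4 Cfsg.Agent.Lib.Helper12.Golay Cfsg.Agent.Lib.Helper12.SBInv

/-- N22: the parity certificate for `M22`. -/
theorem parity22 : ∀ R ∈ reps22,
    Nat.card {x : Equiv.Perm GolayPt // x ∈ Cfsg.Spor.M22 ∧ x * x = 1 ∧ x ≠ 1 ∧ (∃ p, x p = p) ∧
      inY22 (tblOf (x * fperm R)) = true} % 2 = if R = List.range 24 then 1 else 0 := by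
  intro R hR
  have hv := reps22_valid R hR
  rw [← reps22_codes] at hR
  simp only [List.mem_cons, List.not_mem_nil, or_false] at hR
  have hlt := reps22_lt
  simp only [List.forall_mem_cons, List.not_mem_nil, false_imp_iff, implies_true, and_true] at hlt
  obtain ⟨l0, l1, l2, l3, l4, l5, l6⟩ := hlt
  rcases hR with rfl | rfl | rfl | rfl | rfl | rfl | rfl
  · rw [card22 rfl hv l0 t22_0]
    decide +kernel
  · rw [card22 rfl hv l1 t22_1]
    decide +kernel
  · rw [card22 rfl hv l2 t22_2]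
    decide +kernel
  · rw [card22 rfl hv l3 t22_3]
    decide +kernel
  · rw [card22 rfl hv l4 t22_4]
    decide +kernel
  · rw [card22 rfl hv l5 t22_5]
    decide +kernel
  · rw [card22 rfl hv l6 t22_6]
    decide +kernel

end Cfsg.Agent.Lib.Helper26.SB
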