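import Mathlib
import Cfsg.Agent.Lib.Helper12.SBInvReps

/-!
# Chunk counts for `M22`

Generated kernel checks.
-/

set_option autoImplicit false
set_option maxRecDepth 100000

namespace Cfsg.Agent.Lib.Helper12.SBInv

open Cfsg Cfsg.Agent.Lib.helper4 Cfsg.Agent.Lib.Helper12.Golay Cfsg.Agent.Lib.Helper26.SB
open CT


theorem n22_0_0 : cntT (yF22 r22c0) ch0 = 0 := by decide +kernel

theorem n22_0_1 : cntT (yF22 r22c0) ch1 = 0 := by decide +kernel

theorem n22_0_2 : cntT (yF22 r22c0) ch2 = 0 := by decide +kernel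

theorem n22_0_3 : cntT (yF22 r22c0) ch3 = 0 := by decide +kernel

theorem n22_0_4 : cntT (yF22 r22c0) ch4 = 0 := by decide +kernel

theorem n22_0_5 : cntT (yF22 r22c0) ch5 = 0 := by decide +kernel

theorem n22_0_6 : cntT (yF22 r22c0) ch6 = 0 := by decide +kernel

theorem n22_0_7 : cntT (yF22 r22c0) ch7 = 0 := by decide +kernel

theorem n22_0_8 : cntT (yF22 r22c0) ch8 = 0 := by decide +kernel

theorem n22_0_9 : cntT (yF22 r22c0) ch9 = 0 := by decide +kernel

theorem n22_0_10 : cntT (yF22 r22c0) ch10 = 0 := by decide +kernel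

theorem n22_0_11 : cntT (yF22 r22c0) ch11 = 0 := by decide +kernel

theorem n22_0_12 : cntT (yF22 r22c0) ch12 = 0 := by decide +kernel

theorem n22_0_13 : cntT (yF22 r22c0) ch13 = 0 := by decide +kernel

theorem n22_0_14 : cntT (yF22 r22c0) ch14 = 0 := by decide +kernel

theorem n22_0_15 : cntT (yF22 r22c0) ch15 = 0 := by decide +kernel

theorem n22_0_16 : cntT (yF22 r22c0) ch16 = 0 := by decide +kernel

theorem n22_0_17 : cntT (yF22 r22c0) ch17 = 0 := by decide +kernel

theorem n22_0_18 : cntT (yF22 r22c0) ch18 = 0 := by decide +kernel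

theorem n22_0_19 : cntT (yF22 r22c0) ch19 = 0 := by decide +kernel

theorem n22_0_20 : cntT (yF22 r22c0) ch20 = 0 := by decide +kernel

theorem n22_0_21 : cntT (yF22 r22c0) ch21 = 39 := by decide +kernel

theorem n22_0_22 : cntT (yF22 r22c0) ch22 = 119 := by decide +kernel

theorem n22_0_23 : cntT (yF22 r22c0) ch23 = 119 := by decide +kernel

theorem n22_0_24 : cntT (yF22 r22c0) ch24 = 119 := by decide +kernel

theorem n22_0_25 : cntT (yF22 r22c0) ch25 = 117 := by decide +kernel

theorem n22_0_26 : cntT (yF22 r22c0) ch26 = 117 := by decide +kernel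

theorem n22_0_27 : cntT (yF22 r22c0) ch27 = 121 := by decide +kernel

theorem n22_0_28 : cntT (yF22 r22c0) ch28 = 99 := by decide +kernel

theorem n22_0_29 : cntT (yF22 r22c0) ch29 = 108 := by decide +kernel

theorem n22_0_30 : cntT (yF22 r22c0) ch30 = 108 := by decide +kernel

theorem n22_0_31 : cntT (yF22 r22c0) ch31 = 87 := by decide +kernel

theorem n22_1_0 : cntT (yF22 r22c1) ch0 = 0 := by decide +kernel

theorem n22_1_1 : cntT (yF22 r22c1) ch1 = 0 := by decide +kernel

theorem n22_1_2 : cntT (yF22 r22c1) ch2 = 0 := by decide +kernel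

theorem n22_1_3 : cntT (yF22 r22c1) ch3 = 0 := by decide +kernel

theorem n22_1_4 : cntT (yF22 r22c1) ch4 = 0 := by decide +kernel

theorem n22_1_5 : cntT (yF22 r22c1) ch5 = 0 := by decide +kernel

theorem n22_1_6 : cntT (yF22 r22c1) ch6 = 0 := by decide +kernel

theorem n22_1_7 : cntT (yF22 r22c1) ch7 = 0 := by decide +kernel

theorem n22_1_8 : cntT (yF22 r22c1) ch8 = 0 := by decide +kernel

theorem n22_1_9 : cntT (yF22 r22c1) ch9 = 0 := by decide +kernel

theorem n22_1_10 : cntT (yF22 r22c1) ch10 = 0 := by decide +kernel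

theorem n22_1_11 : cntT (yF22 r22c1) ch11 = 0 := by decide +kernel

theorem n22_1_12 : cntT (yF22 r22c1) ch12 = 0 := by decide +kernel

theorem n22_1_13 : cntT (yF22 r22c1) ch13 = 0 := by decide +kernel

theorem n22_1_14 : cntT (yF22 r22c1) ch14 = 0 := by decide +kernel

theorem n22_1_15 : cntT (yF22 r22c1) ch15 = 0 := by decide +kernel

theorem n22_1_16 : cntT (yF22 r22c1) ch16 = 0 := by decide +kernel

theorem n22_1_17 : cntT (yF22 r22c1) ch17 = 0 := by decide +kernel

theorem n22_1_18 : cntT (yF22 r22c1) ch18 = 0 := by decide +kernel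

theorem n22_1_19 : cntT (yF22 r22c1) ch19 = 0 := by decide +kernel

theorem n22_1_20 : cntT (yF22 r22c1) ch20 = 0 := by decide +kernel

theorem n22_1_21 : cntT (yF22 r22c1) ch21 = 16 := by decide +kernel

theorem n22_1_22 : cntT (yF22 r22c1) ch22 = 46 := by decide +kernel

theorem n22_1_23 : cntT (yF22 r22c1) ch23 = 30 := by decide +kernel

theorem n22_1_24 : cntT (yF22 r22c1) ch24 = 41 := by decide +kernel

theorem n22_1_25 : cntT (yF22 r22c1) ch25 = 47 := by decide +kernel

theorem n22_1_26 : cntT (yF22 r22c1) ch26 = 40 := by decide +kernel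

theorem n22_1_27 : cntT (yF22 r22c1) ch27 = 39 := by decide +kernel

theorem n22_1_28 : cntT (yF22 r22c1) ch28 = 30 := by decide +kernel

theorem n22_1_29 : cntT (yF22 r22c1) ch29 = 35 := by decide +kernel

theorem n22_1_30 : cntT (yF22 r22c1) ch30 = 29 := by decide +kernel

theorem n22_1_31 : cntT (yF22 r22c1) ch31 = 25 := by decide +kernel

theorem n22_2_0 : cntT (yF22 r22c2) ch0 = 0 := by decide +kernel

theorem n22_2_1 : cntT (yF22 r22c2) ch1 = 0 := by decide +kernel

theorem n22_2_2 : cntT (yF22 r22c2) ch2 = 0 := by decide +kernel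

theorem n22_2_3 : cntT (yF22 r22c2) ch3 = 0 := by decide +kernel

theorem n22_2_4 : cntT (yF22 r22c2) ch4 = 0 := by decide +kernel

theorem n22_2_5 : cntT (yF22 r22c2) ch5 = 0 := by decide +kernel

theorem n22_2_6 : cntT (yF22 r22c2) ch6 = 0 := by decide +kernel

theorem n22_2_7 : cntT (yF22 r22c2) ch7 = 0 := by decide +kernel

theorem n22_2_8 : cntT (yF22 r22c2) ch8 = 0 := by decide +kernel

theorem n22_2_9 : cntT (yF22 r22c2) ch9 = 0 := by decide +kernel

theorem n22_2_10 : cntT (yF22 r22c2) ch10 = 0 := by decide +kernel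

theorem n22_2_11 : cntT (yF22 r22c2) ch11 = 0 := by decide +kernel

theorem n22_2_12 : cntT (yF22 r22c2) ch12 = 0 := by decide +kernel

theorem n22_2_13 : cntT (yF22 r22c2) ch13 = 0 := by decide +kernel

theorem n22_2_14 : cntT (yF22 r22c2) ch14 = 0 := by decide +kernel

theorem n22_2_15 : cntT (yF22 r22c2) ch15 = 0 := by decide +kernel

theorem n22_2_16 : cntT (yF22 r22c2) ch16 = 0 := by decide +kernel

theorem n22_2_17 : cntT (yF22 r22c2) ch17 = 0 := by decide +kernel

theorem n22_2_18 : cntT (yF22 r22c2) ch18 = 0 := by decide +kernel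

theorem n22_2_19 : cntT (yF22 r22c2) ch19 = 0 := by decide +kernel

theorem n22_2_20 : cntT (yF22 r22c2) ch20 = 0 := by decide +kernel

theorem n22_2_21 : cntT (yF22 r22c2) ch21 = 5 := by decide +kernel

theorem n22_2_22 : cntT (yF22 r22c2) ch22 = 36 := by decide +kernel

theorem n22_2_23 : cntT (yF22 r22c2) ch23 = 39 := by decide +kernel

theorem n22_2_24 : cntT (yF22 r22c2) ch24 = 21 := by decide +kernel

theorem n22_2_25 : cntT (yF22 r22c2) ch25 = 26 := by decide +kernel

theorem n22_2_26 : cntT (yF22 r22c2) ch26 = 32 := by decide +kernel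

theorem n22_2_27 : cntT (yF22 r22c2) ch27 = 23 := by decide +kernel

theorem n22_2_28 : cntT (yF22 r22c2) ch28 = 15 := by decide +kernel

theorem n22_2_29 : cntT (yF22 r22c2) ch29 = 45 := by decide +kernel

theorem n22_2_30 : cntT (yF22 r22c2) ch30 = 46 := by decide +kernel

theorem n22_2_31 : cntT (yF22 r22c2) ch31 = 32 := by decide +kernel

theorem n22_3_0 : cntT (yF22 r22c3) ch0 = 0 := by decide +kernel

theorem n22_3_1 : cntT (yF22 r22c3) ch1 = 0 := by decide +kernel

theorem n22_3_2 : cntT (yF22 r22c3) ch2 = 0 := by decide +kernel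

theorem n22_3_3 : cntT (yF22 r22c3) ch3 = 0 := by decide +kernel

theorem n22_3_4 : cntT (yF22 r22c3) ch4 = 0 := by decide +kernel

theorem n22_3_5 : cntT (yF22 r22c3) ch5 = 0 := by decide +kernel

theorem n22_3_6 : cntT (yF22 r22c3) ch6 = 0 := by decide +kernel

theorem n22_3_7 : cntT (yF22 r22c3) ch7 = 0 := by decide +kernel

theorem n22_3_8 : cntT (yF22 r22c3) ch8 = 0 := by decide +kernel

theorem n22_3_9 : cntT (yF22 r22c3) ch9 = 0 := by decide +kernel

theorem n22_3_10 : cntT (yF22 r22c3) ch10 = 0 := by decide +kernel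

theorem n22_3_11 : cntT (yF22 r22c3) ch11 = 0 := by decide +kernel

theorem n22_3_12 : cntT (yF22 r22c3) ch12 = 0 := by decide +kernel

theorem n22_3_13 : cntT (yF22 r22c3) ch13 = 0 := by decide +kernel

theorem n22_3_14 : cntT (yF22 r22c3) ch14 = 0 := by decide +kernel

theorem n22_3_15 : cntT (yF22 r22c3) ch15 = 0 := by decide +kernel

theorem n22_3_16 : cntT (yF22 r22c3) ch16 = 0 := by decide +kernel

theorem n22_3_17 : cntT (yF22 r22c3) ch17 = 0 := by decide +kernel

theorem n22_3_18 : cntT (yF22 r22c3) ch18 = 0 := by decide +kernel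

theorem n22_3_19 : cntT (yF22 r22c3) ch19 = 0 := by decide +kernel

theorem n22_3_20 : cntT (yF22 r22c3) ch20 = 0 := by decide +kernel

theorem n22_3_21 : cntT (yF22 r22c3) ch21 = 15 := by decide +kernel

theorem n22_3_22 : cntT (yF22 r22c3) ch22 = 21 := by decide +kernel

theorem n22_3_23 : cntT (yF22 r22c3) ch23 = 18 := by decide +kernel

theorem n22_3_24 : cntT (yF22 r22c3) ch24 = 32 := by decide +kernel

theorem n22_3_25 : cntT (yF22 r22c3) ch25 = 25 := by decide +kernel

theorem n22_3_26 : cntT (yF22 r22c3) ch26 = 17 := by decide +kernel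

theorem n22_3_27 : cntT (yF22 r22c3) ch27 = 24 := by decide +kernel

theorem n22_3_28 : cntT (yF22 r22c3) ch28 = 17 := by decide +kernel

theorem n22_3_29 : cntT (yF22 r22c3) ch29 = 10 := by decide +kernel

theorem n22_3_30 : cntT (yF22 r22c3) ch30 = 14 := by decide +kernel

theorem n22_3_31 : cntT (yF22 r22c3) ch31 = 31 := by decide +kernel

theorem n22_4_0 : cntT (yF22 r22c4) ch0 = 0 := by decide +kernel

theorem n22_4_1 : cntT (yF22 r22c4) ch1 = 0 := by decide +kernel

theorem n22_4_2 : cntT (yF22 r22c4) ch2 = 0 := by decide +kernel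

theorem n22_4_3 : cntT (yF22 r22c4) ch3 = 0 := by decide +kernel

theorem n22_4_4 : cntT (yF22 r22c4) ch4 = 0 := by decide +kernel

theorem n22_4_5 : cntT (yF22 r22c4) ch5 = 0 := by decide +kernel

theorem n22_4_6 : cntT (yF22 r22c4) ch6 = 0 := by decide +kernel

theorem n22_4_7 : cntT (yF22 r22c4) ch7 = 0 := by decide +kernel

theorem n22_4_8 : cntT (yF22 r22c4) ch8 = 0 := by decide +kernel

theorem n22_4_9 : cntT (yF22 r22c4) ch9 = 0 := by decide +kernel

theorem n22_4_10 : cntT (yF22 r22c4) ch10 = 0 := by decide +kernel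

theorem n22_4_11 : cntT (yF22 r22c4) ch11 = 0 := by decide +kernel

theorem n22_4_12 : cntT (yF22 r22c4) ch12 = 0 := by decide +kernel

theorem n22_4_13 : cntT (yF22 r22c4) ch13 = 0 := by decide +kernel

theorem n22_4_14 : cntT (yF22 r22c4) ch14 = 0 := by decide +kernel

theorem n22_4_15 : cntT (yF22 r22c4) ch15 = 0 := by decide +kernel

theorem n22_4_16 : cntT (yF22 r22c4) ch16 = 0 := by decide +kernel

theorem n22_4_17 : cntT (yF22 r22c4) ch17 = 0 := by decide +kernel

theorem n22_4_18 : cntT (yF22 r22c4) ch18 = 0 := by decide +kernel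

theorem n22_4_19 : cntT (yF22 r22c4) ch19 = 0 := by decide +kernel

theorem n22_4_20 : cntT (yF22 r22c4) ch20 = 0 := by decide +kernel

theorem n22_4_21 : cntT (yF22 r22c4) ch21 = 10 := by decide +kernel

theorem n22_4_22 : cntT (yF22 r22c4) ch22 = 25 := by decide +kernel

theorem n22_4_23 : cntT (yF22 r22c4) ch23 = 18 := by decide +kernel

theorem n22_4_24 : cntT (yF22 r22c4) ch24 = 20 := by decide +kernel

theorem n22_4_25 : cntT (yF22 r22c4) ch25 = 24 := by decide +kernel

theorem n22_4_26 : cntT (yF22 r22c4) ch26 = 26 := by decide +kernel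

theorem n22_4_27 : cntT (yF22 r22c4) ch27 = 26 := by decide +kernel

theorem n22_4_28 : cntT (yF22 r22c4) ch28 = 14 := by decide +kernel

theorem n22_4_29 : cntT (yF22 r22c4) ch29 = 27 := by decide +kernel

theorem n22_4_30 : cntT (yF22 r22c4) ch30 = 19 := by decide +kernel

theorem n22_4_31 : cntT (yF22 r22c4) ch31 = 15 := by decide +kernel

theorem n22_5_0 : cntT (yF22 r22c5) ch0 = 0 := by decide +kernel

theorem n22_5_1 : cntT (yF22 r22c5) ch1 = 0 := by decide +kernel

theorem n22_5_2 : cntT (yF22 r22c5) ch2 = 0 := by decide +kernel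

theorem n22_5_3 : cntT (yF22 r22c5) ch3 = 0 := by decide +kernel

theorem n22_5_4 : cntT (yF22 r22c5) ch4 = 0 := by decide +kernel

theorem n22_5_5 : cntT (yF22 r22c5) ch5 = 0 := by decide +kernel

theorem n22_5_6 : cntT (yF22 r22c5) ch6 = 0 := by decide +kernel

theorem n22_5_7 : cntT (yF22 r22c5) ch7 = 0 := by decide +kernel

theorem n22_5_8 : cntT (yF22 r22c5) ch8 = 0 := by decide +kernel

theorem n22_5_9 : cntT (yF22 r22c5) ch9 = 0 := by decide +kernel

theorem n22_5_10 : cntT (yF22 r22c5) ch10 = 0 := by decide +kernel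

theorem n22_5_11 : cntT (yF22 r22c5) ch11 = 0 := by decide +kernel

theorem n22_5_12 : cntT (yF22 r22c5) ch12 = 0 := by decide +kernel

theorem n22_5_13 : cntT (yF22 r22c5) ch13 = 0 := by decide +kernel

theorem n22_5_14 : cntT (yF22 r22c5) ch14 = 0 := by decide +kernel

theorem n22_5_15 : cntT (yF22 r22c5) ch15 = 0 := by decide +kernel

theorem n22_5_16 : cntT (yF22 r22c5) ch16 = 0 := by decide +kernel

theorem n22_5_17 : cntT (yF22 r22c5) ch17 = 0 := by decide +kernel

theorem n22_5_18 : cntT (yF22 r22c5) ch18 = 0 := by decide +kernel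

theorem n22_5_19 : cntT (yF22 r22c5) ch19 = 0 := by decide +kernel

theorem n22_5_20 : cntT (yF22 r22c5) ch20 = 0 := by decide +kernel

theorem n22_5_21 : cntT (yF22 r22c5) ch21 = 6 := by decide +kernel

theorem n22_5_22 : cntT (yF22 r22c5) ch22 = 36 := by decide +kernel

theorem n22_5_23 : cntT (yF22 r22c5) ch23 = 15 := by decide +kernel

theorem n22_5_24 : cntT (yF22 r22c5) ch24 = 8 := by decide +kernel

theorem n22_5_25 : cntT (yF22 r22c5) ch25 = 16 := by decide +kernel

theorem n22_5_26 : cntT (yF22 r22c5) ch26 = 14 := by decide +kernel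

theorem n22_5_27 : cntT (yF22 r22c5) ch27 = 19 := by decide +kernel

theorem n22_5_28 : cntT (yF22 r22c5) ch28 = 20 := by decide +kernel

theorem n22_5_29 : cntT (yF22 r22c5) ch29 = 14 := by decide +kernel

theorem n22_5_30 : cntT (yF22 r22c5) ch30 = 16 := by decide +kernel

theorem n22_5_31 : cntT (yF22 r22c5) ch31 = 12 := by decide +kernel

theorem n22_6_0 : cntT (yF22 r22c6) ch0 = 0 := by decide +kernel

theorem n22_6_1 : cntT (yF22 r22c6) ch1 = 0 := by decide +kernel

theorem n22_6_2 : cntT (yF22 r22c6) ch2 = 0 := by decide +kernel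

theorem n22_6_3 : cntT (yF22 r22c6) ch3 = 0 := by decide +kernel

theorem n22_6_4 : cntT (yF22 r22c6) ch4 = 0 := by decide +kernel

theorem n22_6_5 : cntT (yF22 r22c6) ch5 = 0 := by decide +kernel

theorem n22_6_6 : cntT (yF22 r22c6) ch6 = 0 := by decide +kernel

theorem n22_6_7 : cntT (yF22 r22c6) ch7 = 0 := by decide +kernel

theorem n22_6_8 : cntT (yF22 r22c6) ch8 = 0 := by decide +kernel

theorem n22_6_9 : cntT (yF22 r22c6) ch9 = 0 := by decide +kernel

theorem n22_6_10 : cntT (yF22 r22c6) ch10 = 0 := by decide +kernel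

theorem n22_6_11 : cntT (yF22 r22c6) ch11 = 0 := by decide +kernel

theorem n22_6_12 : cntT (yF22 r22c6) ch12 = 0 := by decide +kernel

theorem n22_6_13 : cntT (yF22 r22c6) ch13 = 0 := by decide +kernel

theorem n22_6_14 : cntT (yF22 r22c6) ch14 = 0 := by decide +kernel

theorem n22_6_15 : cntT (yF22 r22c6) ch15 = 0 := by decide +kernel

theorem n22_6_16 : cntT (yF22 r22c6) ch16 = 0 := by decide +kernel

theorem n22_6_17 : cntT (yF22 r22c6) ch17 = 0 := by decide +kernel

theorem n22_6_18 : cntT (yF22 r22c6) ch18 = 0 := by decide +kernel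

theorem n22_6_19 : cntT (yF22 r22c6) ch19 = 0 := by decide +kernel

theorem n22_6_20 : cntT (yF22 r22c6) ch20 = 0 := by decide +kernel

theorem n22_6_21 : cntT (yF22 r22c6) ch21 = 2 := by decide +kernel

theorem n22_6_22 : cntT (yF22 r22c6) ch22 = 20 := by decide +kernel

theorem n22_6_23 : cntT (yF22 r22c6) ch23 = 8 := by decide +kernel

theorem n22_6_24 : cntT (yF22 r22c6) ch24 = 15 := by decide +kernel

theorem n22_6_25 : cntT (yF22 r22c6) ch25 = 22 := by decide +kernel

theorem n22_6_26 : cntT (yF22 r22c6) ch26 = 24 := by decide +kernel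

theorem n22_6_27 : cntT (yF22 r22c6) ch27 = 24 := by decide +kernel

theorem n22_6_28 : cntT (yF22 r22c6) ch28 = 14 := by decide +kernel

theorem n22_6_29 : cntT (yF22 r22c6) ch29 = 9 := by decide +kernel

theorem n22_6_30 : cntT (yF22 r22c6) ch30 = 23 := by decide +kernel

theorem n22_6_31 : cntT (yF22 r22c6) ch31 = 15 := by decide +kernel


end Cfsg.Agent.Lib.Helper12.SBInv
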