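import Mathlib
import Cfsg.Agent.Lib.Helper12.SBInvMain
import Cfsg.Agent.Lib.Helper12.SBN24Tot

/-!
# SB-N24: the parity certificate for `M24`

For each of helper26's 13 representatives `R` of the classes of elements of odd order, the number
of involutions `x` of `M24` with a fixed point such that `x * R` passes the test `inY24` is odd for
`R = 1` and even otherwise.
-/

set_option autoImplicit false

namespace Cfsg.Agent.Lib.Helper12.SBInv

open Cfsg Cfsg.Agent.Lib.helper4 Cfsg.Agent.Lib.Helper12.Golay Cfsg.Agent.Lib.Helper26.SB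
open CT

theorem reps24_codes : [unpack r24c0, unpack r24c1, unpack r24c2, unpack r24c3, unpack r24c4,
    unpack r24c5, unpack r24c6, unpack r24c7, unpack r24c8, unpack r24c9, unpack r24c10,
    unpack r24c11, unpack r24c12] = reps24 := by decide +kernel

theorem reps24_lt : ∀ r ∈ [r24c0, r24c1, r24c2, r24c3, r24c4, r24c5, r24c6, r24c7, r24c8, r24c9,
    r24c10, r24c11, r24c12], ∀ i < 24, fld5 r i < 24 := by decide +kernel

theorem reps24_valid : ∀ R ∈ reps24, ValidT R := by decide +kernel

/-- the count for one representative -/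
theorem card24 {R : List ℕ} {r n : ℕ} (hR : unpack r = R) (hv : ValidT R)
    (hlt : ∀ i < 24, fld5 r i < 24) (hn : cntT (yF24 r) inv2A = n) :
    Nat.card {x : Equiv.Perm GolayPt // x ∈ M24 ∧ x * x = 1 ∧ x ≠ 1 ∧ (∃ p, x p = p) ∧
      inY24 (tblOf (x * fperm R)) = true} = n := by
  have e : ∀ x : Equiv.Perm GolayPt, inY24 (tblOf (x * fperm R)) =
      inY24 (compTbl (tblOf x) R) := fun x => by
    rw [tblOf_mul, tblOf_fperm hv]
  simp only [e]
  refine (card_inv_eq (fun T => inY24 (compTbl T R))).trans ?_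
  rw [← hn]
  apply cntT_congr
  intro c hc
  show inY24 (compTbl (unpack c) R) = yF24 r c
  rw [← hR]
  exact yF24_spec (good_codes c hc) hlt

end Cfsg.Agent.Lib.Helper12.SBInv

namespace Cfsg.Agent.Lib.Helper26.SB

open Cfsg Cfsg.Agent.Lib.helper4 Cfsg.Agent.Lib.Helper12.Golay Cfsg.Agent.Lib.Helper12.SBInv

/-- N24: the parity certificate for `M24`. -/
theorem parity24 : ∀ R ∈ reps24,
    Nat.card {x : Equiv.Perm GolayPt // x ∈ M24 ∧ x * x = 1 ∧ x ≠ 1 ∧ (∃ p, x p = p) ∧
      inY24 (tblOf (x * fperm R)) = true} % 2 = if R = List.range 24 then 1 else 0 := by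
  intro R hR
  have hv := reps24_valid R hR
  rw [← reps24_codes] at hR
  simp only [List.mem_cons, List.not_mem_nil, or_false] at hR
  have hlt := reps24_lt
  simp only [List.forall_mem_cons, List.not_mem_nil, false_imp_iff, implies_true, and_true] at hlt
  obtain ⟨l0, l1, l2, l3, l4, l5, l6, l7, l8, l9, l10, l11, l12⟩ := hlt
  rcases hR with rfl | rfl | rfl | rfl | rfl | rfl | rfl | rfl | rfl | rfl | rfl | rfl | rfl
  · rw [card24 rfl hv l0 t24_0]
    decide +kernel
  · rw [card24 rfl hv l1 t24_1]
    decide +kernel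
  · rw [card24 rfl hv l2 t24_2]
    decide +kernel
  · rw [card24 rfl hv l3 t24_3]
    decide +kernel
  · rw [card24 rfl hv l4 t24_4]
    decide +kernel
  · rw [card24 rfl hv l5 t24_5]
    decide +kernel
  · rw [card24 rfl hv l6 t24_6]
    decide +kernel
  · rw [card24 rfl hv l7 t24_7]
    decide +kernel
  · rw [card24 rfl hv l8 t24_8]
    decide +kernel
  · rw [card24 rfl hv l9 t24_9]
    decide +kernel
  · rw [card24 rfl hv l10 t24_10]
    decide +kernel
  · rw [card24 rfl hv l11 t24_11]
    decide +kernel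
  · rw [card24 rfl hv l12 t24_12]
    decide +kernel

end Cfsg.Agent.Lib.Helper26.SB
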