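import Mathlib
import Cfsg.Agent.Lib.Helper12.SBInvReps

/-!
# Chunk counts for `M24`, part 0

Generated kernel checks.
-/

set_option autoImplicit false
set_option maxRecDepth 100000

namespace Cfsg.Agent.Lib.Helper12.SBInv

open Cfsg Cfsg.Agent.Lib.helper4 Cfsg.Agent.Lib.Helper12.Golay Cfsg.Agent.Lib.Helper26.SB
open CT


theorem n24_0_0 : cntT (yF24 r24c0) ch0 = 355 := by decide +kernel

theorem n24_0_1 : cntT (yF24 r24c0) ch1 = 355 := by decide +kernel

theorem n24_0_2 : cntT (yF24 r24c0) ch2 = 355 := by decide +kernel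

theorem n24_0_3 : cntT (yF24 r24c0) ch3 = 355 := by decide +kernel

theorem n24_0_4 : cntT (yF24 r24c0) ch4 = 355 := by decide +kernel

theorem n24_0_5 : cntT (yF24 r24c0) ch5 = 355 := by decide +kernel

theorem n24_0_6 : cntT (yF24 r24c0) ch6 = 355 := by decide +kernel

theorem n24_0_7 : cntT (yF24 r24c0) ch7 = 354 := by decide +kernel

theorem n24_1_0 : cntT (yF24 r24c1) ch0 = 10 := by decide +kernel

theorem n24_1_1 : cntT (yF24 r24c1) ch1 = 10 := by decide +kernel

theorem n24_1_2 : cntT (yF24 r24c1) ch2 = 10 := by decide +kernel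

theorem n24_1_3 : cntT (yF24 r24c1) ch3 = 11 := by decide +kernel

theorem n24_1_4 : cntT (yF24 r24c1) ch4 = 10 := by decide +kernel

theorem n24_1_5 : cntT (yF24 r24c1) ch5 = 14 := by decide +kernel

theorem n24_1_6 : cntT (yF24 r24c1) ch6 = 12 := by decide +kernel

theorem n24_1_7 : cntT (yF24 r24c1) ch7 = 12 := by decide +kernel

theorem n24_2_0 : cntT (yF24 r24c2) ch0 = 41 := by decide +kernel

theorem n24_2_1 : cntT (yF24 r24c2) ch1 = 45 := by decide +kernel

theorem n24_2_2 : cntT (yF24 r24c2) ch2 = 50 := by decide +kernel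

theorem n24_2_3 : cntT (yF24 r24c2) ch3 = 47 := by decide +kernel

theorem n24_2_4 : cntT (yF24 r24c2) ch4 = 49 := by decide +kernel

theorem n24_2_5 : cntT (yF24 r24c2) ch5 = 31 := by decide +kernel

theorem n24_2_6 : cntT (yF24 r24c2) ch6 = 16 := by decide +kernel

theorem n24_2_7 : cntT (yF24 r24c2) ch7 = 55 := by decide +kernel

theorem n24_3_0 : cntT (yF24 r24c3) ch0 = 14 := by decide +kernel

theorem n24_3_1 : cntT (yF24 r24c3) ch1 = 15 := by decide +kernel

theorem n24_3_2 : cntT (yF24 r24c3) ch2 = 21 := by decide +kernel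

theorem n24_3_3 : cntT (yF24 r24c3) ch3 = 19 := by decide +kernel

theorem n24_3_4 : cntT (yF24 r24c3) ch4 = 19 := by decide +kernel

theorem n24_3_5 : cntT (yF24 r24c3) ch5 = 23 := by decide +kernel

theorem n24_3_6 : cntT (yF24 r24c3) ch6 = 18 := by decide +kernel

theorem n24_3_7 : cntT (yF24 r24c3) ch7 = 11 := by decide +kernel

theorem n24_4_0 : cntT (yF24 r24c4) ch0 = 22 := by decide +kernel

theorem n24_4_1 : cntT (yF24 r24c4) ch1 = 21 := by decide +kernel

theorem n24_4_2 : cntT (yF24 r24c4) ch2 = 28 := by decide +kernel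

theorem n24_4_3 : cntT (yF24 r24c4) ch3 = 19 := by decide +kernel

theorem n24_4_4 : cntT (yF24 r24c4) ch4 = 26 := by decide +kernel

theorem n24_4_5 : cntT (yF24 r24c4) ch5 = 59 := by decide +kernel

theorem n24_4_6 : cntT (yF24 r24c4) ch6 = 69 := by decide +kernel

theorem n24_4_7 : cntT (yF24 r24c4) ch7 = 28 := by decide +kernel

theorem n24_5_0 : cntT (yF24 r24c5) ch0 = 22 := by decide +kernel

theorem n24_5_1 : cntT (yF24 r24c5) ch1 = 21 := by decide +kernel

theorem n24_5_2 : cntT (yF24 r24c5) ch2 = 28 := by decide +kernel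

theorem n24_5_3 : cntT (yF24 r24c5) ch3 = 19 := by decide +kernel

theorem n24_5_4 : cntT (yF24 r24c5) ch4 = 26 := by decide +kernel

theorem n24_5_5 : cntT (yF24 r24c5) ch5 = 59 := by decide +kernel

theorem n24_5_6 : cntT (yF24 r24c5) ch6 = 69 := by decide +kernel

theorem n24_5_7 : cntT (yF24 r24c5) ch7 = 28 := by decide +kernel

theorem n24_6_0 : cntT (yF24 r24c6) ch0 = 24 := by decide +kernel

theorem n24_6_1 : cntT (yF24 r24c6) ch1 = 29 := by decide +kernel

theorem n24_6_2 : cntT (yF24 r24c6) ch2 = 6 := by decide +kernel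

theorem n24_6_3 : cntT (yF24 r24c6) ch3 = 41 := by decide +kernel

theorem n24_6_4 : cntT (yF24 r24c6) ch4 = 31 := by decide +kernel

theorem n24_6_5 : cntT (yF24 r24c6) ch5 = 30 := by decide +kernel

theorem n24_6_6 : cntT (yF24 r24c6) ch6 = 33 := by decide +kernel

theorem n24_6_7 : cntT (yF24 r24c6) ch7 = 22 := by decide +kernel

theorem n24_7_0 : cntT (yF24 r24c7) ch0 = 39 := by decide +kernel

theorem n24_7_1 : cntT (yF24 r24c7) ch1 = 3 := by decide +kernel

theorem n24_7_2 : cntT (yF24 r24c7) ch2 = 38 := by decide +kernel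

theorem n24_7_3 : cntT (yF24 r24c7) ch3 = 43 := by decide +kernel

theorem n24_7_4 : cntT (yF24 r24c7) ch4 = 68 := by decide +kernel

theorem n24_7_5 : cntT (yF24 r24c7) ch5 = 31 := by decide +kernel

theorem n24_7_6 : cntT (yF24 r24c7) ch6 = 38 := by decide +kernel

theorem n24_7_7 : cntT (yF24 r24c7) ch7 = 10 := by decide +kernel

theorem n24_8_0 : cntT (yF24 r24c8) ch0 = 39 := by decide +kernel

theorem n24_8_1 : cntT (yF24 r24c8) ch1 = 3 := by decide +kernel

theorem n24_8_2 : cntT (yF24 r24c8) ch2 = 38 := by decide +kernel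

theorem n24_8_3 : cntT (yF24 r24c8) ch3 = 43 := by decide +kernel

theorem n24_8_4 : cntT (yF24 r24c8) ch4 = 68 := by decide +kernel

theorem n24_8_5 : cntT (yF24 r24c8) ch5 = 31 := by decide +kernel

theorem n24_8_6 : cntT (yF24 r24c8) ch6 = 38 := by decide +kernel

theorem n24_8_7 : cntT (yF24 r24c8) ch7 = 10 := by decide +kernel

theorem n24_9_0 : cntT (yF24 r24c9) ch0 = 4 := by decide +kernel

theorem n24_9_1 : cntT (yF24 r24c9) ch1 = 64 := by decide +kernel

theorem n24_9_2 : cntT (yF24 r24c9) ch2 = 83 := by decide +kernel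

theorem n24_9_3 : cntT (yF24 r24c9) ch3 = 20 := by decide +kernel

theorem n24_9_4 : cntT (yF24 r24c9) ch4 = 72 := by decide +kernel

theorem n24_9_5 : cntT (yF24 r24c9) ch5 = 70 := by decide +kernel

theorem n24_9_6 : cntT (yF24 r24c9) ch6 = 62 := by decide +kernel

theorem n24_9_7 : cntT (yF24 r24c9) ch7 = 57 := by decide +kernel

theorem n24_10_0 : cntT (yF24 r24c10) ch0 = 4 := by decide +kernel

theorem n24_10_1 : cntT (yF24 r24c10) ch1 = 64 := by decide +kernel

theorem n24_10_2 : cntT (yF24 r24c10) ch2 = 83 := by decide +kernel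

theorem n24_10_3 : cntT (yF24 r24c10) ch3 = 20 := by decide +kernel

theorem n24_10_4 : cntT (yF24 r24c10) ch4 = 72 := by decide +kernel

theorem n24_10_5 : cntT (yF24 r24c10) ch5 = 70 := by decide +kernel

theorem n24_10_6 : cntT (yF24 r24c10) ch6 = 62 := by decide +kernel

theorem n24_10_7 : cntT (yF24 r24c10) ch7 = 57 := by decide +kernel

theorem n24_11_0 : cntT (yF24 r24c11) ch0 = 42 := by decide +kernel

theorem n24_11_1 : cntT (yF24 r24c11) ch1 = 35 := by decide +kernel

theorem n24_11_2 : cntT (yF24 r24c11) ch2 = 7 := by decide +kernel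

theorem n24_11_3 : cntT (yF24 r24c11) ch3 = 44 := by decide +kernel

theorem n24_11_4 : cntT (yF24 r24c11) ch4 = 49 := by decide +kernel

theorem n24_11_5 : cntT (yF24 r24c11) ch5 = 49 := by decide +kernel

theorem n24_11_6 : cntT (yF24 r24c11) ch6 = 30 := by decide +kernel

theorem n24_11_7 : cntT (yF24 r24c11) ch7 = 40 := by decide +kernel

theorem n24_12_0 : cntT (yF24 r24c12) ch0 = 42 := by decide +kernel

theorem n24_12_1 : cntT (yF24 r24c12) ch1 = 35 := by decide +kernel

theorem n24_12_2 : cntT (yF24 r24c12) ch2 = 7 := by decide +kernel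

theorem n24_12_3 : cntT (yF24 r24c12) ch3 = 44 := by decide +kernel

theorem n24_12_4 : cntT (yF24 r24c12) ch4 = 49 := by decide +kernel

theorem n24_12_5 : cntT (yF24 r24c12) ch5 = 49 := by decide +kernel

theorem n24_12_6 : cntT (yF24 r24c12) ch6 = 30 := by decide +kernel

theorem n24_12_7 : cntT (yF24 r24c12) ch7 = 40 := by decide +kernel


end Cfsg.Agent.Lib.Helper12.SBInv
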