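import Mathlib
import Cfsg.Agent.Lib.Helper12.SBInvReps

/-!
# Chunk counts for `M24`, part 1

Generated kernel checks.
-/

set_option autoImplicit false
set_option maxRecDepth 100000

namespace Cfsg.Agent.Lib.Helper12.SBInv

open Cfsg Cfsg.Agent.Lib.helper4 Cfsg.Agent.Lib.Helper12.Golay Cfsg.Agent.Lib.Helper26.SB
open CT


theorem n24_0_8 : cntT (yF24 r24c0) ch8 = 355 := by decide +kernel

theorem n24_0_9 : cntT (yF24 r24c0) ch9 = 355 := by decide +kernel

theorem n24_0_10 : cntT (yF24 r24c0) ch10 = 355 := by decide +kernel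

theorem n24_0_11 : cntT (yF24 r24c0) ch11 = 354 := by decide +kernel

theorem n24_0_12 : cntT (yF24 r24c0) ch12 = 355 := by decide +kernel

theorem n24_0_13 : cntT (yF24 r24c0) ch13 = 355 := by decide +kernel

theorem n24_0_14 : cntT (yF24 r24c0) ch14 = 355 := by decide +kernel

theorem n24_0_15 : cntT (yF24 r24c0) ch15 = 354 := by decide +kernel

theorem n24_1_8 : cntT (yF24 r24c1) ch8 = 10 := by decide +kernel

theorem n24_1_9 : cntT (yF24 r24c1) ch9 = 14 := by decide +kernel

theorem n24_1_10 : cntT (yF24 r24c1) ch10 = 13 := by decide +kernel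

theorem n24_1_11 : cntT (yF24 r24c1) ch11 = 11 := by decide +kernel

theorem n24_1_12 : cntT (yF24 r24c1) ch12 = 11 := by decide +kernel

theorem n24_1_13 : cntT (yF24 r24c1) ch13 = 16 := by decide +kernel

theorem n24_1_14 : cntT (yF24 r24c1) ch14 = 13 := by decide +kernel

theorem n24_1_15 : cntT (yF24 r24c1) ch15 = 8 := by decide +kernel

theorem n24_2_8 : cntT (yF24 r24c2) ch8 = 44 := by decide +kernel

theorem n24_2_9 : cntT (yF24 r24c2) ch9 = 12 := by decide +kernel

theorem n24_2_10 : cntT (yF24 r24c2) ch10 = 31 := by decide +kernel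

theorem n24_2_11 : cntT (yF24 r24c2) ch11 = 41 := by decide +kernel

theorem n24_2_12 : cntT (yF24 r24c2) ch12 = 40 := by decide +kernel

theorem n24_2_13 : cntT (yF24 r24c2) ch13 = 56 := by decide +kernel

theorem n24_2_14 : cntT (yF24 r24c2) ch14 = 42 := by decide +kernel

theorem n24_2_15 : cntT (yF24 r24c2) ch15 = 37 := by decide +kernel

theorem n24_3_8 : cntT (yF24 r24c3) ch8 = 24 := by decide +kernel

theorem n24_3_9 : cntT (yF24 r24c3) ch9 = 12 := by decide +kernel

theorem n24_3_10 : cntT (yF24 r24c3) ch10 = 26 := by decide +kernel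

theorem n24_3_11 : cntT (yF24 r24c3) ch11 = 17 := by decide +kernel

theorem n24_3_12 : cntT (yF24 r24c3) ch12 = 24 := by decide +kernel

theorem n24_3_13 : cntT (yF24 r24c3) ch13 = 18 := by decide +kernel

theorem n24_3_14 : cntT (yF24 r24c3) ch14 = 20 := by decide +kernel

theorem n24_3_15 : cntT (yF24 r24c3) ch15 = 22 := by decide +kernel

theorem n24_4_8 : cntT (yF24 r24c4) ch8 = 23 := by decide +kernel

theorem n24_4_9 : cntT (yF24 r24c4) ch9 = 22 := by decide +kernel

theorem n24_4_10 : cntT (yF24 r24c4) ch10 = 28 := by decide +kernel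

theorem n24_4_11 : cntT (yF24 r24c4) ch11 = 24 := by decide +kernel

theorem n24_4_12 : cntT (yF24 r24c4) ch12 = 25 := by decide +kernel

theorem n24_4_13 : cntT (yF24 r24c4) ch13 = 22 := by decide +kernel

theorem n24_4_14 : cntT (yF24 r24c4) ch14 = 24 := by decide +kernel

theorem n24_4_15 : cntT (yF24 r24c4) ch15 = 22 := by decide +kernel

theorem n24_5_8 : cntT (yF24 r24c5) ch8 = 23 := by decide +kernel

theorem n24_5_9 : cntT (yF24 r24c5) ch9 = 22 := by decide +kernel

theorem n24_5_10 : cntT (yF24 r24c5) ch10 = 28 := by decide +kernel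

theorem n24_5_11 : cntT (yF24 r24c5) ch11 = 24 := by decide +kernel

theorem n24_5_12 : cntT (yF24 r24c5) ch12 = 25 := by decide +kernel

theorem n24_5_13 : cntT (yF24 r24c5) ch13 = 22 := by decide +kernel

theorem n24_5_14 : cntT (yF24 r24c5) ch14 = 24 := by decide +kernel

theorem n24_5_15 : cntT (yF24 r24c5) ch15 = 22 := by decide +kernel

theorem n24_6_8 : cntT (yF24 r24c6) ch8 = 37 := by decide +kernel

theorem n24_6_9 : cntT (yF24 r24c6) ch9 = 43 := by decide +kernel

theorem n24_6_10 : cntT (yF24 r24c6) ch10 = 29 := by decide +kernel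

theorem n24_6_11 : cntT (yF24 r24c6) ch11 = 21 := by decide +kernel

theorem n24_6_12 : cntT (yF24 r24c6) ch12 = 35 := by decide +kernel

theorem n24_6_13 : cntT (yF24 r24c6) ch13 = 33 := by decide +kernel

theorem n24_6_14 : cntT (yF24 r24c6) ch14 = 19 := by decide +kernel

theorem n24_6_15 : cntT (yF24 r24c6) ch15 = 26 := by decide +kernel

theorem n24_7_8 : cntT (yF24 r24c7) ch8 = 20 := by decide +kernel

theorem n24_7_9 : cntT (yF24 r24c7) ch9 = 59 := by decide +kernel

theorem n24_7_10 : cntT (yF24 r24c7) ch10 = 65 := by decide +kernel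

theorem n24_7_11 : cntT (yF24 r24c7) ch11 = 28 := by decide +kernel

theorem n24_7_12 : cntT (yF24 r24c7) ch12 = 39 := by decide +kernel

theorem n24_7_13 : cntT (yF24 r24c7) ch13 = 43 := by decide +kernel

theorem n24_7_14 : cntT (yF24 r24c7) ch14 = 40 := by decide +kernel

theorem n24_7_15 : cntT (yF24 r24c7) ch15 = 35 := by decide +kernel

theorem n24_8_8 : cntT (yF24 r24c8) ch8 = 20 := by decide +kernel

theorem n24_8_9 : cntT (yF24 r24c8) ch9 = 59 := by decide +kernel

theorem n24_8_10 : cntT (yF24 r24c8) ch10 = 65 := by decide +kernel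

theorem n24_8_11 : cntT (yF24 r24c8) ch11 = 28 := by decide +kernel

theorem n24_8_12 : cntT (yF24 r24c8) ch12 = 39 := by decide +kernel

theorem n24_8_13 : cntT (yF24 r24c8) ch13 = 43 := by decide +kernel

theorem n24_8_14 : cntT (yF24 r24c8) ch14 = 40 := by decide +kernel

theorem n24_8_15 : cntT (yF24 r24c8) ch15 = 35 := by decide +kernel

theorem n24_9_8 : cntT (yF24 r24c9) ch8 = 66 := by decide +kernel

theorem n24_9_9 : cntT (yF24 r24c9) ch9 = 60 := by decide +kernel

theorem n24_9_10 : cntT (yF24 r24c9) ch10 = 46 := by decide +kernel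

theorem n24_9_11 : cntT (yF24 r24c9) ch11 = 52 := by decide +kernel

theorem n24_9_12 : cntT (yF24 r24c9) ch12 = 45 := by decide +kernel

theorem n24_9_13 : cntT (yF24 r24c9) ch13 = 61 := by decide +kernel

theorem n24_9_14 : cntT (yF24 r24c9) ch14 = 71 := by decide +kernel

theorem n24_9_15 : cntT (yF24 r24c9) ch15 = 68 := by decide +kernel

theorem n24_10_8 : cntT (yF24 r24c10) ch8 = 66 := by decide +kernel

theorem n24_10_9 : cntT (yF24 r24c10) ch9 = 60 := by decide +kernel

theorem n24_10_10 : cntT (yF24 r24c10) ch10 = 46 := by decide +kernel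

theorem n24_10_11 : cntT (yF24 r24c10) ch11 = 52 := by decide +kernel

theorem n24_10_12 : cntT (yF24 r24c10) ch12 = 45 := by decide +kernel

theorem n24_10_13 : cntT (yF24 r24c10) ch13 = 61 := by decide +kernel

theorem n24_10_14 : cntT (yF24 r24c10) ch14 = 71 := by decide +kernel

theorem n24_10_15 : cntT (yF24 r24c10) ch15 = 68 := by decide +kernel

theorem n24_11_8 : cntT (yF24 r24c11) ch8 = 62 := by decide +kernel

theorem n24_11_9 : cntT (yF24 r24c11) ch9 = 52 := by decide +kernel

theorem n24_11_10 : cntT (yF24 r24c11) ch10 = 32 := by decide +kernel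

theorem n24_11_11 : cntT (yF24 r24c11) ch11 = 38 := by decide +kernel

theorem n24_11_12 : cntT (yF24 r24c11) ch12 = 57 := by decide +kernel

theorem n24_11_13 : cntT (yF24 r24c11) ch13 = 30 := by decide +kernel

theorem n24_11_14 : cntT (yF24 r24c11) ch14 = 38 := by decide +kernel

theorem n24_11_15 : cntT (yF24 r24c11) ch15 = 34 := by decide +kernel

theorem n24_12_8 : cntT (yF24 r24c12) ch8 = 62 := by decide +kernel

theorem n24_12_9 : cntT (yF24 r24c12) ch9 = 52 := by decide +kernel

theorem n24_12_10 : cntT (yF24 r24c12) ch10 = 32 := by decide +kernel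

theorem n24_12_11 : cntT (yF24 r24c12) ch11 = 38 := by decide +kernel

theorem n24_12_12 : cntT (yF24 r24c12) ch12 = 57 := by decide +kernel

theorem n24_12_13 : cntT (yF24 r24c12) ch13 = 30 := by decide +kernel

theorem n24_12_14 : cntT (yF24 r24c12) ch14 = 38 := by decide +kernel

theorem n24_12_15 : cntT (yF24 r24c12) ch15 = 34 := by decide +kernel


end Cfsg.Agent.Lib.Helper12.SBInv
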