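import Mathlib
import Cfsg.Agent.Lib.Helper12.SBInvReps

/-!
# Chunk counts for `M24`, part 2

Generated kernel checks.
-/

set_option autoImplicit false
set_option maxRecDepth 100000

namespace Cfsg.Agent.Lib.Helper12.SBInv

open Cfsg Cfsg.Agent.Lib.helper4 Cfsg.Agent.Lib.Helper12.Golay Cfsg.Agent.Lib.Helper26.SB
open CT


theorem n24_0_16 : cntT (yF24 r24c0) ch16 = 355 := by decide +kernel

theorem n24_0_17 : cntT (yF24 r24c0) ch17 = 355 := by decide +kernel

theorem n24_0_18 : cntT (yF24 r24c0) ch18 = 355 := by decide +kernel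

theorem n24_0_19 : cntT (yF24 r24c0) ch19 = 355 := by decide +kernel

theorem n24_0_20 : cntT (yF24 r24c0) ch20 = 355 := by decide +kernel

theorem n24_0_21 : cntT (yF24 r24c0) ch21 = 355 := by decide +kernel

theorem n24_0_22 : cntT (yF24 r24c0) ch22 = 355 := by decide +kernel

theorem n24_0_23 : cntT (yF24 r24c0) ch23 = 354 := by decide +kernel

theorem n24_1_16 : cntT (yF24 r24c1) ch16 = 18 := by decide +kernel

theorem n24_1_17 : cntT (yF24 r24c1) ch17 = 13 := by decide +kernel

theorem n24_1_18 : cntT (yF24 r24c1) ch18 = 17 := by decide +kernel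

theorem n24_1_19 : cntT (yF24 r24c1) ch19 = 6 := by decide +kernel

theorem n24_1_20 : cntT (yF24 r24c1) ch20 = 12 := by decide +kernel

theorem n24_1_21 : cntT (yF24 r24c1) ch21 = 14 := by decide +kernel

theorem n24_1_22 : cntT (yF24 r24c1) ch22 = 12 := by decide +kernel

theorem n24_1_23 : cntT (yF24 r24c1) ch23 = 18 := by decide +kernel

theorem n24_2_16 : cntT (yF24 r24c2) ch16 = 47 := by decide +kernel

theorem n24_2_17 : cntT (yF24 r24c2) ch17 = 43 := by decide +kernel

theorem n24_2_18 : cntT (yF24 r24c2) ch18 = 42 := by decide +kernel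

theorem n24_2_19 : cntT (yF24 r24c2) ch19 = 46 := by decide +kernel

theorem n24_2_20 : cntT (yF24 r24c2) ch20 = 47 := by decide +kernel

theorem n24_2_21 : cntT (yF24 r24c2) ch21 = 46 := by decide +kernel

theorem n24_2_22 : cntT (yF24 r24c2) ch22 = 47 := by decide +kernel

theorem n24_2_23 : cntT (yF24 r24c2) ch23 = 43 := by decide +kernel

theorem n24_3_16 : cntT (yF24 r24c3) ch16 = 19 := by decide +kernel

theorem n24_3_17 : cntT (yF24 r24c3) ch17 = 1 := by decide +kernel

theorem n24_3_18 : cntT (yF24 r24c3) ch18 = 7 := by decide +kernel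

theorem n24_3_19 : cntT (yF24 r24c3) ch19 = 17 := by decide +kernel

theorem n24_3_20 : cntT (yF24 r24c3) ch20 = 20 := by decide +kernel

theorem n24_3_21 : cntT (yF24 r24c3) ch21 = 25 := by decide +kernel

theorem n24_3_22 : cntT (yF24 r24c3) ch22 = 18 := by decide +kernel

theorem n24_3_23 : cntT (yF24 r24c3) ch23 = 15 := by decide +kernel

theorem n24_4_16 : cntT (yF24 r24c4) ch16 = 49 := by decide +kernel

theorem n24_4_17 : cntT (yF24 r24c4) ch17 = 76 := by decide +kernel

theorem n24_4_18 : cntT (yF24 r24c4) ch18 = 28 := by decide +kernel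

theorem n24_4_19 : cntT (yF24 r24c4) ch19 = 20 := by decide +kernel

theorem n24_4_20 : cntT (yF24 r24c4) ch20 = 26 := by decide +kernel

theorem n24_4_21 : cntT (yF24 r24c4) ch21 = 9 := by decide +kernel

theorem n24_4_22 : cntT (yF24 r24c4) ch22 = 0 := by decide +kernel

theorem n24_4_23 : cntT (yF24 r24c4) ch23 = 0 := by decide +kernel

theorem n24_5_16 : cntT (yF24 r24c5) ch16 = 49 := by decide +kernel

theorem n24_5_17 : cntT (yF24 r24c5) ch17 = 76 := by decide +kernel

theorem n24_5_18 : cntT (yF24 r24c5) ch18 = 28 := by decide +kernel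

theorem n24_5_19 : cntT (yF24 r24c5) ch19 = 20 := by decide +kernel

theorem n24_5_20 : cntT (yF24 r24c5) ch20 = 26 := by decide +kernel

theorem n24_5_21 : cntT (yF24 r24c5) ch21 = 9 := by decide +kernel

theorem n24_5_22 : cntT (yF24 r24c5) ch22 = 0 := by decide +kernel

theorem n24_5_23 : cntT (yF24 r24c5) ch23 = 0 := by decide +kernel

theorem n24_6_16 : cntT (yF24 r24c6) ch16 = 26 := by decide +kernel

theorem n24_6_17 : cntT (yF24 r24c6) ch17 = 27 := by decide +kernel

theorem n24_6_18 : cntT (yF24 r24c6) ch18 = 21 := by decide +kernel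

theorem n24_6_19 : cntT (yF24 r24c6) ch19 = 16 := by decide +kernel

theorem n24_6_20 : cntT (yF24 r24c6) ch20 = 27 := by decide +kernel

theorem n24_6_21 : cntT (yF24 r24c6) ch21 = 28 := by decide +kernel

theorem n24_6_22 : cntT (yF24 r24c6) ch22 = 31 := by decide +kernel

theorem n24_6_23 : cntT (yF24 r24c6) ch23 = 15 := by decide +kernel

theorem n24_7_16 : cntT (yF24 r24c7) ch16 = 41 := by decide +kernel

theorem n24_7_17 : cntT (yF24 r24c7) ch17 = 39 := by decide +kernel

theorem n24_7_18 : cntT (yF24 r24c7) ch18 = 35 := by decide +kernel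

theorem n24_7_19 : cntT (yF24 r24c7) ch19 = 34 := by decide +kernel

theorem n24_7_20 : cntT (yF24 r24c7) ch20 = 37 := by decide +kernel

theorem n24_7_21 : cntT (yF24 r24c7) ch21 = 47 := by decide +kernel

theorem n24_7_22 : cntT (yF24 r24c7) ch22 = 51 := by decide +kernel

theorem n24_7_23 : cntT (yF24 r24c7) ch23 = 38 := by decide +kernel

theorem n24_8_16 : cntT (yF24 r24c8) ch16 = 41 := by decide +kernel

theorem n24_8_17 : cntT (yF24 r24c8) ch17 = 39 := by decide +kernel

theorem n24_8_18 : cntT (yF24 r24c8) ch18 = 35 := by decide +kernel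

theorem n24_8_19 : cntT (yF24 r24c8) ch19 = 34 := by decide +kernel

theorem n24_8_20 : cntT (yF24 r24c8) ch20 = 37 := by decide +kernel

theorem n24_8_21 : cntT (yF24 r24c8) ch21 = 47 := by decide +kernel

theorem n24_8_22 : cntT (yF24 r24c8) ch22 = 51 := by decide +kernel

theorem n24_8_23 : cntT (yF24 r24c8) ch23 = 38 := by decide +kernel

theorem n24_9_16 : cntT (yF24 r24c9) ch16 = 67 := by decide +kernel

theorem n24_9_17 : cntT (yF24 r24c9) ch17 = 87 := by decide +kernel

theorem n24_9_18 : cntT (yF24 r24c9) ch18 = 83 := by decide +kernel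

theorem n24_9_19 : cntT (yF24 r24c9) ch19 = 62 := by decide +kernel

theorem n24_9_20 : cntT (yF24 r24c9) ch20 = 57 := by decide +kernel

theorem n24_9_21 : cntT (yF24 r24c9) ch21 = 35 := by decide +kernel

theorem n24_9_22 : cntT (yF24 r24c9) ch22 = 69 := by decide +kernel

theorem n24_9_23 : cntT (yF24 r24c9) ch23 = 57 := by decide +kernel

theorem n24_10_16 : cntT (yF24 r24c10) ch16 = 67 := by decide +kernel

theorem n24_10_17 : cntT (yF24 r24c10) ch17 = 87 := by decide +kernel

theorem n24_10_18 : cntT (yF24 r24c10) ch18 = 83 := by decide +kernel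

theorem n24_10_19 : cntT (yF24 r24c10) ch19 = 62 := by decide +kernel

theorem n24_10_20 : cntT (yF24 r24c10) ch20 = 57 := by decide +kernel

theorem n24_10_21 : cntT (yF24 r24c10) ch21 = 35 := by decide +kernel

theorem n24_10_22 : cntT (yF24 r24c10) ch22 = 69 := by decide +kernel

theorem n24_10_23 : cntT (yF24 r24c10) ch23 = 57 := by decide +kernel

theorem n24_11_16 : cntT (yF24 r24c11) ch16 = 25 := by decide +kernel

theorem n24_11_17 : cntT (yF24 r24c11) ch17 = 10 := by decide +kernel

theorem n24_11_18 : cntT (yF24 r24c11) ch18 = 40 := by decide +kernel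

theorem n24_11_19 : cntT (yF24 r24c11) ch19 = 44 := by decide +kernel

theorem n24_11_20 : cntT (yF24 r24c11) ch20 = 42 := by decide +kernel

theorem n24_11_21 : cntT (yF24 r24c11) ch21 = 28 := by decide +kernel

theorem n24_11_22 : cntT (yF24 r24c11) ch22 = 23 := by decide +kernel

theorem n24_11_23 : cntT (yF24 r24c11) ch23 = 41 := by decide +kernel

theorem n24_12_16 : cntT (yF24 r24c12) ch16 = 25 := by decide +kernel

theorem n24_12_17 : cntT (yF24 r24c12) ch17 = 10 := by decide +kernel

theorem n24_12_18 : cntT (yF24 r24c12) ch18 = 40 := by decide +kernel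

theorem n24_12_19 : cntT (yF24 r24c12) ch19 = 44 := by decide +kernel

theorem n24_12_20 : cntT (yF24 r24c12) ch20 = 42 := by decide +kernel

theorem n24_12_21 : cntT (yF24 r24c12) ch21 = 28 := by decide +kernel

theorem n24_12_22 : cntT (yF24 r24c12) ch22 = 23 := by decide +kernel

theorem n24_12_23 : cntT (yF24 r24c12) ch23 = 41 := by decide +kernel


end Cfsg.Agent.Lib.Helper12.SBInv
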