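import Mathlib
import Cfsg.Agent.Lib.Helper12.SBInvReps

/-!
# Chunk counts for `M24`, part 3

Generated kernel checks.
-/

set_option autoImplicit false
set_option maxRecDepth 100000

namespace Cfsg.Agent.Lib.Helper12.SBInv

open Cfsg Cfsg.Agent.Lib.helper4 Cfsg.Agent.Lib.Helper12.Golay Cfsg.Agent.Lib.Helper26.SB
open CT


theorem n24_0_24 : cntT (yF24 r24c0) ch24 = 355 := by decide +kernel

theorem n24_0_25 : cntT (yF24 r24c0) ch25 = 355 := by decide +kernel

theorem n24_0_26 : cntT (yF24 r24c0) ch26 = 355 := by decide +kernel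

theorem n24_0_27 : cntT (yF24 r24c0) ch27 = 354 := by decide +kernel

theorem n24_0_28 : cntT (yF24 r24c0) ch28 = 355 := by decide +kernel

theorem n24_0_29 : cntT (yF24 r24c0) ch29 = 355 := by decide +kernel

theorem n24_0_30 : cntT (yF24 r24c0) ch30 = 355 := by decide +kernel

theorem n24_0_31 : cntT (yF24 r24c0) ch31 = 354 := by decide +kernel

theorem n24_1_24 : cntT (yF24 r24c1) ch24 = 11 := by decide +kernel

theorem n24_1_25 : cntT (yF24 r24c1) ch25 = 16 := by decide +kernel

theorem n24_1_26 : cntT (yF24 r24c1) ch26 = 19 := by decide +kernel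

theorem n24_1_27 : cntT (yF24 r24c1) ch27 = 19 := by decide +kernel

theorem n24_1_28 : cntT (yF24 r24c1) ch28 = 16 := by decide +kernel

theorem n24_1_29 : cntT (yF24 r24c1) ch29 = 20 := by decide +kernel

theorem n24_1_30 : cntT (yF24 r24c1) ch30 = 21 := by decide +kernel

theorem n24_1_31 : cntT (yF24 r24c1) ch31 = 29 := by decide +kernel

theorem n24_2_24 : cntT (yF24 r24c2) ch24 = 28 := by decide +kernel

theorem n24_2_25 : cntT (yF24 r24c2) ch25 = 41 := by decide +kernel

theorem n24_2_26 : cntT (yF24 r24c2) ch26 = 34 := by decide +kernel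

theorem n24_2_27 : cntT (yF24 r24c2) ch27 = 44 := by decide +kernel

theorem n24_2_28 : cntT (yF24 r24c2) ch28 = 47 := by decide +kernel

theorem n24_2_29 : cntT (yF24 r24c2) ch29 = 36 := by decide +kernel

theorem n24_2_30 : cntT (yF24 r24c2) ch30 = 52 := by decide +kernel

theorem n24_2_31 : cntT (yF24 r24c2) ch31 = 40 := by decide +kernel

theorem n24_3_24 : cntT (yF24 r24c3) ch24 = 9 := by decide +kernel

theorem n24_3_25 : cntT (yF24 r24c3) ch25 = 23 := by decide +kernel

theorem n24_3_26 : cntT (yF24 r24c3) ch26 = 33 := by decide +kernel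

theorem n24_3_27 : cntT (yF24 r24c3) ch27 = 25 := by decide +kernel

theorem n24_3_28 : cntT (yF24 r24c3) ch28 = 24 := by decide +kernel

theorem n24_3_29 : cntT (yF24 r24c3) ch29 = 18 := by decide +kernel

theorem n24_3_30 : cntT (yF24 r24c3) ch30 = 32 := by decide +kernel

theorem n24_3_31 : cntT (yF24 r24c3) ch31 = 40 := by decide +kernel

theorem n24_4_24 : cntT (yF24 r24c4) ch24 = 0 := by decide +kernel

theorem n24_4_25 : cntT (yF24 r24c4) ch25 = 0 := by decide +kernel

theorem n24_4_26 : cntT (yF24 r24c4) ch26 = 0 := by decide +kernel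

theorem n24_4_27 : cntT (yF24 r24c4) ch27 = 0 := by decide +kernel

theorem n24_4_28 : cntT (yF24 r24c4) ch28 = 0 := by decide +kernel

theorem n24_4_29 : cntT (yF24 r24c4) ch29 = 0 := by decide +kernel

theorem n24_4_30 : cntT (yF24 r24c4) ch30 = 0 := by decide +kernel

theorem n24_4_31 : cntT (yF24 r24c4) ch31 = 0 := by decide +kernel

theorem n24_5_24 : cntT (yF24 r24c5) ch24 = 0 := by decide +kernel

theorem n24_5_25 : cntT (yF24 r24c5) ch25 = 0 := by decide +kernel

theorem n24_5_26 : cntT (yF24 r24c5) ch26 = 0 := by decide +kernel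

theorem n24_5_27 : cntT (yF24 r24c5) ch27 = 0 := by decide +kernel

theorem n24_5_28 : cntT (yF24 r24c5) ch28 = 0 := by decide +kernel

theorem n24_5_29 : cntT (yF24 r24c5) ch29 = 0 := by decide +kernel

theorem n24_5_30 : cntT (yF24 r24c5) ch30 = 0 := by decide +kernel

theorem n24_5_31 : cntT (yF24 r24c5) ch31 = 0 := by decide +kernel

theorem n24_6_24 : cntT (yF24 r24c6) ch24 = 39 := by decide +kernel

theorem n24_6_25 : cntT (yF24 r24c6) ch25 = 36 := by decide +kernel

theorem n24_6_26 : cntT (yF24 r24c6) ch26 = 33 := by decide +kernel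

theorem n24_6_27 : cntT (yF24 r24c6) ch27 = 23 := by decide +kernel

theorem n24_6_28 : cntT (yF24 r24c6) ch28 = 30 := by decide +kernel

theorem n24_6_29 : cntT (yF24 r24c6) ch29 = 32 := by decide +kernel

theorem n24_6_30 : cntT (yF24 r24c6) ch30 = 35 := by decide +kernel

theorem n24_6_31 : cntT (yF24 r24c6) ch31 = 40 := by decide +kernel

theorem n24_7_24 : cntT (yF24 r24c7) ch24 = 35 := by decide +kernel

theorem n24_7_25 : cntT (yF24 r24c7) ch25 = 44 := by decide +kernel

theorem n24_7_26 : cntT (yF24 r24c7) ch26 = 24 := by decide +kernel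

theorem n24_7_27 : cntT (yF24 r24c7) ch27 = 52 := by decide +kernel

theorem n24_7_28 : cntT (yF24 r24c7) ch28 = 27 := by decide +kernel

theorem n24_7_29 : cntT (yF24 r24c7) ch29 = 41 := by decide +kernel

theorem n24_7_30 : cntT (yF24 r24c7) ch30 = 45 := by decide +kernel

theorem n24_7_31 : cntT (yF24 r24c7) ch31 = 47 := by decide +kernel

theorem n24_8_24 : cntT (yF24 r24c8) ch24 = 35 := by decide +kernel

theorem n24_8_25 : cntT (yF24 r24c8) ch25 = 44 := by decide +kernel

theorem n24_8_26 : cntT (yF24 r24c8) ch26 = 24 := by decide +kernel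

theorem n24_8_27 : cntT (yF24 r24c8) ch27 = 52 := by decide +kernel

theorem n24_8_28 : cntT (yF24 r24c8) ch28 = 27 := by decide +kernel

theorem n24_8_29 : cntT (yF24 r24c8) ch29 = 41 := by decide +kernel

theorem n24_8_30 : cntT (yF24 r24c8) ch30 = 45 := by decide +kernel

theorem n24_8_31 : cntT (yF24 r24c8) ch31 = 47 := by decide +kernel

theorem n24_9_24 : cntT (yF24 r24c9) ch24 = 76 := by decide +kernel

theorem n24_9_25 : cntT (yF24 r24c9) ch25 = 68 := by decide +kernel

theorem n24_9_26 : cntT (yF24 r24c9) ch26 = 70 := by decide +kernel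

theorem n24_9_27 : cntT (yF24 r24c9) ch27 = 65 := by decide +kernel

theorem n24_9_28 : cntT (yF24 r24c9) ch28 = 51 := by decide +kernel

theorem n24_9_29 : cntT (yF24 r24c9) ch29 = 67 := by decide +kernel

theorem n24_9_30 : cntT (yF24 r24c9) ch30 = 57 := by decide +kernel

theorem n24_9_31 : cntT (yF24 r24c9) ch31 = 52 := by decide +kernel

theorem n24_10_24 : cntT (yF24 r24c10) ch24 = 76 := by decide +kernel

theorem n24_10_25 : cntT (yF24 r24c10) ch25 = 68 := by decide +kernel

theorem n24_10_26 : cntT (yF24 r24c10) ch26 = 70 := by decide +kernel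

theorem n24_10_27 : cntT (yF24 r24c10) ch27 = 65 := by decide +kernel

theorem n24_10_28 : cntT (yF24 r24c10) ch28 = 51 := by decide +kernel

theorem n24_10_29 : cntT (yF24 r24c10) ch29 = 67 := by decide +kernel

theorem n24_10_30 : cntT (yF24 r24c10) ch30 = 57 := by decide +kernel

theorem n24_10_31 : cntT (yF24 r24c10) ch31 = 52 := by decide +kernel

theorem n24_11_24 : cntT (yF24 r24c11) ch24 = 66 := by decide +kernel

theorem n24_11_25 : cntT (yF24 r24c11) ch25 = 46 := by decide +kernel

theorem n24_11_26 : cntT (yF24 r24c11) ch26 = 48 := by decide +kernel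

theorem n24_11_27 : cntT (yF24 r24c11) ch27 = 42 := by decide +kernel

theorem n24_11_28 : cntT (yF24 r24c11) ch28 = 28 := by decide +kernel

theorem n24_11_29 : cntT (yF24 r24c11) ch29 = 38 := by decide +kernel

theorem n24_11_30 : cntT (yF24 r24c11) ch30 = 40 := by decide +kernel

theorem n24_11_31 : cntT (yF24 r24c11) ch31 = 40 := by decide +kernel

theorem n24_12_24 : cntT (yF24 r24c12) ch24 = 66 := by decide +kernel

theorem n24_12_25 : cntT (yF24 r24c12) ch25 = 46 := by decide +kernel

theorem n24_12_26 : cntT (yF24 r24c12) ch26 = 48 := by decide +kernel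

theorem n24_12_27 : cntT (yF24 r24c12) ch27 = 42 := by decide +kernel

theorem n24_12_28 : cntT (yF24 r24c12) ch28 = 28 := by decide +kernel

theorem n24_12_29 : cntT (yF24 r24c12) ch29 = 38 := by decide +kernel

theorem n24_12_30 : cntT (yF24 r24c12) ch30 = 40 := by decide +kernel

theorem n24_12_31 : cntT (yF24 r24c12) ch31 = 40 := by decide +kernel


end Cfsg.Agent.Lib.Helper12.SBInv
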