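import Mathlib
import Cfsg.Agent.Lib.helper17.SLP.Defs
import Cfsg.Agent.Lib.helper17.SL3.Defs
import Cfsg.Agent.Lib.Helper29.SL3A3
import Cfsg.Agent.Lib.helper15.SL3A5
import Cfsg.Agent.Lib.Helper9.SL3M1
import Cfsg.Agent.Lib.Helper25.SL3M2
import Cfsg.Agent.Lib.Helper12.SL3A6core

/-!
# Project SL3 (S2287), row A6 (verbatim): the A-part of the presentation of `SL₃(F)` (helper12).
-/

set_option autoImplicit false

namespace Cfsg.Agent.Lib.helper17.SL3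

open Cfsg.Agent.Lib.helper17.SLP
open Polynomial

universe u v

theorem ascheme3 {F : Type u} [Field F] [Fintype F] (p : ℕ) [Fact p.Prime] [CharP F p] (ζ : Fˣ)
    (hζ : ∀ y : Fˣ, y ∈ Subgroup.zpowers ζ) :
    ∃ A : List (FreeGroup (Fin 4)), A.length ≤ 3 ∧ (Fintype.card F < p ^ 3 → A.length ≤ 2) ∧
      (∀ r ∈ A, ev4 (xM3 (1 : F)) (dM3 ζ) wM3 cM3 r = 1) ∧
      ∀ (G : Type) [Group G] (u d w c : G), (∀ r ∈ A, ev4 u d w c r = 1) → Commute u (cj d u 1) →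
        ∃ x : F → G, (∀ s t, x (s + t) = x s * x t) ∧ (∀ t, d * x t * d⁻¹ = x ((ζ : F) * t)) ∧ x 1 = u :=
  sl3a6_core p ζ (fun hq => exists_k_gen hq ζ hζ)
    (fun G _ u d a1 a2 a4 a3 => exists_x3 p ζ hζ u d a1 a2 a4 a3)
    xM3_mul xM3_zero xM3_pow cj_M3 (fun s f => pw_M3 p s f)

end Cfsg.Agent.Lib.helper17.SL3
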