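import Mathlib
import Cfsg.Agent.Lib.helper17.SLP.Defs
import Cfsg.Agent.Lib.helper17.SL3.Defs
import Cfsg.Agent.Lib.Helper12.SL3A6core

/-!
# Project SL3 (S2287), row P2 (verbatim): the word lists evaluated (helper12).
-/

set_option autoImplicit false

namespace Cfsg.Agent.Lib.helper17.SL3

open Cfsg.Agent.Lib.helper17.SLP
open Polynomial

universe u v

theorem ev4_wordsA2 {G : Type*} [Group G] (u d w c : G) (p : ℕ) (m : (ZMod p)[X]) :
    (∀ r ∈ wordsA2 p m, ev4 u d w c r = 1) ↔ (u ^ p = 1 ∧ pw p d u 1 m = 1) :=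
  sl3a6_ev2 u d w c p m

theorem ev4_wordsA3 {G : Type*} [Group G] (u d w c : G) (p : ℕ) (k : ℤ) (m : (ZMod p)[X]) :
    (∀ r ∈ wordsA3 p k m, ev4 u d w c r = 1) ↔
      (u ^ p = 1 ∧ cj d u k = cj d u 1 * u ∧ pw p d u 1 m = 1) :=
  sl3a6_ev3 u d w c p k m

theorem ev4_wordsS {G : Type*} [Group G] (u d w c : G) :
    (∀ r ∈ wordsS, ev4 u d w c r = 1) ↔
      (relK1 u w = 1 ∧ c ^ 3 = 1 ∧ relE2 w c = 1 ∧ relT1 d c = 1 ∧ relT2 d c = 1 ∧ relTw d w c = 1 ∧
        relT3 u d c = 1 ∧ relR1 u w c = 1 ∧ relRu u w c = 1 ∧ relR2 u d w c = 1 ∧ relR3 u d w c = 1) := by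
  simp only [wordsS, List.forall_mem_cons, List.not_mem_nil, false_imp_iff, implies_true,
    and_true, map_pow, map_relK1, map_relE2, map_relT1, map_relT2, map_relTw, map_relT3,
    map_relR1, map_relRu, map_relR2, map_relR3, ev4_qU, ev4_qD, ev4_qW, ev4_qC]

theorem ev4_wordX {G : Type*} [Group G] (u d w c : G) : ev4 u d w c wordX = relRx u d w c := by
  simp only [wordX, map_relRx, ev4_qU, ev4_qD, ev4_qW, ev4_qC]

end Cfsg.Agent.Lib.helper17.SL3
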