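import Mathlib
import Cfsg.Agent.Lib.Helper1.SLN.Defs
import Cfsg.Agent.Lib.Helper12.SL7MG5core
import Cfsg.Agent.Lib.helper4.SL7MG0

/-!
# Project SL7 (designer helper1), row MG5 verbatim (helper12): `alphaM_rho`
-/

set_option autoImplicit false

namespace Cfsg.Agent.Lib.Helper1.SLN

open Matrix Equiv
open Cfsg.Agent.Lib.helper17.SLP

universe u v

section MG

variable {F : Type u} [Field F]

theorem alphaM_rho (M : ℕ) (m m' : Matrix.SpecialLinearGroup (Fin 2) F) :
    Commute (betaM M (emb23 m)) (alphaM (rho M) * betaM M (emb23 m') * (alphaM (rho M))⁻¹) :=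
  slnmg5_core M (fun σ i j h t => alphaM_conj_tv σ i j h t)
    (fun a b h t => betaM_tv M a b h t) m m'

end MG

end Cfsg.Agent.Lib.Helper1.SLN
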