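import Mathlib
import Cfsg.Agent.Lib.Helper1.SLK.Defs
import Cfsg.Agent.Lib.Helper1.SLKR1
import Cfsg.Agent.Lib.Helper19.GLKL

/-!
# Project SLK (S2479), row L4 (core): `q^(n-1) < k(SL_n(q))` from the statement of the row L3
(a unipotent element with characteristic polynomial `(X-1)^n` not conjugate to `1`) as a
hypothesis (helper12).  Rows L1, L2 are cited from `Helper1.SLKR1`.
-/

set_option autoImplicit false

namespace Cfsg.Agent.Lib.Helper1.SLK

open Polynomial
open Cfsg.Agent.Lib.Helper29.GLK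

universe u

/-- L4 with the statement of L3 as a hypothesis. -/
theorem slkl4_core {F : Type u} [Field F] [Fintype F] (n : ℕ) (hn : 2 ≤ n)
    (hL3 : ∃ t : Matrix.SpecialLinearGroup (Fin n) F,
      (t : Matrix (Fin n) (Fin n) F).charpoly = (X - 1) ^ n ∧
        ¬ IsConj (1 : Matrix.SpecialLinearGroup (Fin n) F) t) :
    Fintype.card F ^ (n - 1) <
      Nat.card (ConjClasses (Matrix.SpecialLinearGroup (Fin n) F)) := by
  classical
  obtain ⟨t, ht, hnc⟩ := hL3
  have hn1 : 1 ≤ n := by omega
  let u : Fˣ := (-1) ^ n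
  have hu : ((u : Fˣ) : F) = (-1) ^ n := by simp [u]
  have hex : ∀ c : Fin (n - 1) → F, ∃ x : Matrix.SpecialLinearGroup (Fin n) F,
      (x : Matrix (Fin n) (Fin n) F).charpoly = glkL_poly n (u, c) := fun c =>
    exists_sl_charpoly n _ (glkL_poly_monic n hn1 _) (glkL_poly_natDegree n hn1 _)
      (by rw [glkL_poly_coeff_zero n hn1]; exact hu)
  choose γ hγ using hex
  -- the characteristic polynomial of a class
  let Ψ : ConjClasses (Matrix.SpecialLinearGroup (Fin n) F) → F[X] :=
    Quotient.lift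
      (fun x : Matrix.SpecialLinearGroup (Fin n) F => (x : Matrix (Fin n) (Fin n) F).charpoly)
      (fun a b h => sl_charpoly_eq_of_isConj a b h)
  have hΨ : ∀ x : Matrix.SpecialLinearGroup (Fin n) F,
      Ψ (ConjClasses.mk x) = (x : Matrix (Fin n) (Fin n) F).charpoly := fun x => rfl
  let Ψ' : ConjClasses (Matrix.SpecialLinearGroup (Fin n) F) → Set.range Ψ :=
    fun c => ⟨Ψ c, c, rfl⟩
  have hsurj : Function.Surjective Ψ' := by
    rintro ⟨p, c, rfl⟩
    exact ⟨c, rfl⟩
  have hninj : ¬ Function.Injective Ψ' := by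
    intro hinj
    have h1 : Ψ' (ConjClasses.mk 1) = Ψ' (ConjClasses.mk t) := by
      apply Subtype.ext
      show Ψ (ConjClasses.mk 1) = Ψ (ConjClasses.mk t)
      rw [hΨ, hΨ, ht, Matrix.SpecialLinearGroup.coe_one, Matrix.charpoly_one, Fintype.card_fin]
    exact hnc (ConjClasses.mk_eq_mk_iff_isConj.mp (hinj h1))
  have : Finite (ConjClasses (Matrix.SpecialLinearGroup (Fin n) F)) := inferInstance
  have : Fintype (ConjClasses (Matrix.SpecialLinearGroup (Fin n) F)) := Fintype.ofFinite _
  have : Finite (Set.range Ψ) := Set.finite_range Ψ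
  have : Fintype (Set.range Ψ) := Fintype.ofFinite _
  have hlt : Fintype.card (Set.range Ψ) <
      Fintype.card (ConjClasses (Matrix.SpecialLinearGroup (Fin n) F)) :=
    Fintype.card_lt_of_surjective_not_injective Ψ' hsurj hninj
  -- the `q^(n-1)` polynomials in the range
  let Φ : (Fin (n - 1) → F) → Set.range Ψ :=
    fun c => ⟨glkL_poly n (u, c), ConjClasses.mk (γ c), by rw [hΨ, hγ]⟩
  have hΦ : Function.Injective Φ := by
    intro c c' h
    have h1 : glkL_poly n (u, c) = glkL_poly n (u, c') := congrArg Subtype.val h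
    have h2 := glkL_poly_injective n hn1 h1
    exact (Prod.ext_iff.mp h2).2
  have hle : Fintype.card (Fin (n - 1) → F) ≤ Fintype.card (Set.range Ψ) :=
    Fintype.card_le_of_injective Φ hΦ
  rw [Fintype.card_fun, Fintype.card_fin] at hle
  rw [Nat.card_eq_fintype_card]
  exact lt_of_le_of_lt hle hlt

end Cfsg.Agent.Lib.Helper1.SLK
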