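import Mathlib
import Cfsg.Agent.Lib.Helper1.SLK.Defs
import Cfsg.Agent.Lib.helper7.SLKL3
import Cfsg.Agent.Lib.Helper12.SLKL4core

/-!
# Project SLK (S2479), row L4 (verbatim): `q^(n-1) < k(SL_n(q))` (helper12).
-/

set_option autoImplicit false

namespace Cfsg.Agent.Lib.Helper1.SLK

open Polynomial
open Cfsg.Agent.Lib.Helper29.GLK

universe u

theorem lower {F : Type u} [Field F] [Fintype F] (n : ℕ) (hn : 2 ≤ n) :
    Fintype.card F ^ (n - 1) <
      Nat.card (ConjClasses (Matrix.SpecialLinearGroup (Fin n) F)) :=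
  slkl4_core n hn (exists_unipotent n hn)

end Cfsg.Agent.Lib.Helper1.SLK
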