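import Mathlib
import Cfsg.Agent.Lib.helper17.SLP.Defs
import Cfsg.Agent.Lib.helper17.SLN.Defs

/-!
# Project SLN (designer helper17), row D1 core (helper12): the `SL₂`s of two disjoint pairs commute
-/

set_option autoImplicit false

namespace Cfsg.Agent.Lib.helper17.SLN

open Cfsg.Agent.Lib.helper17.SLP

universe u v w

section D

variable {F : Type u} [Field F] {ι : Type w} [Fintype ι] [DecidableEq ι] {G : Type v} [Group G]

/-- `swM` is an involution (the statement of row S1 `swM_swM`, own name). -/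
theorem slnd1_swM_swM (m : Matrix.SpecialLinearGroup (Fin 2) F) : swM (swM m) = m := by
  apply Subtype.ext
  ext a b
  fin_cases a <;> fin_cases b <;> rfl

/-- D1 core: `comm_disj` from the statements of A4 (`exists_move4` at `i j k l`), E3 (`phiR_conj`) and E5 (`phiR_swap`). -/
theorem slnd1_core (p : Pts ι) (ζ : Fˣ) (ν : alternatingGroup ι →* G)
    (φ : Matrix.SpecialLinearGroup (Fin 2) F →* G) (H : Glue p ζ ν φ)
    (i j k l : ι) (hij : i ≠ j)
    (hA4 : ∃ σ : alternatingGroup ι, (σ : Equiv.Perm ι) p.o2 = k ∧ (σ : Equiv.Perm ι) p.o3 = l ∧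
      (((σ : Equiv.Perm ι) p.o0 = i ∧ (σ : Equiv.Perm ι) p.o1 = j) ∨
        ((σ : Equiv.Perm ι) p.o1 = i ∧ (σ : Equiv.Perm ι) p.o0 = j)))
    (hE3 : ∀ (σ : alternatingGroup ι) (i j : ι), i ≠ j → ∀ m : Matrix.SpecialLinearGroup (Fin 2) F,
      ν σ * phiR p ν φ i j m * (ν σ)⁻¹ = phiR p ν φ ((σ : Equiv.Perm ι) i) ((σ : Equiv.Perm ι) j) m)
    (hE5 : ∀ (i j : ι), i ≠ j → ∀ m : Matrix.SpecialLinearGroup (Fin 2) F,
      phiR p ν φ j i m = phiR p ν φ i j (swM m))
    (m m' : Matrix.SpecialLinearGroup (Fin 2) F) :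
    Commute (phiR p ν φ i j m) (phiR p ν φ k l m') := by
  obtain ⟨σ, h2, h3, h01⟩ := hA4
  have key : ∀ m₀ : Matrix.SpecialLinearGroup (Fin 2) F,
      Commute (phiR p ν φ ((σ : Equiv.Perm ι) p.o0) ((σ : Equiv.Perm ι) p.o1) m₀)
        (phiR p ν φ k l m') := by
    intro m₀
    have h := (Commute.conj_iff (ν σ)).2 (H.disj m₀ m')
    rw [hE3 σ p.o0 p.o1 p.h01, hE3 σ p.o2 p.o3 p.h23, h2, h3] at h
    exact h
  rcases h01 with ⟨h0, h1⟩ | ⟨h1, h0⟩
  · have h := key m
    rw [h0, h1] at h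
    exact h
  · have h := key (swM m)
    rw [h0, h1, hE5 i j hij, slnd1_swM_swM] at h
    exact h

end D

end Cfsg.Agent.Lib.helper17.SLN
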