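import Mathlib
import Cfsg.Agent.Lib.helper17.SLP.Defs
import Cfsg.Agent.Lib.helper17.SLN.Defs

/-!
# Project SLN (designer helper17), row D2 core (helper12): the torus of a disjoint pair acts trivially
-/

set_option autoImplicit false

namespace Cfsg.Agent.Lib.helper17.SLN

open Cfsg.Agent.Lib.helper17.SLP

universe u v w

section D

variable {F : Type u} [Field F] {ι : Type w} [Fintype ι] [DecidableEq ι] {G : Type v} [Group G]

/-- D2 core: `act_disj` from the statement of D1 (`comm_disj`) at the pairs `(i, j)`, `(k, l)`. -/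
theorem slnd2_core (p : Pts ι) (ν : alternatingGroup ι →* G)
    (φ : Matrix.SpecialLinearGroup (Fin 2) F →* G) (i j k l : ι) (hkl : k ≠ l) (r : Fˣ)
    (hD1 : ∀ m m' : Matrix.SpecialLinearGroup (Fin 2) F,
      Commute (phiR p ν φ i j m) (phiR p ν φ k l m')) :
    Act (hr p ν φ i j r) (xr p ν φ k l) 1 := by
  intro t
  unfold hr xr
  rw [if_neg hkl, if_neg hkl, one_mul, (hD1 (hM r) (xM t)).eq, mul_inv_cancel_right]

end D

end Cfsg.Agent.Lib.helper17.SLN
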