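import Mathlib
import Cfsg.Agent.Lib.helper17.SLP.Defs
import Cfsg.Agent.Lib.helper17.SLN.Defs
import Cfsg.Agent.Lib.Helper24.SLNA1

/-!
# Project SLN (designer helper17), rows E1 E2 E3 E4 E5 (verbatim, helper12): the maps `phiC`, `phiR` are well defined
and `A_n`-equivariant
-/

set_option autoImplicit false

namespace Cfsg.Agent.Lib.helper17.SLN

open Cfsg.Agent.Lib.helper17.SLP

universe u v w

section E

variable {F : Type u} [Field F] {ι : Type w} [Fintype ι] [DecidableEq ι] {G : Type v} [Group G]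

omit [Fintype ι] [DecidableEq ι] in
theorem slne1_inv_apply (f : Equiv.Perm ι) (x : ι) : f⁻¹ (f x) = x := f.symm_apply_apply x

/-- E1 [S] -/
theorem phiC_apply (ν : alternatingGroup ι →* G) (φ : Matrix.SpecialLinearGroup (Fin 2) F →* G)
    (σ : alternatingGroup ι) (m : Matrix.SpecialLinearGroup (Fin 2) F) :
    phiC ν φ σ m = ν σ * φ m * (ν σ)⁻¹ := rfl

theorem phiC_mul (ν : alternatingGroup ι →* G) (φ : Matrix.SpecialLinearGroup (Fin 2) F →* G)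
    (σ τ : alternatingGroup ι) (m : Matrix.SpecialLinearGroup (Fin 2) F) :
    ν σ * phiC ν φ τ m * (ν σ)⁻¹ = phiC ν φ (σ * τ) m := by
  rw [phiC_apply, phiC_apply, map_mul, mul_inv_rev]
  group

/-- E2 [S-M] -/
theorem phiC_congr (p : Pts ι) (ν : alternatingGroup ι →* G) (φ : Matrix.SpecialLinearGroup (Fin 2) F →* G)
    (h1 : ∀ σ : alternatingGroup ι, (σ : Equiv.Perm ι) p.o0 = p.o0 → (σ : Equiv.Perm ι) p.o1 = p.o1 →
      ∀ m, ν σ * φ m * (ν σ)⁻¹ = φ m)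
    (σ τ : alternatingGroup ι) (h0 : (σ : Equiv.Perm ι) p.o0 = (τ : Equiv.Perm ι) p.o0)
    (h1' : (σ : Equiv.Perm ι) p.o1 = (τ : Equiv.Perm ι) p.o1) (m : Matrix.SpecialLinearGroup (Fin 2) F) :
    phiC ν φ σ m = phiC ν φ τ m := by
  have e0 : ((τ⁻¹ * σ : alternatingGroup ι) : Equiv.Perm ι) p.o0 = p.o0 := by
    rw [Subgroup.coe_mul, Subgroup.coe_inv, Equiv.Perm.mul_apply, h0, slne1_inv_apply]
  have e1 : ((τ⁻¹ * σ : alternatingGroup ι) : Equiv.Perm ι) p.o1 = p.o1 := by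
    rw [Subgroup.coe_mul, Subgroup.coe_inv, Equiv.Perm.mul_apply, h1', slne1_inv_apply]
  have h := h1 (τ⁻¹ * σ) e0 e1 m
  have hσ : ν σ = ν τ * ν (τ⁻¹ * σ) := by
    rw [← map_mul]
    congr 1
    group
  rw [phiC_apply, phiC_apply, hσ, mul_inv_rev]
  calc ν τ * ν (τ⁻¹ * σ) * φ m * ((ν (τ⁻¹ * σ))⁻¹ * (ν τ)⁻¹)
      = ν τ * (ν (τ⁻¹ * σ) * φ m * (ν (τ⁻¹ * σ))⁻¹) * (ν τ)⁻¹ := by group
    _ = ν τ * φ m * (ν τ)⁻¹ := by rw [h]

/-- E3 [S-M] -/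
theorem phiR_conj (p : Pts ι) (ν : alternatingGroup ι →* G) (φ : Matrix.SpecialLinearGroup (Fin 2) F →* G)
    (h1 : ∀ σ : alternatingGroup ι, (σ : Equiv.Perm ι) p.o0 = p.o0 → (σ : Equiv.Perm ι) p.o1 = p.o1 →
      ∀ m, ν σ * φ m * (ν σ)⁻¹ = φ m)
    (σ : alternatingGroup ι) (i j : ι) (hij : i ≠ j) (m : Matrix.SpecialLinearGroup (Fin 2) F) :
    ν σ * phiR p ν φ i j m * (ν σ)⁻¹ = phiR p ν φ ((σ : Equiv.Perm ι) i) ((σ : Equiv.Perm ι) j) m := by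
  have hσ : (σ : Equiv.Perm ι) i ≠ (σ : Equiv.Perm ι) j := fun h => hij ((σ : Equiv.Perm ι).injective h)
  obtain ⟨a0, a1⟩ := sig_spec p i j hij
  obtain ⟨b0, b1⟩ := sig_spec p ((σ : Equiv.Perm ι) i) ((σ : Equiv.Perm ι) j) hσ
  unfold phiR
  rw [phiC_mul]
  apply phiC_congr p ν φ h1
  · rw [Subgroup.coe_mul, Equiv.Perm.mul_apply, a0, b0]
  · rw [Subgroup.coe_mul, Equiv.Perm.mul_apply, a1, b1]

/-- E4 [S] -/
theorem phiR_base (p : Pts ι) (ν : alternatingGroup ι →* G) (φ : Matrix.SpecialLinearGroup (Fin 2) F →* G)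
    (h1 : ∀ σ : alternatingGroup ι, (σ : Equiv.Perm ι) p.o0 = p.o0 → (σ : Equiv.Perm ι) p.o1 = p.o1 →
      ∀ m, ν σ * φ m * (ν σ)⁻¹ = φ m)
    (m : Matrix.SpecialLinearGroup (Fin 2) F) : phiR p ν φ p.o0 p.o1 m = φ m := by
  obtain ⟨a0, a1⟩ := sig_spec p p.o0 p.o1 p.h01
  unfold phiR
  rw [phiC_congr p ν φ h1 (sig p p.o0 p.o1) 1 (by rw [a0]; rfl) (by rw [a1]; rfl) m, phiC_apply, map_one,
    one_mul, inv_one, mul_one]

/-- E5 [S-M] -/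
theorem phiR_swap (p : Pts ι) (ν : alternatingGroup ι →* G) (φ : Matrix.SpecialLinearGroup (Fin 2) F →* G)
    (h2 : ∀ σ : alternatingGroup ι, (σ : Equiv.Perm ι) p.o0 = p.o1 → (σ : Equiv.Perm ι) p.o1 = p.o0 →
      ∀ m, ν σ * φ m * (ν σ)⁻¹ = φ (swM m))
    (i j : ι) (hij : i ≠ j) (m : Matrix.SpecialLinearGroup (Fin 2) F) :
    phiR p ν φ j i m = phiR p ν φ i j (swM m) := by
  obtain ⟨a0, a1⟩ := sig_spec p i j hij
  obtain ⟨b0, b1⟩ := sig_spec p j i hij.symm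
  set a := sig p i j with ha
  set b := sig p j i with hb
  have e0 : ((a⁻¹ * b : alternatingGroup ι) : Equiv.Perm ι) p.o0 = p.o1 := by
    rw [Subgroup.coe_mul, Subgroup.coe_inv, Equiv.Perm.mul_apply, b0, ← a1, slne1_inv_apply]
  have e1 : ((a⁻¹ * b : alternatingGroup ι) : Equiv.Perm ι) p.o1 = p.o0 := by
    rw [Subgroup.coe_mul, Subgroup.coe_inv, Equiv.Perm.mul_apply, b1, ← a0, slne1_inv_apply]
  have h := h2 (a⁻¹ * b) e0 e1 m
  have hbb : ν b = ν a * ν (a⁻¹ * b) := by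
    rw [← map_mul]
    congr 1
    group
  unfold phiR
  rw [← ha, ← hb, phiC_apply, phiC_apply, hbb, mul_inv_rev]
  calc ν a * ν (a⁻¹ * b) * φ m * ((ν (a⁻¹ * b))⁻¹ * (ν a)⁻¹)
      = ν a * (ν (a⁻¹ * b) * φ m * (ν (a⁻¹ * b))⁻¹) * (ν a)⁻¹ := by group
    _ = ν a * φ (swM m) * (ν a)⁻¹ := by rw [h]

end E

end Cfsg.Agent.Lib.helper17.SLN
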