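import Mathlib
import Cfsg.Agent.Lib.helper17.SLP.Defs
import Cfsg.Agent.Lib.helper17.SLN.Defs
import Cfsg.Agent.Lib.Helper24.SLNA1
import Cfsg.Agent.Lib.Helper12.SLNE1
import Cfsg.Agent.Lib.Helper12.SLND1core
import Cfsg.Agent.Lib.Helper12.SLND2core

/-!
# Project SLN (designer helper17), rows D1 D2 (verbatim, helper12): disjoint pairs commute
-/

set_option autoImplicit false

namespace Cfsg.Agent.Lib.helper17.SLN

open Cfsg.Agent.Lib.helper17.SLP

universe u v w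

section D

variable {F : Type u} [Field F] {ι : Type w} [Fintype ι] [DecidableEq ι] {G : Type v} [Group G]

/-- D1 [M] -/
theorem comm_disj (p : Pts ι) (ζ : Fˣ) (ν : alternatingGroup ι →* G)
    (φ : Matrix.SpecialLinearGroup (Fin 2) F →* G) (H : Glue p ζ ν φ)
    (i j k l : ι) (hij : i ≠ j) (hik : i ≠ k) (hil : i ≠ l) (hjk : j ≠ k) (hjl : j ≠ l) (hkl : k ≠ l)
    (m m' : Matrix.SpecialLinearGroup (Fin 2) F) :
    Commute (phiR p ν φ i j m) (phiR p ν φ k l m') :=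
  slnd1_core p ζ ν φ H i j k l hij (exists_move4 p i j k l hij hik hil hjk hjl hkl)
    (fun σ i j hij m => phiR_conj p ν φ H.stab1 σ i j hij m)
    (fun i j hij m => phiR_swap p ν φ H.stab2 i j hij m) m m'

/-- D2 [S] -/
theorem act_disj (p : Pts ι) (ζ : Fˣ) (ν : alternatingGroup ι →* G)
    (φ : Matrix.SpecialLinearGroup (Fin 2) F →* G) (H : Glue p ζ ν φ)
    (i j k l : ι) (hij : i ≠ j) (hik : i ≠ k) (hil : i ≠ l) (hjk : j ≠ k) (hjl : j ≠ l) (hkl : k ≠ l) (r : Fˣ) :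
    Act (hr p ν φ i j r) (xr p ν φ k l) 1 :=
  slnd2_core p ν φ i j k l hkl r (fun m m' => comm_disj p ζ ν φ H i j k l hij hik hil hjk hjl hkl m m')

end D

end Cfsg.Agent.Lib.helper17.SLN
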