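import Mathlib
import Cfsg.Agent.Lib.helper17.SLP.Defs

/-!
# Project SLP (S2286), row FIN4 (core): the presentation of `PSL₂(F)` in characteristic 2 from
the statements of the rows FIN3 and M7 (helper12).
-/

set_option autoImplicit false

namespace Cfsg.Agent.Lib.helper17.SLP

open Polynomial

universe u v

/-- FIN4 with the statements of FIN3 (`sl_two`) and M7 (`sl_equiv_psl_two`) as hypotheses. -/
theorem slpfin4_core {F : Type u} [Field F] [Fintype F]
    (hFIN3 : ∃ rels : Finset (FreeGroup (Fin 3)), rels.card ≤ 5 ∧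
      Nonempty (PresentedGroup (↑rels : Set (FreeGroup (Fin 3))) ≃*
        Matrix.SpecialLinearGroup (Fin 2) F))
    (hM7 : Nonempty (Matrix.SpecialLinearGroup (Fin 2) F ≃*
      Matrix.ProjectiveSpecialLinearGroup (Fin 2) F)) :
    ∃ rels : Finset (FreeGroup (Fin 3)), rels.card ≤ 5 ∧
      Nonempty (PresentedGroup (↑rels : Set (FreeGroup (Fin 3))) ≃*
        Matrix.ProjectiveSpecialLinearGroup (Fin 2) F) := by
  obtain ⟨rels, hcard, ⟨e⟩⟩ := hFIN3
  obtain ⟨e'⟩ := hM7
  exact ⟨rels, hcard, ⟨e.trans e'⟩⟩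

end Cfsg.Agent.Lib.helper17.SLP
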