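import Mathlib
import Cfsg.Agent.Lib.helper17.SLP.Defs

/-!
# Project SLP (S2286), row M7: `SL₂(F) ≃* PSL₂(F)` in characteristic 2 (helper12).
-/

set_option autoImplicit false

namespace Cfsg.Agent.Lib.helper17.SLP

open Polynomial

universe u v

section M

variable {F : Type u} [Field F]

/-- the centre of `SL₂(F)` is trivial when `2 = 0` -/
theorem slpm7_center (h2 : (2 : F) = 0) :
    Subgroup.center (Matrix.SpecialLinearGroup (Fin 2) F) = ⊥ := by
  rw [eq_bot_iff]
  intro A hA
  rw [Matrix.SpecialLinearGroup.mem_center_iff] at hA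
  obtain ⟨r, hr, hA⟩ := hA
  rw [Subgroup.mem_bot]
  have hr1 : r = 1 := by
    have h1 : r ^ 2 = 1 := by simpa using hr
    have h3 : (r - 1) ^ 2 = 0 := by
      have : (r - 1) ^ 2 = r ^ 2 - 2 * r + 1 := by ring
      rw [this, h1, h2]
      ring_nf
      have h4 : (2 : F) = 0 := h2
      linear_combination h4
    have := pow_eq_zero_iff (two_ne_zero) |>.1 h3
    exact sub_eq_zero.1 this
  apply Subtype.ext
  rw [← hA, hr1]
  simp

/-- M7 [S-M]  `center = ⊥` when `2 = 0` (`Matrix.SpecialLinearGroup.mem_center_iff`: `r² = 1 → r = 1`, or `card_center_SL`: `gcd 2 (q-1) = 1`); `QuotientGroup.quotientBot`, `QuotientGroup.quotientMulEquivOfEq`. -/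
theorem sl_equiv_psl_two [Fintype F] (h2 : (2 : F) = 0) :
    Nonempty (Matrix.SpecialLinearGroup (Fin 2) F ≃* Matrix.ProjectiveSpecialLinearGroup (Fin 2) F) := by
  refine ⟨?_⟩
  unfold Matrix.ProjectiveSpecialLinearGroup
  exact (QuotientGroup.quotientBot (G := Matrix.SpecialLinearGroup (Fin 2) F)).symm.trans
    (QuotientGroup.quotientMulEquivOfEq (slpm7_center h2).symm)

end M

end Cfsg.Agent.Lib.helper17.SLP
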