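import Mathlib
import Cfsg.Agent.Lib.helper17.SLP.Defs

/-!
# Project SLP (S2286), row XR2 (core): the A-part in characteristic 2, `q ≥ 4`, from the
statements of the rows B6, F1, F3, M1, M2 (helper12).  The P2 fact for `wordsR2` is proved here
under the name `slpxr2_ev`.
-/

set_option autoImplicit false

namespace Cfsg.Agent.Lib.helper17.SLP

open Polynomial

universe u v

/-- the relations of `wordsR2` spelled out (= row P2 `ev_wordsR2`) -/
theorem slpxr2_ev {G : Type*} [Group G] (u h w : G) (k : ℤ) (m : (ZMod 2)[X]) :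
    (∀ r ∈ wordsR2 k m, ev u h w r = 1) ↔
      (u ^ 2 = 1 ∧ cj h u k = cj h u 1 * u ∧ pw 2 h u 1 m = 1) := by
  simp only [wordsR2, List.forall_mem_cons, List.not_mem_nil, false_imp_iff, implies_true,
    and_true, map_mul, map_pow, map_inv, map_cj, map_pw, ev_gU, ev_gH, mul_inv_eq_one]

/-- XR2 with the statements of B6, F1, F3, M1 (`xM_mul xM_zero xM_pow cj_M`), M2 as hypotheses. -/
theorem slpxr2_core {F : Type u} [Field F] [Fintype F] [CharP F 2]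
    (ζ : Fˣ)
    (hB6 : ∀ [Algebra (ZMod 2) F] (G : Type) [Group G] (u h : G) (k : ℤ) (lam : F), lam ≠ 0 →
      lam ^ k = lam + 1 → Function.Surjective (fun f : (ZMod 2)[X] => aeval lam f) →
      u ^ 2 = 1 → cj h u k = cj h u 1 * u → pw 2 h u 1 (minpoly (ZMod 2) lam) = 1 →
      ∃ x : F → G, (∀ s t, x (s + t) = x s * x t) ∧ (∀ t, h * x t * h⁻¹ = x (lam * t)) ∧
        x 1 = u ∧ ∀ f : (ZMod 2)[X], x (aeval lam f) = pw 2 h u 1 f)
    (hF1 : ∀ [Algebra (ZMod 2) F],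
      Function.Surjective (fun f : (ZMod 2)[X] => aeval ((ζ : F) ^ 2) f))
    (hF3 : ∃ k : ℕ, ((ζ : F) ^ 2) ^ k = (ζ : F) ^ 2 + 1)
    (hxM_mul : ∀ s t : F, xM s * xM t = xM (s + t))
    (hxM_zero : xM (0 : F) = 1)
    (hxM_pow : ∀ (t : F) (n : ℕ), xM t ^ n = xM ((n : F) * t))
    (hcj_M : ∀ (s : Fˣ) (t : F) (i : ℤ), cj (hM s) (xM t) i = xM (((s : F) ^ 2) ^ i * t))
    (hpw_M : ∀ [Algebra (ZMod 2) F] (s : Fˣ) (l : ℤ) (f : (ZMod 2)[X]),
      pw 2 (hM s) (xM (1 : F)) l f = xM (aeval (((s : F) ^ 2) ^ l) f)) :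
    ∃ (A : List (FreeGroup (Fin 3))), A.length ≤ 3 ∧
      (∀ r ∈ A, ev (xM (1 : F)) (hM ζ) wM r = 1) ∧
      ∀ (G : Type) [Group G] (u h w : G), (∀ r ∈ A, ev u h w r = 1) →
        ∃ x : F → G, (∀ s t, x (s + t) = x s * x t) ∧
          (∀ t, h * x t * h⁻¹ = x ((ζ : F) ^ 2 * t)) ∧ x 1 = u := by
  letI : Algebra (ZMod 2) F := ZMod.algebra F 2
  obtain ⟨k, hk⟩ := hF3
  set lam : F := (ζ : F) ^ 2 with hlam
  have hlam0 : lam ≠ 0 := pow_ne_zero _ (Units.ne_zero ζ)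
  have h20 : (2 : F) = 0 := by
    have := CharP.cast_eq_zero F 2
    exact_mod_cast this
  refine ⟨wordsR2 (k : ℤ) (minpoly (ZMod 2) lam), by simp [wordsR2], ?_, ?_⟩
  · rw [slpxr2_ev]
    refine ⟨?_, ?_, ?_⟩
    · rw [hxM_pow]
      have : ((2 : ℕ) : F) * 1 = 0 := by
        push_cast
        rw [h20, zero_mul]
      rw [this, hxM_zero]
    · rw [hcj_M, hcj_M, hxM_mul]
      congr 1
      rw [zpow_natCast, zpow_one, mul_one, mul_one, ← hlam, hk]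
    · rw [hpw_M, zpow_one, ← hlam, minpoly.aeval, hxM_zero]
  · intro G _ u h w hrel
    rw [slpxr2_ev] at hrel
    obtain ⟨a1, a3, a4⟩ := hrel
    have hk' : lam ^ (k : ℤ) = lam + 1 := by
      rw [zpow_natCast]
      exact hk
    obtain ⟨x, hadd, hconj, hx1, _⟩ := hB6 G u h (k : ℤ) lam hlam0 hk' hF1 a1 a3 a4
    exact ⟨x, hadd, hconj, hx1⟩

end Cfsg.Agent.Lib.helper17.SLP
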