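import Mathlib
import Cfsg.Agent.Lib.helper17.SLP.Defs
import Cfsg.Agent.Lib.helper4.SLPFIN3
import Cfsg.Agent.Lib.Helper12.SLPM7
import Cfsg.Agent.Lib.Helper12.SLPFIN4core

/-!
# Project SLP (S2286), row FIN4 (verbatim): `PSL₂(F)` in characteristic 2 on 3 generators and at
most 5 relations (helper12).
-/

set_option autoImplicit false

namespace Cfsg.Agent.Lib.helper17.SLP

open Polynomial

universe u v

theorem psl_two {F : Type u} [Field F] [Fintype F] (h2 : (2 : F) = 0) :
    ∃ rels : Finset (FreeGroup (Fin 3)), rels.card ≤ 5 ∧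
      Nonempty (PresentedGroup (↑rels : Set (FreeGroup (Fin 3))) ≃*
        Matrix.ProjectiveSpecialLinearGroup (Fin 2) F) :=
  slpfin4_core (sl_two h2) (sl_equiv_psl_two h2)

end Cfsg.Agent.Lib.helper17.SLP
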