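import Mathlib
import Cfsg.Agent.Lib.helper17.SLP.Defs
import Cfsg.Agent.Lib.helper15.SLPB6
import Cfsg.Agent.Lib.Helper20.SLPF1
import Cfsg.Agent.Lib.helper8.SLPF3
import Cfsg.Agent.Lib.helper2.SLPM1
import Cfsg.Agent.Lib.helper2.SLPM2
import Cfsg.Agent.Lib.Helper12.SLPXR2core

/-!
# Project SLP (S2286), row XR2 (verbatim): the A-part in characteristic 2, `q ≥ 4` (helper12).
-/

set_option autoImplicit false

namespace Cfsg.Agent.Lib.helper17.SLP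

open Polynomial

universe u v

theorem ascheme_R2 {F : Type u} [Field F] [Fintype F] [CharP F 2] (hq : 4 ≤ Fintype.card F)
    (ζ : Fˣ) (hζ : ∀ y : Fˣ, y ∈ Subgroup.zpowers ζ) :
    ∃ (A : List (FreeGroup (Fin 3))), A.length ≤ 3 ∧
      (∀ r ∈ A, ev (xM (1 : F)) (hM ζ) wM r = 1) ∧
      ∀ (G : Type) [Group G] (u h w : G), (∀ r ∈ A, ev u h w r = 1) →
        ∃ x : F → G, (∀ s t, x (s + t) = x s * x t) ∧
          (∀ t, h * x t * h⁻¹ = x ((ζ : F) ^ 2 * t)) ∧ x 1 = u :=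
  slpxr2_core ζ
    (fun G _ u h k lam hlam hk hsurj a1 a3 a4 => exists_x_R2 u h k lam hlam hk hsurj a1 a3 a4)
    (aeval_sq_surjective 2 ζ hζ)
    (exists_k_two hq ζ hζ)
    xM_mul xM_zero xM_pow cj_M
    (fun s l f => pw_M 2 s l f)

end Cfsg.Agent.Lib.helper17.SLP
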