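import Mathlib
import Cfsg.Agent.Lib.helper17.SLP.Defs
import Cfsg.Agent.Lib.helper3.SP4.Defs
import Cfsg.Prelude.Def_Classical
import Cfsg.Agent.Lib.Helper20.SLPF4
import Cfsg.Agent.Lib.helper2.SLPM1

/-!
# Project SP4 (S2293), row FIN6 (core): `PSp₄(F)` has a presentation with 6 generators and at most
36 relations, from the statements of the rows H6, P1, FIN1, FIN2, FIN3, FIN4, T8, M6, M7, M8
(helper12).  `zeta_pow_half` (SLP F4) and `slpm1_hM_pow` (SLP M1) are cited from main.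
-/

set_option autoImplicit false

namespace Cfsg.Agent.Lib.helper3.SP4

open Cfsg.Agent.Lib.helper17.SLP
open Polynomial

universe u v

/-- evaluation of words in six letters commutes with homomorphisms -/
theorem sp4fin6_ev6_map {G : Type u} {H : Type v} [Group G] [Group H] (φ : G →* H)
    (a1 a2 a3 b1 b2 b3 : G) (r : FreeGroup (Fin 6)) :
    φ (ev6 a1 a2 a3 b1 b2 b3 r) = ev6 (φ a1) (φ a2) (φ a3) (φ b1) (φ b2) (φ b3) r := by
  have h : φ.comp (ev6 a1 a2 a3 b1 b2 b3) = ev6 (φ a1) (φ a2) (φ a3) (φ b1) (φ b2) (φ b3) := by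
    ext i
    fin_cases i <;> simp [ev6]
  exact DFunLike.congr_fun h r

theorem sp4fin6_ev6_pHa {G : Type u} [Group G] (a1 a2 a3 b1 b2 b3 : G) :
    ev6 a1 a2 a3 b1 b2 b3 pHa = a2 := by
  simp [ev6, pHa]

/-- the image of a generating set of six elements under a surjective homomorphism generates -/
theorem sp4fin6_gen_map {G : Type u} {H : Type v} [Group G] [Group H] (φ : G →* H)
    (hφ : Function.Surjective φ) (a1 a2 a3 b1 b2 b3 : G)
    (h : Subgroup.closure {a1, a2, a3, b1, b2, b3} = ⊤) :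
    Subgroup.closure {φ a1, φ a2, φ a3, φ b1, φ b2, φ b3} = ⊤ := by
  have h1 := congrArg (Subgroup.map φ) h
  rw [MonoidHom.map_closure, Subgroup.map_top_of_surjective φ hφ] at h1
  rw [← h1]
  congr 1
  simp only [Set.image_insert_eq, Set.image_singleton]

section FIN

variable {F : Type u} [Field F] [Fintype F]

/-- FIN6 with the statements of H6, P1 (at `PSp₄(F)`), FIN1, T8, FIN2, FIN3, FIN4, M6, M7, M8 as
hypotheses. -/
theorem sp4fin6_core
    (hH6 : ∀ ζ : Fˣ, (∀ y : Fˣ, y ∈ Subgroup.zpowers ζ) →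
      ∃ (L : List (FreeGroup (Fin 3))) (az : FreeGroup (Fin 3)), L.length ≤ 9 ∧
        ((2 : F) = 0 → L.length ≤ 5) ∧
        (∀ r ∈ L, ev (xM (1 : F)) (hM ζ) wM r = 1) ∧ ev (xM (1 : F)) (hM ζ) wM az = xM (ζ : F) ∧
        ∀ (G : Type) [Group G] (u h w : G), (∀ r ∈ L, ev u h w r = 1) →
          ∃ φ : Matrix.SpecialLinearGroup (Fin 2) F →* G, φ (xM 1) = u ∧ φ (hM ζ) = h ∧ φ wM = w)
    (hP1 : ∀ (L : List (FreeGroup (Fin 6))) (a₁ a₂ a₃ b₁ b₂ b₃ : Cfsg.PSp 2 F),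
      Subgroup.closure {a₁, a₂, a₃, b₁, b₂, b₃} = ⊤ → (∀ r ∈ L, ev6 a₁ a₂ a₃ b₁ b₂ b₃ r = 1) →
      (∀ (G : Type) [Group G] (ua ha wa ub hb wb : G),
        Subgroup.closure {ua, ha, wa, ub, hb, wb} = ⊤ →
        (∀ r ∈ L, ev6 ua ha wa ub hb wb r = 1) →
        Finite G ∧ Nat.card G ≤ Nat.card (Cfsg.PSp 2 F)) →
      Nonempty (PresentedGroup (↑L.toFinset : Set (FreeGroup (Fin 6))) ≃* Cfsg.PSp 2 F))
    (hFIN1 : ∀ (G : Type) [Group G] (φa φb : Matrix.SpecialLinearGroup (Fin 2) F →* G),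
      Tor4 φa φb → Nat.card (TT φa φb) ≤ (Fintype.card F - 1) ^ 2 ∧
        ((2 : F) ≠ 0 → rh φa (-1) = 1 → 2 * Nat.card (TT φa φb) ≤ (Fintype.card F - 1) ^ 2))
    (hT8 : ∀ ζ : Fˣ, (∀ y : Fˣ, y ∈ Subgroup.zpowers ζ) → ∀ (G : Type) [Group G]
      (φa φb : Matrix.SpecialLinearGroup (Fin 2) F →* G), Hyp ζ φa φb → Tor4 φa φb)
    (hFIN2 : ∀ ζ : Fˣ, (∀ y : Fˣ, y ∈ Subgroup.zpowers ζ) → ∀ (G : Type) [Group G]
      (φa φb : Matrix.SpecialLinearGroup (Fin 2) F →* G), Hyp ζ φa φb →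
      Subgroup.closure (Set.range φa ∪ Set.range φb) = ⊤ →
      Finite G ∧ Nat.card G ≤ Nat.card (TT φa φb) * Fintype.card F ^ 4 *
        (1 + 2 * Fintype.card F + 2 * Fintype.card F ^ 2 + 2 * Fintype.card F ^ 3 +
          Fintype.card F ^ 4))
    (hFIN3 : ∀ (ζ : Fˣ) (L : List (FreeGroup (Fin 3))) (az : FreeGroup (Fin 3)),
      ev (xM (1 : F)) (hM ζ) wM az = xM (ζ : F) →
      (∀ (G : Type) [Group G] (u h w : G), (∀ r ∈ L, ev u h w r = 1) →
        ∃ φ : Matrix.SpecialLinearGroup (Fin 2) F →* G, φ (xM 1) = u ∧ φ (hM ζ) = h ∧ φ wM = w) →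
      ∀ (G : Type) [Group G] (ua ha wa ub hb wb : G),
      Subgroup.closure {ua, ha, wa, ub, hb, wb} = ⊤ →
      (∀ r ∈ L.map inA ++ L.map inB ++ wordsS6 (inA az), ev6 ua ha wa ub hb wb r = 1) →
      ∃ φa φb : Matrix.SpecialLinearGroup (Fin 2) F →* G, Hyp ζ φa φb ∧ rh φa ζ = ha ∧
        Subgroup.closure (Set.range φa ∪ Set.range φb) = ⊤)
    (hFIN4 : ∀ ζ : Fˣ, (∀ y : Fˣ, y ∈ Subgroup.zpowers ζ) → ∀ (L : List (FreeGroup (Fin 3)))
      (az : FreeGroup (Fin 3)), (∀ r ∈ L, ev (xM (1 : F)) (hM ζ) wM r = 1) →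
      ev (xM (1 : F)) (hM ζ) wM az = xM (ζ : F) →
      (∀ r ∈ L.map inA ++ L.map inB ++ wordsS6 (inA az),
        ev6 (rhoA (xM (1 : F))) (rhoA (hM ζ)) (rhoA wM) (rhoB (xM (1 : F))) (rhoB (hM ζ))
          (rhoB wM) r = 1) ∧
      Subgroup.closure {rhoA (xM (1 : F)), rhoA (hM ζ), rhoA wM, rhoB (xM (1 : F)), rhoB (hM ζ),
        rhoB wM} = ⊤)
    (hM6 : Nat.card (Matrix.symplecticGroup (Fin 2) F) =
      (Fintype.card F - 1) ^ 2 * Fintype.card F ^ 4 *
        (1 + 2 * Fintype.card F + 2 * Fintype.card F ^ 2 + 2 * Fintype.card F ^ 3 +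
          Fintype.card F ^ 4))
    (hM7 : Nat.card (Cfsg.PSp 2 F) * Nat.gcd 2 (Fintype.card F - 1) =
      Nat.card (Matrix.symplecticGroup (Fin 2) F))
    (hM8 : rh (rhoA (F := F)) (-1) ∈ Subgroup.center (Matrix.symplecticGroup (Fin 2) F)) :
    ∃ rels : Finset (FreeGroup (Fin 6)), rels.card ≤ 36 ∧
      Nonempty (PresentedGroup (↑rels : Set (FreeGroup (Fin 6))) ≃* Cfsg.PSp 2 F) := by
  classical
  obtain ⟨ζ, hζ⟩ := IsCyclic.exists_generator (α := Fˣ)
  obtain ⟨L, az, hL9, hL5, hLrel, haz, hLhom⟩ := hH6 ζ hζ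
  obtain ⟨hrelM, hgenM⟩ := hFIN4 ζ hζ L az hLrel haz
  have hq2 : 2 ≤ Fintype.card F := Fintype.one_lt_card
  set q := Fintype.card F with hq
  set P := 1 + 2 * q + 2 * q ^ 2 + 2 * q ^ 3 + q ^ 4 with hP
  -- the quotient map
  let π : ↥(Matrix.symplecticGroup (Fin 2) F) →* Cfsg.PSp 2 F :=
    QuotientGroup.mk' (Subgroup.center ↥(Matrix.symplecticGroup (Fin 2) F))
  have hπ : Function.Surjective π := QuotientGroup.mk'_surjective _
  obtain ⟨L6, hL6⟩ : ∃ L6, L6 = L.map inA ++ L.map inB ++ wordsS6 (inA az) := ⟨_, rfl⟩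
  have hL6len : L6.length = L.length + L.length + 12 := by
    rw [hL6, List.length_append, List.length_append, List.length_map, List.length_map]
    rfl
  have hgenP : Subgroup.closure {π (rhoA (xM (1 : F))), π (rhoA (hM ζ)), π (rhoA wM),
      π (rhoB (xM (1 : F))), π (rhoB (hM ζ)), π (rhoB wM)} = ⊤ :=
    sp4fin6_gen_map π hπ _ _ _ _ _ _ hgenM
  have hrelP : ∀ r ∈ L6, ev6 (π (rhoA (xM (1 : F)))) (π (rhoA (hM ζ))) (π (rhoA wM))
      (π (rhoB (xM (1 : F)))) (π (rhoB (hM ζ))) (π (rhoB wM)) r = 1 := by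
    intro r hr
    rw [← sp4fin6_ev6_map, hrelM r (by rw [← hL6]; exact hr), map_one]
  -- the common part of the two counts
  have hcount : ∀ (G : Type) [Group G] (ua ha wa ub hb wb : G),
      Subgroup.closure {ua, ha, wa, ub, hb, wb} = ⊤ →
      (∀ r ∈ L6, ev6 ua ha wa ub hb wb r = 1) →
      ∃ φa φb : Matrix.SpecialLinearGroup (Fin 2) F →* G, rh φa ζ = ha ∧ Finite G ∧
        Nat.card G ≤ Nat.card (TT φa φb) * q ^ 4 * P ∧
        Nat.card (TT φa φb) ≤ (q - 1) ^ 2 ∧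
        ((2 : F) ≠ 0 → rh φa (-1) = 1 → 2 * Nat.card (TT φa φb) ≤ (q - 1) ^ 2) := by
    intro G _ ua ha wa ub hb wb hgen hrel
    obtain ⟨φa, φb, hH, hha, hgen'⟩ := hFIN3 ζ L az haz hLhom G ua ha wa ub hb wb hgen
      (by rw [← hL6]; exact hrel)
    obtain ⟨hfin, hle⟩ := hFIN2 ζ hζ G φa φb hH hgen'
    obtain ⟨h1, h2⟩ := hFIN1 G φa φb (hT8 ζ hζ G φa φb hH)
    exact ⟨φa, φb, hha, hfin, hle, h1, h2⟩
  by_cases h2 : (2 : F) = 0
  · -- characteristic 2
    have : CharP F 2 := CharTwo.of_one_ne_zero_of_two_eq_zero one_ne_zero h2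
    have heven : q % 2 = 0 := FiniteField.even_card_of_char_two (ringChar.eq F 2)
    have hgcd : Nat.gcd 2 (q - 1) = 1 := by
      have hd : Nat.gcd 2 (q - 1) ∣ 2 := Nat.gcd_dvd_left 2 (q - 1)
      rcases (Nat.dvd_prime Nat.prime_two).mp hd with h | h
      · exact h
      · exfalso
        have h3 : 2 ∣ q - 1 := by
          rw [← h]
          exact Nat.gcd_dvd_right 2 (q - 1)
        omega
    refine ⟨L6.toFinset, ?_, ?_⟩
    · calc L6.toFinset.card ≤ L6.length := List.toFinset_card_le L6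
        _ = L.length + L.length + 12 := hL6len
        _ ≤ 36 := by omega
    · apply hP1 L6 _ _ _ _ _ _ hgenP hrelP
      intro G _ ua ha wa ub hb wb hgen hrel
      obtain ⟨φa, φb, -, hfin, hle, h1, -⟩ := hcount G ua ha wa ub hb wb hgen hrel
      refine ⟨hfin, ?_⟩
      have e1 : Nat.card (Cfsg.PSp 2 F) = (q - 1) ^ 2 * q ^ 4 * P := by
        rw [← hM6, ← hM7, hgcd, mul_one]
      rw [e1]
      exact hle.trans (Nat.mul_le_mul_right _ (Nat.mul_le_mul_right _ h1))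
  · -- odd characteristic
    have hodd : q % 2 = 1 := by
      apply FiniteField.odd_card_of_char_ne_two
      intro hc
      apply h2
      have h0 := CharP.cast_eq_zero F (ringChar F)
      rw [hc] at h0
      exact_mod_cast h0
    have hgcd : Nat.gcd 2 (q - 1) = 2 := Nat.gcd_eq_left (by omega)
    obtain ⟨n, hn⟩ : ∃ n, n = (q - 1) / 2 := ⟨_, rfl⟩
    have hζn : ζ ^ n = -1 := by
      apply Units.ext
      rw [Units.val_pow_eq_pow_val, hn, Units.val_neg, Units.val_one]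
      exact zeta_pow_half h2 ζ hζ
    refine ⟨(L6 ++ [pHa ^ n]).toFinset, ?_, ?_⟩
    · calc (L6 ++ [pHa ^ n]).toFinset.card ≤ (L6 ++ [pHa ^ n]).length :=
            List.toFinset_card_le _
        _ = L.length + L.length + 12 + 1 := by rw [List.length_append, hL6len]; rfl
        _ ≤ 36 := by omega
    · apply hP1 (L6 ++ [pHa ^ n]) _ _ _ _ _ _ hgenP
      · intro r hr
        rw [List.mem_append] at hr
        rcases hr with hr | hr
        · exact hrelP r hr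
        · rw [List.mem_singleton] at hr
          rw [hr, map_pow, sp4fin6_ev6_pHa, ← map_pow, ← map_pow, slpm1_hM_pow, hζn]
          exact (QuotientGroup.eq_one_iff _).mpr hM8
      · intro G _ ua ha wa ub hb wb hgen hrel
        have hrel6 : ∀ r ∈ L6, ev6 ua ha wa ub hb wb r = 1 := fun r hr =>
          hrel r (List.mem_append_left _ hr)
        have hhan : ha ^ n = 1 := by
          have h := hrel (pHa ^ n) (List.mem_append_right _ (List.mem_singleton.mpr rfl))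
          rwa [map_pow, sp4fin6_ev6_pHa] at h
        obtain ⟨φa, φb, hha, hfin, hle, -, h3⟩ := hcount G ua ha wa ub hb wb hgen hrel6
        have hneg : rh φa (-1) = 1 := by
          unfold rh at hha ⊢
          rw [← hζn, ← slpm1_hM_pow, map_pow, hha, hhan]
        have h4 := h3 h2 hneg
        refine ⟨hfin, ?_⟩
        have e1 : Nat.card (Cfsg.PSp 2 F) * 2 = (q - 1) ^ 2 * q ^ 4 * P := by
          rw [← hM6, ← hM7, hgcd]
        have e2 : 2 * Nat.card G ≤ (q - 1) ^ 2 * q ^ 4 * P := by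
          calc 2 * Nat.card G ≤ 2 * (Nat.card (TT φa φb) * q ^ 4 * P) :=
                Nat.mul_le_mul_left _ hle
            _ = 2 * Nat.card (TT φa φb) * q ^ 4 * P := by ring
            _ ≤ (q - 1) ^ 2 * q ^ 4 * P :=
                Nat.mul_le_mul_right _ (Nat.mul_le_mul_right _ h4)
        omega

end FIN

end Cfsg.Agent.Lib.helper3.SP4
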