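import Mathlib
import Cfsg.Prelude.Def_Classical
import Cfsg.Prelude.Def_KGroupFacts
import Cfsg.Agent.Lib.Lead.SPM2.Defs

/-!
# Project SPM2 (designer lead; S2099), row K3 core (helper12): no `-1` in `Ω⁻`: `ker sig = {1, zel}`.

`CovM.spm2k3_core`: the statement of K3 `CovM.ker_sig_of_no_neg` with the statement of T5 `CovM.ker_pi` as a hypothesis
(`CovM.spm2k3_mem_ker_sig` = own-name copy of T11 `CovM.mem_ker_sig`).  Model: `Helper29.SPNK3core`.
-/

set_option autoImplicit false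

namespace Cfsg.Agent.Lib.Lead.SPM2

open Cfsg.Agent.Lib.helper15.St2 Cfsg.Agent.Lib.helper3.STC Cfsg.Agent.Lib.Lead.STD Cfsg.Agent.Lib.helper17.STM
  Cfsg.Agent.Lib.Lead.SPN Cfsg.Agent.Lib.Helper16 Cfsg.Agent.Lib.Helper12.OMN

universe u v w

namespace CovM

variable {m : ℕ} {F : Type u} [Field F] [Fintype F] {A B : F} [Fact (∀ r : F, r ^ 2 ≠ -B + A * r)] {G : Type v} [Group G] (C : CovM m F A B G)

omit [Fintype F] in
/-- own-name copy of T11 -/
theorem spm2k3_mem_ker_sig (g : G) : g ∈ C.sig.ker ↔ C.π g ∈ Subgroup.center ↥(Cfsg.Omega F (Cfsg.quadFormMinus m F A B)) := by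
  rw [MonoidHom.mem_ker]
  unfold CovM.sig
  rw [MonoidHom.comp_apply, QuotientGroup.mk'_apply, QuotientGroup.eq_one_iff]

omit [Fintype F] in
theorem spm2k3_core (hT5 : ∀ g : G, C.π g = 1 → g = 1 ∨ g = C.zel) (hcen : OmnCenter m F A B)
    (hno : ¬ ∃ z : ↥(Cfsg.Omega F (Cfsg.quadFormMinus m F A B)), omatM z = -1) (g : G) (hg : g ∈ C.sig.ker) :
    g = 1 ∨ g = C.zel := by
  have h1 := (C.spm2k3_mem_ker_sig g).1 hg
  rcases hcen (C.π g) h1 with h | h
  · apply hT5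
    apply omatM_injective
    rw [omatM_one]
    exact h
  · exact absurd ⟨C.π g, h⟩ hno

end CovM

end Cfsg.Agent.Lib.Lead.SPM2
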