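import Mathlib
import Cfsg.Prelude.Def_Classical
import Cfsg.Prelude.Def_KGroupFacts
import Cfsg.Agent.Lib.Lead.SPM2.Defs
import Cfsg.Agent.Lib.Helper12.SPM2K3core
import Cfsg.Agent.Lib.Helper11.SPM2T5

/-!
# Project SPM2 (designer lead; S2099), row K3 `CovM.ker_sig_of_no_neg`, VERBATIM (helper12): one line on `CovM.spm2k3_core` (`Helper12.SPM2K3core`) and T5 `CovM.ker_pi`.
-/

set_option autoImplicit false

namespace Cfsg.Agent.Lib.Lead.SPM2

open Cfsg.Agent.Lib.helper15.St2 Cfsg.Agent.Lib.helper3.STC Cfsg.Agent.Lib.Lead.STD Cfsg.Agent.Lib.helper17.STM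
  Cfsg.Agent.Lib.Lead.SPN Cfsg.Agent.Lib.Helper16 Cfsg.Agent.Lib.Helper12.OMN

universe u v w

namespace CovM

variable {m : ℕ} {F : Type u} [Field F] [Fintype F] {A B : F} [Fact (∀ r : F, r ^ 2 ≠ -B + A * r)] {G : Type v} [Group G] (C : CovM m F A B G)

/-- K3 [S-M] -/
theorem ker_sig_of_no_neg (hstm : ∀ (H : Type v) [Group H], StmInjAt m F A B H) (hcen : OmnCenter m F A B)
    (hno : ¬ ∃ z : ↥(Cfsg.Omega F (Cfsg.quadFormMinus m F A B)), omatM z = -1) (g : G) (hg : g ∈ C.sig.ker) :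
    g = 1 ∨ g = C.zel :=
  C.spm2k3_core (C.ker_pi hstm) hcen hno g hg

end CovM

end Cfsg.Agent.Lib.Lead.SPM2
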