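import Mathlib
import Cfsg.Prelude.Def_Classical
import Cfsg.Prelude.Def_KGroupFacts
import Cfsg.Agent.Lib.Lead.SPM2.Defs
import Cfsg.Agent.Lib.Helper1.SPM2G1
import Cfsg.Agent.Lib.helper4.SPM2K7
import Cfsg.Agent.Lib.Helper22.SPM2M2

/-!
# Project SPM2 (lead; S2099, the multiplier of `PΩ⁻_{2l}(q)`), row M3 `s2099_core`, verbatim vs `Lead/SPM2/Skel.lean.txt`.  Writer: helper12.
Assembly of G1 `exists_covM`, K7 `CovM.ker_sig_equiv`, M1 `CovM.mult_trivial`, M2 `CovM.schur`.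
-/

set_option autoImplicit false

namespace Cfsg.Agent.Lib.Lead.SPM2

open Cfsg.Agent.Lib.helper15.St2 Cfsg.Agent.Lib.helper3.STC Cfsg.Agent.Lib.Lead.STD Cfsg.Agent.Lib.helper17.STM
  Cfsg.Agent.Lib.Lead.SPN Cfsg.Agent.Lib.Helper16

universe u v w

/-- M3 [S]  **S2099 from STM, OMN, CEM**: G1, K7, M1, M2. -/
theorem s2099_core {F : Type u} [Field F] [Fintype F] {q : ℕ} (hF : Fintype.card F = q) (m : ℕ) (hm : 3 ≤ m) (A B : F)
    (hab : ∀ z₁ z₂ : F, z₁ ^ 2 + A * z₁ * z₂ + B * z₂ ^ 2 = 0 → z₁ = 0 ∧ z₂ = 0) [Fact (∀ r : F, r ^ 2 ≠ -B + A * r)]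
    (hstm : ∀ (H : Type u) [Group H], StmInjAt m F A B H) (homn : OmnSys m F A B) (hcen : OmnCenter m F A B)
    (hcem : ∀ (G : Type u) [Group G], CemSplitAt m F A B G) :
    Cfsg.HasCyclicSchurMultiplier (Cfsg.POmega F (Cfsg.quadFormMinus m F A B)) (Nat.gcd 4 (q ^ (m + 1) + 1)) := by
  obtain ⟨G, _, C, hz⟩ := exists_covM (m := m) (F := F) (A := A) (B := B) hm homn
  exact CovM.schur C hstm homn (CovM.mult_trivial C hz hstm (hcem G)) (CovM.ker_sig_equiv C hF hab hstm hcen hz)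

end Cfsg.Agent.Lib.Lead.SPM2
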