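import Mathlib
import Cfsg.Agent.Lib.helper3.SPM.Defs
import Cfsg.Agent.Lib.helper3.SPM.Defs2
import Cfsg.Agent.Lib.Helper24.STCI1

/-!
# Project SPM (designer helper3), row T2 verbatim (helper12): the long root, Weyl and torus elements of the index `k` lie in `LB k`
-/

set_option autoImplicit false

namespace Cfsg.Agent.Lib.helper3.SPM

open Cfsg.Agent.Lib.helper3.STC Cfsg.Agent.Lib.helper3.STC.Mat Cfsg.Agent.Lib.helper17.SLP

universe u v w v'

section main
variable {F : Type u} [Field F] {ι : Type w} [Fintype ι] [DecidableEq ι] {G : Type v} [Group G]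
  (p : Pts ι) (ν : Equiv.Perm ι →* G) (lam : Sp4 F →* G)

/-- the long root elements of the index `1` of `Sp₄` lie in `B1` -/
theorem spmt2_tm_mem_B1 (a : ι ⊕ ι) (t : F) : tm (sn a 1) (sn (ng a) 1) t ∈ B1 F := by
  refine Subgroup.subset_closure ⟨sn a 1, sn (ng a) 1, t, ?_, ⟨?_, ?_⟩, rfl⟩
  · cases a <;> simp [sn, ng]
  · cases a <;> rfl
  · cases a <;> rfl

theorem xr_mem_LB (a : ι ⊕ ι) (t : F) : xr p ν lam a (ng a) t ∈ LB p ν lam (ab a) := by
  unfold xr
  rw [if_neg (ne_ng a), if_pos (ab_ng a).symm]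
  exact Subgroup.mem_map_of_mem _ (spmt2_tm_mem_B1 a t)

/-- the opposite long root element -/
theorem spmt2_xr_mem_LB' (a : ι ⊕ ι) (t : F) : xr p ν lam (ng a) a t ∈ LB p ν lam (ab a) := by
  have h := xr_mem_LB p ν lam (ng a) t
  rw [ng_ng, ab_ng] at h
  exact h

theorem wr_mem_LB (a : ι ⊕ ι) (u : F) : wr p ν lam a (ng a) u ∈ LB p ν lam (ab a) := by
  unfold wr
  exact Subgroup.mul_mem _ (Subgroup.mul_mem _ (xr_mem_LB p ν lam a u) (spmt2_xr_mem_LB' p ν lam a _))
    (xr_mem_LB p ν lam a u)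

theorem hr_mem_LB (a : ι ⊕ ι) (u : F) : hr p ν lam a (ng a) u ∈ LB p ν lam (ab a) := by
  unfold hr
  exact Subgroup.mul_mem _ (wr_mem_LB p ν lam a u) (wr_mem_LB p ν lam a (-1))

end main

end Cfsg.Agent.Lib.helper3.SPM
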