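import Mathlib
import Cfsg.Prelude.Def_LieTypeChar
import Cfsg.Prelude.Def_ChevStructure
import Cfsg.Agent.Lib.helper14.SQD.Defs
import Cfsg.Agent.S1027

/-!
# Project SQD (S4625), row C4 = FAM6 (core): `Good2 (D.group F)` for the exceptional Chevalley
groups in characteristic 2, from the statements of the rows X9, C1, C2, C3 (helper12).  The order
of `D.posUnipotent F` is S1027.
-/

set_option autoImplicit false

namespace Cfsg.Agent.Lib.helper14.SQD

open Cfsg Cfsg.Lie Matrix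

universe u v

/-- FAM6 with the statements of X9 (at `GL D.Idx F`), C1, C2, C3 as hypotheses. -/
theorem sqdc4_core {F : Type} [Field F] [Fintype F] [CharP F 2] (D : ChevalleyDatum)
    (hD : D ∈ [chevG2, chevF4, chevE6, chevE7, chevE8])
    (hX9 : ∀ (M U : Subgroup (GL D.Idx F)) [Finite M], U ≤ M → ∀ (k r : ℕ), IsPGroup 2 U →
      2 ^ k ≤ Nat.card U → Nat.card M = 2 ^ k * r → ¬ 2 ∣ r → SqD U → Good2 ↥M)
    (hC1 : SqD (D.posUnipotent F))
    (hC2 : D.posUnipotent F ≤ D.group F)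
    (hC3 : ∀ f : ℕ, Fintype.card F = 2 ^ f →
      ∃ r, Nat.card ↥(D.group F) = 2 ^ (f * (D.nroots / 2)) * r ∧ ¬ 2 ∣ r) :
    Good2 (D.group F) := by
  obtain ⟨f, -, hf⟩ := FiniteField.card F 2
  have hD' : D ∈ [chevG2, chevB2, chevD4, chevF4, chevE6, chevE7, chevE8] := by
    simp only [List.mem_cons, List.mem_nil_iff, or_false] at hD ⊢
    rcases hD with h | h | h | h | h
    · exact Or.inl h
    · exact Or.inr (Or.inr (Or.inr (Or.inl h)))
    · exact Or.inr (Or.inr (Or.inr (Or.inr (Or.inl h))))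
    · exact Or.inr (Or.inr (Or.inr (Or.inr (Or.inr (Or.inl h)))))
    · exact Or.inr (Or.inr (Or.inr (Or.inr (Or.inr (Or.inr h)))))
  have hcard : Nat.card (D.posUnipotent F) = 2 ^ ((f : ℕ) * (D.nroots / 2)) := by
    rw [Cfsg.Agent.S1027.result D hD', hf, ← pow_mul]
  obtain ⟨r, hr, hodd⟩ := hC3 (f : ℕ) hf
  have hp : IsPGroup 2 (D.posUnipotent F) := IsPGroup.of_card hcard
  exact hX9 (D.group F) (D.posUnipotent F) hC2 ((f : ℕ) * (D.nroots / 2)) r hp
    (le_of_eq hcard.symm) hr hodd hC1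

end Cfsg.Agent.Lib.helper14.SQD
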