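import Mathlib
import Cfsg.Prelude.Def_LieTypeChar
import Cfsg.Agent.Lib.helper14.SQD.Defs
import Cfsg.Agent.Lib.Lead.SQDG1
import Cfsg.Agent.Lib.Helper21.SQDOA4
import Cfsg.Agent.Lib.helper2.SQDOG1

/-!
Project SQD = S4625 (designer helper14, skeleton part O by helper24), row OG3 (helper12): `sieg_le_comm`.
-/

set_option autoImplicit false

namespace Cfsg.Agent.Lib.helper14.SQD

open Cfsg Cfsg.Lie Matrix

universe u v

section OG

variable {k : ℕ} {F : Type u} [Field F] {H : Type v} [Group H]

/-- the matrix identity behind OG3: `g * S₀ * gᵀ - S₀ = c E_ij + c E_ji` for `g = 1 + c E_il`, `S₀ = E_lj + E_jl` -/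
theorem sqdog3_mat (i j l : Fin k) (hij : i ≠ j) (hil : i ≠ l) (hlj : l ≠ j) (c : F) :
    Matrix.transvection i l c * (Matrix.single l j (1 : F) + Matrix.single j l 1) *
        tadj (RingHom.id F) (Matrix.transvection i l c) =
      (Matrix.single i j c + Matrix.single j i c) + (Matrix.single l j (1 : F) + Matrix.single j l 1) := by
  have ht : tadj (RingHom.id F) (Matrix.transvection i l c) = 1 + Matrix.single l i c := by
    unfold tadj Matrix.transvection
    have hm : ((1 + Matrix.single i l c : Matrix (Fin k) (Fin k) F).map ⇑(RingHom.id F)) =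
        1 + Matrix.single i l c := by
      ext a b
      rfl
    rw [hm, Matrix.transpose_add, Matrix.transpose_one, Matrix.transpose_single]
  rw [ht]
  unfold Matrix.transvection
  have h1 : (Matrix.single i l c : Matrix (Fin k) (Fin k) F) * Matrix.single j l 1 = 0 :=
    Matrix.single_mul_single_of_ne c i l j hlj 1
  have h2 : (Matrix.single l j (1 : F) : Matrix (Fin k) (Fin k) F) * Matrix.single l i c = 0 :=
    Matrix.single_mul_single_of_ne 1 l j l hlj.symm c
  have h3 : (Matrix.single i j c : Matrix (Fin k) (Fin k) F) * Matrix.single l i c = 0 :=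
    Matrix.single_mul_single_of_ne c i j l hlj.symm c
  have h4 : (Matrix.single i l c : Matrix (Fin k) (Fin k) F) * Matrix.single l j 1 = Matrix.single i j c := by
    rw [Matrix.single_mul_single_same, mul_one]
  have h5 : (Matrix.single j l (1 : F) : Matrix (Fin k) (Fin k) F) * Matrix.single l i c = Matrix.single j i c := by
    rw [Matrix.single_mul_single_same, one_mul]
  simp only [Matrix.mul_add, Matrix.add_mul, Matrix.mul_one, Matrix.one_mul, h1, h2, h3, h4, h5, add_zero,
    zero_add]
  abel

theorem sqdog3_S0_mem (j l : Fin k) (hlj : l ≠ j) :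
    (Matrix.single l j (1 : F) + Matrix.single j l 1 : Matrix (Fin k) (Fin k) F) ∈ altAdd k F := by
  refine ⟨?_, fun i => ?_⟩
  · rw [Matrix.transpose_add, Matrix.transpose_single, Matrix.transpose_single, add_comm]
  · rw [Matrix.add_apply, Matrix.single_apply, Matrix.single_apply]
    have h1 : ¬ (l = i ∧ j = i) := fun h => hlj (h.1.trans h.2.symm)
    have h2 : ¬ (j = i ∧ l = i) := fun h => hlj (h.2.trans h.1.symm)
    rw [if_neg h1, if_neg h2, add_zero]

open scoped commutatorElement in
/-- OG3 [M-H]. -/
theorem sieg_le_comm (φ : GL (Fin k ⊕ Fin k) F →* H) (O : Subgroup H) (hk : 3 ≤ k)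
    (hlev : ∀ g : GL (Fin k) F, φ (levHom (RingHom.id F) g) ∈ O)
    (hsieg : ∀ S ∈ altAdd k F, φ (siegHom (Multiplicative.ofAdd S)) ∈ O) :
    (siegGrp (altAdd k F)).map φ ≤ ⁅O, O⁆ := by
  -- the generators
  have hgen : ∀ (i j : Fin k), i ≠ j → ∀ c : F,
      φ (siegHom (Multiplicative.ofAdd (Matrix.single i j c + Matrix.single j i c))) ∈ ⁅O, O⁆ := by
    intro i j hij c
    -- choose `l ∉ {i, j}`
    obtain ⟨l, hli, hlj⟩ : ∃ l : Fin k, l ≠ i ∧ l ≠ j := by
      by_contra hcon
      have hcon : ∀ l : Fin k, l ≠ i → l = j := fun l hl => by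
        by_contra h
        exact hcon ⟨l, hl, h⟩
      have hsub : (Finset.univ : Finset (Fin k)) ⊆ {i, j} := by
        intro l _
        by_cases h : l = i
        · simp [h]
        · simp [hcon l h]
      have hc := Finset.card_le_card hsub
      rw [Finset.card_univ, Fintype.card_fin] at hc
      have h2 : ({i, j} : Finset (Fin k)).card ≤ 2 := Finset.card_le_two
      omega
    obtain ⟨g, hg⟩ := exists_transvection_unit (R := F) i l hli.symm c
    set S₀ : Matrix (Fin k) (Fin k) F := Matrix.single l j (1 : F) + Matrix.single j l 1 with hS₀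
    have hS₀mem : S₀ ∈ altAdd k F := sqdog3_S0_mem j l hlj
    have hconj := lev_conj_sieg (RingHom.id F) g S₀
    rw [hg, hS₀, sqdog3_mat i j l hij hli.symm hlj c, ← hS₀] at hconj
    have hcomm : ⁅levHom (RingHom.id F) g, siegHom (Multiplicative.ofAdd S₀)⁆ =
        siegHom (Multiplicative.ofAdd (Matrix.single i j c + Matrix.single j i c)) := by
      rw [commutatorElement_def, hconj, ofAdd_add, map_mul, mul_inv_cancel_right]
    rw [← hcomm, map_commutatorElement]
    exact Subgroup.commutator_mem_commutator (hlev g) (hsieg S₀ hS₀mem)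
  -- all of `altAdd`
  have hall : ∀ S ∈ altAdd k F, φ (siegHom (Multiplicative.ofAdd S)) ∈ ⁅O, O⁆ := by
    intro S hS
    have hcl := alt_mem_closure S hS
    clear hS
    induction hcl using AddSubgroup.closure_induction with
    | mem T hT =>
      obtain ⟨i, j, hij, c, rfl⟩ := hT
      exact hgen i j hij c
    | zero =>
      rw [ofAdd_zero, map_one, map_one]
      exact Subgroup.one_mem _
    | add a b _ _ ha hb =>
      rw [ofAdd_add, map_mul, map_mul]
      exact Subgroup.mul_mem _ ha hb
    | neg a _ ha =>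
      rw [ofAdd_neg, map_inv, map_inv]
      exact Subgroup.inv_mem _ ha
  rintro x ⟨y, hy, rfl⟩
  obtain ⟨s, hs, rfl⟩ := hy
  have := hall (Multiplicative.toAdd s) hs
  rwa [ofAdd_toAdd] at this

end OG

end Cfsg.Agent.Lib.helper14.SQD
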