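import Mathlib
import Cfsg.Prelude.Def_LieTypeChar
import Cfsg.Agent.Lib.helper14.SQD.Defs
import Cfsg.Agent.Lib.helper14.SQD.DefsU

/-!
# Project SQD (S4625), row UO9 (core): `Good2 (PSU (2k+1) F q)`, `q = 2 ^ e`, from the statements of
the rows UF3, UO6a, UO5, UO7, UO8, UE10, X10, X13, X14 (helper12).
-/

set_option autoImplicit false

namespace Cfsg.Agent.Lib.helper14.SQD

open Cfsg Cfsg.Lie Matrix

universe u v

/-- the exponent of 2 in the order of `PSU_{2k+1}(2^e)` -/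
theorem sqduo9_arith (k : ℕ) :
    2 * k + k ^ 2 + 2 * (k * (k - 1) / 2) = (k + k + 1) * (k + k + 1 - 1) / 2 := by
  have h1 : 2 * (k * (k - 1) / 2) = k * (k - 1) :=
    Nat.two_mul_div_two_of_even (Nat.even_mul_pred_self k)
  have h2 : (k + k + 1) * (k + k + 1 - 1) = 2 * ((k + k + 1) * k) := by
    rw [Nat.add_sub_cancel]
    ring
  rw [h1, h2, Nat.mul_div_cancel_left _ (by norm_num : 0 < 2)]
  cases k with
  | zero => rfl
  | succ j =>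
    rw [Nat.add_sub_cancel]
    ring

/-- UO9 with the statements of UF3, UO6a, UO5, UO7, UO8, UE10 (at `n = 2k+1`), X10, X13, X14 as
hypotheses. -/
theorem sqduo9_core {F : Type} [Field F] [Fintype F] [CharP F 2] (e : ℕ) (k : ℕ)
    (hUF3 : ∃ a : F, a ^ 2 ^ e + a = 1)
    (hUO6a : ∀ a : F, Function.Injective (psiO (k := k) (F := F) (2 ^ e) a))
    (hUO5 : IsPGroup 2 ↥(suOddGrp (k := k) (frobE F e)) ∧
      (2 ^ e) ^ (2 * k + k ^ 2) * ((2 ^ e) ^ 2) ^ (k * (k - 1) / 2) ≤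
        Nat.card ↥(suOddGrp (k := k) (frobE F e)) ∧ SqD (suOddGrp (k := k) (frobE F e)))
    (hUO7 : ∀ a : F, a ^ 2 ^ e + a = 1 →
      suOddGrp (k := k) (frobE F e) ≤ (psiO (k := k) (F := F) (2 ^ e) a).range)
    (hUO8 : ∀ a : F, a ^ 2 ^ e + a = 1 → ∀ z : GL ((Fin k ⊕ Fin k) ⊕ Fin 1) F,
      z ∈ suOddGrp (k := k) (frobE F e) →
      (∀ h ∈ (psiO (k := k) (F := F) (2 ^ e) a).range, h * z = z * h) → z = 1)
    (hUE10 : ∃ r, Nat.card (PSU (k + k + 1) F (2 ^ e)) =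
      2 ^ (e * ((k + k + 1) * (k + k + 1 - 1) / 2)) * r ∧ ¬ 2 ∣ r)
    (hX10 : ∀ (N : Subgroup ↥(SU (k + k + 1) F (2 ^ e))) [N.Normal]
      (U : Subgroup ↥(SU (k + k + 1) F (2 ^ e))) (k' r : ℕ), IsPGroup 2 U → 2 ^ k' ≤ Nat.card U →
      U ⊓ N = ⊥ → Nat.card (↥(SU (k + k + 1) F (2 ^ e)) ⧸ N) = 2 ^ k' * r → ¬ 2 ∣ r → SqD U →
      Good2 (↥(SU (k + k + 1) F (2 ^ e)) ⧸ N))
    (hX13 : ∀ f : ↥(SU (k + k + 1) F (2 ^ e)) →* GL ((Fin k ⊕ Fin k) ⊕ Fin 1) F,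
      Function.Injective f → ∀ K : Subgroup (GL ((Fin k ⊕ Fin k) ⊕ Fin 1) F), K ≤ f.range →
      SqD K → SqD (K.comap f))
    (hX14 : ∀ f : ↥(SU (k + k + 1) F (2 ^ e)) →* GL ((Fin k ⊕ Fin k) ⊕ Fin 1) F,
      Function.Injective f → ∀ K : Subgroup (GL ((Fin k ⊕ Fin k) ⊕ Fin 1) F), K ≤ f.range →
      Nat.card (K.comap f) = Nat.card K) :
    Good2 (PSU (k + k + 1) F (2 ^ e)) := by
  obtain ⟨a, ha⟩ := hUF3
  have hinj := hUO6a a
  have hle := hUO7 a ha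
  obtain ⟨hp, hcard, hsq⟩ := hUO5
  obtain ⟨r, hr, hodd⟩ := hUE10
  have hUp : IsPGroup 2 ((suOddGrp (k := k) (frobE F e)).comap (psiO (k := k) (F := F) (2 ^ e) a)) :=
    hp.comap_of_injective _ hinj
  have hUcard := hX14 _ hinj _ hle
  have hUsq := hX13 _ hinj _ hle hsq
  have hZ : (suOddGrp (k := k) (frobE F e)).comap (psiO (k := k) (F := F) (2 ^ e) a) ⊓
      Subgroup.center ↥(SU (k + k + 1) F (2 ^ e)) = ⊥ := by
    rw [eq_bot_iff]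
    intro z hz
    obtain ⟨hzU, hzc⟩ := Subgroup.mem_inf.mp hz
    rw [Subgroup.mem_bot]
    apply hinj
    rw [map_one]
    apply hUO8 a ha _ (Subgroup.mem_comap.mp hzU)
    rintro h ⟨y, rfl⟩
    rw [← map_mul, ← map_mul]
    congr 1
    exact Subgroup.mem_center_iff.mp hzc y
  have hge : 2 ^ (e * ((k + k + 1) * (k + k + 1 - 1) / 2)) ≤
      Nat.card ↥((suOddGrp (k := k) (frobE F e)).comap (psiO (k := k) (F := F) (2 ^ e) a)) := by
    rw [hUcard]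
    refine le_trans (le_of_eq ?_) hcard
    rw [← sqduo9_arith k, pow_mul, pow_add, pow_mul ((2:ℕ) ^ e) 2]
  exact hX10 (Subgroup.center _) _ _ r hUp hge hZ hr hodd hUsq

end Cfsg.Agent.Lib.helper14.SQD
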