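import Mathlib
import Cfsg.Agent.Lib.helper15.St2
import Cfsg.Agent.Lib.helper7.StA
import Cfsg.Agent.Lib.helper7.StC
import Cfsg.Agent.Lib.helper7.StE
import Cfsg.Agent.Lib.helper3.STC.Defs
import Cfsg.Agent.Lib.helper3.STC.Defs2
import Cfsg.Agent.Lib.helper3.STC.Defs3
import Cfsg.Agent.Lib.helper3.STC.Sub
import Cfsg.Agent.Lib.Helper21.STCM.Vec
import Cfsg.Agent.Lib.Helper28.STCF18
import Cfsg.Agent.Lib.Helper29.STCA2
import Cfsg.Agent.Lib.helper2.STCK1
import Cfsg.Agent.Lib.helper4.STCJ2
import Cfsg.Agent.Lib.helper23.STCJ3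
import Cfsg.Agent.Lib.Helper22.STCJ7

/-!
# Project STC (designer helper3), row K2 verbatim (helper12): `ker_trivial_aux`, induction on the rank
-/

set_option autoImplicit false

namespace Cfsg.Agent.Lib.helper3.STC

open Cfsg.Agent.Lib.helper15.St2 Cfsg.Agent.Lib.helper7.St Matrix

universe v w

open SysC

theorem ker_trivial_aux {K : Type*} [Field K] [Finite K] {l : Type*} [Fintype l] [DecidableEq l] :
    ∀ (m : ℕ) (ι : Type v) [Finite ι] (G : Type w) [Group G] (S : SysC K ι G) (R : S.Rep l),
      Nat.card ι = m → S.XQ (fun _ _ => True) = ⊤ → ∀ g, R.φ g = 1 → g = 1 := by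
  intro m
  induction m with
  | zero =>
    intro ι _ G _ S R hcard hgen g _
    have : IsEmpty ι := (Nat.card_eq_zero.1 hcard).resolve_right (not_infinite_iff_finite.2 ‹_›)
    have hg : g ∈ S.XQ (fun _ _ => True) := by rw [hgen]; exact Subgroup.mem_top g
    rw [S.XQ_eq_bot_of_isEmpty] at hg
    exact Subgroup.mem_bot.1 hg
  | succ m ih =>
    intro ι _ G _ S R hcard hgen g hg
    classical
    have hne : Nonempty ι := by
      by_contra h
      rw [not_nonempty_iff] at h
      rw [Nat.card_of_isEmpty] at hcard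
      omega
    obtain ⟨i₀⟩ := hne
    have hsub : ∀ i : ι, ∀ x ∈ S.Lg (Sum.inl i), R.φ x = 1 → x = 1 := by
      intro i x hx hφx
      have hc : Nat.card {j // j ≠ i} = m := by
        have := Fintype.ofFinite ι
        rw [Nat.card_eq_fintype_card] at hcard ⊢
        rw [Fintype.card_subtype_compl, Fintype.card_subtype_eq, hcard]
        rfl
      have := ih {j // j ≠ i} (S.Lg (Sum.inl i)) (S.sub i) (R.sub i) hc (S.sub_gen i) ⟨x, hx⟩ hφx
      exact congrArg Subtype.val this
    have hW : S.HW := S.hW_all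
    have hH : S.HH := S.hH_all
    have hYfix : ∀ y ∈ S.Yg (Sum.inl i₀),
        R.M y *ᵥ ev (Em R.e (Sum.inl i₀)) = ev (Em R.e (Sum.inl i₀)) → y = 1 := by
      by_cases hm : m = 0
      · have : Subsingleton ι := by
          rw [hm] at hcard
          exact (Nat.card_eq_one_iff_unique.1 hcard).1
        intro y hy h
        exact R.Y_fix_eq_one_of_subsingleton (Sum.inl i₀) hy h
      · have hnt : Nontrivial ι := by
          rw [← Finite.one_lt_card_iff_nontrivial, hcard]
          omega
        obtain ⟨i₁, hi₁⟩ := exists_ne i₀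
        intro y hy h
        refine R.Y_fix_eq_one (Sum.inl i₀) (o' := Sum.inl i₁) ?_ ?_ (hsub i₁) hy h
        · intro e
          exact hi₁ (Sum.inl.inj e)
        · intro e
          cases e
    exact R.ker_trivial (Sum.inl i₀) hW (fun g => S.InD_all (Sum.inl i₀) hW hH hgen g)
      (S.Phat_decomp (Sum.inl i₀) hW hH) hYfix (hsub i₀) g hg

end Cfsg.Agent.Lib.helper3.STC
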