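import Mathlib
import Cfsg.Agent.Lib.Helper28.STDK3

/-!
# Project STD (designer lead), row K3: `SysD.Rep.injective` is landed verbatim in `Cfsg.Agent.Lib.Helper28.STDK3`
(helper28 was first); this module only re-exports it, so that importing either module gives the same declaration (no name clash).
-/
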