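import Mathlib
import Cfsg.Agent.Lib.helper15.St2
import Cfsg.Agent.Lib.Helper24.STCI1
import Cfsg.Agent.Lib.Helper27.STU.Defs
import Cfsg.Agent.Lib.Helper27.STU.Defs2

/-!
# STU V7: the long Weyl element of `a` on the half root subgroup of `b` (`cj_wl_lb`), verbatim

Self-contained on the `SysU` axioms (own-name copies `stuv7_cj_hh`, `stuv7_cj_ls`, `stuv7_cj_comm_ls` of the B3 statements used).
Normal form `stuv7_nf a b s t ζ = xs a (ng b) s * xs (ng a) (ng b) t * xl b ζ` with its multiplication rule `stuv7_nf_mul`.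
-/

set_option autoImplicit false

namespace Cfsg.Agent.Lib.Helper27.STU

open Cfsg.Agent.Lib.helper15.St2 Cfsg.Agent.Lib.helper3.STC

namespace SysU

variable {F : Type*} [Field F] [StarRing F] {od : Prop} {ι : Type*} {G : Type*} [Group G] (S : SysU F od ι G)

/-- statement of B3 `cj_comm_ls` -/
theorem stuv7_cj_comm_ls {a c d : ι ⊕ ι} (hcd : c ≠ d) (hcd' : c ≠ ng d) (hca : c ≠ ng a) (hda : d ≠ a) (ξ : Lam F od) (u : F) :
    cj (S.xl a ξ) (S.xs c d u) = S.xs c d u := by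
  unfold cj
  rw [S.comm_ls a c d hcd hcd' hca hda ξ u]
  group

/-- statement of B3 `cj_ls` -/
theorem stuv7_cj_ls {a b : ι ⊕ ι} (hab : a ≠ b) (hab' : a ≠ ng b) (ξ : Lam F od) (u : F) :
    cj (S.xl a ξ) (S.xs (ng a) b u) =
      S.xs a b (ξ.c * u) * S.xl (ng b) (Lam.act (star u) (Lam.bar ξ)) * S.xs (ng a) b u := by
  unfold cj
  rw [← S.ls a b hab hab' ξ u]
  group

/-- statement of B3 `cj_hh` -/
theorem stuv7_cj_hh {a b : ι ⊕ ι} (hab : a ≠ b) (hab' : a ≠ ng b) (ξ η : Lam F od) :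
    cj (S.xl a ξ) (S.xl b η) = S.xs a (ng b) (-(ξ.v * star η.v)) * S.xl b η := by
  unfold cj
  rw [← S.hh a b hab hab' ξ η]
  group

/-- statement of B1 `xs_zero` -/
theorem stuv7_xs_zero {a b : ι ⊕ ι} (hab : a ≠ b) (hab' : a ≠ ng b) : S.xs a b 0 = 1 := by
  have h := S.adds a b hab hab' 0 0
  rw [add_zero] at h
  exact mul_eq_left.mp h

/-- statement of B1 `xl_one` -/
theorem stuv7_xl_one (a : ι ⊕ ι) : S.xl a 1 = 1 := by
  have h := S.addl a 1 1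
  rw [mul_one] at h
  exact mul_eq_left.mp h

/-- the normal form in the group generated by `xs a (ng b)`, `xs (ng a) (ng b)`, `xl b` -/
def stuv7_nf (a b : ι ⊕ ι) (s t : F) (ζ : Lam F od) : G :=
  S.xs a (ng b) s * S.xs (ng a) (ng b) t * S.xl b ζ

theorem stuv7_nf_mul {a b : ι ⊕ ι} (hab : a ≠ b) (hab' : a ≠ ng b) (s t : F) (ζ : Lam F od) (s' t' : F) (ζ' : Lam F od) :
    S.stuv7_nf a b s t ζ * S.stuv7_nf a b s' t' ζ' =
      S.stuv7_nf a b (s + s') (t + t') (Lam.tr (-(star t) * s') * ζ * ζ') := by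
  have hnb : ng (ng b) = b := ng_ng b
  have hna : ng (ng a) = a := ng_ng a
  have h1 : a ≠ ng (ng b) := by rwa [hnb]
  have h2 : ng a ≠ ng b := fun h => hab (ng_inj.mp h)
  have h3' : ng a ≠ b := fun h => hab' (by rw [← h, hna])
  have h3 : ng a ≠ ng (ng b) := by rwa [hnb]
  have hba : b ≠ a := hab.symm
  have hba' : b ≠ ng a := h3'.symm
  have hLA : ∀ (ζ : Lam F od) (s : F) (X : G), S.xl b ζ * (S.xs a (ng b) s * X) = S.xs a (ng b) s * (S.xl b ζ * X) := by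
    intro ζ s X
    rw [← mul_assoc, S.comm_ls b a (ng b) hab' h1 hab' (ng_ne b) ζ s, mul_assoc]
  have hLN : ∀ (ζ : Lam F od) (s : F) (X : G), S.xl b ζ * (S.xs (ng a) (ng b) s * X) = S.xs (ng a) (ng b) s * (S.xl b ζ * X) := by
    intro ζ s X
    rw [← mul_assoc, S.comm_ls b (ng a) (ng b) h2 h3 h2 (ng_ne b) ζ s, mul_assoc]
  have hNA : ∀ (t s : F) (X : G), S.xs (ng a) (ng b) t * (S.xs a (ng b) s * X) =
      S.xs a (ng b) s * (S.xs (ng a) (ng b) t * (S.xl b (Lam.tr (-(star t) * s)) * X)) := by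
    intro t s X
    have e1 : S.xs (ng a) (ng b) t = S.xs b a (-(star t)) := by
      rw [S.sym (ng a) (ng b) h2 h3 t, hnb, hna]
    have e2 := S.ssl b a hba hba' (-(star t)) s
    rw [← e1] at e2
    rw [← hLN, ← hLA, ← e2]
    group
  unfold stuv7_nf
  simp only [mul_assoc]
  rw [hLA ζ s', hNA t s', hLN ζ t', hLN _ t', ← S.adds a (ng b) hab' h1 s s', ← S.adds (ng a) (ng b) h2 h3 t t',
    ← S.addl, ← S.addl]
  simp only [mul_assoc]

theorem stuv7_nf_L {a b : ι ⊕ ι} (hab : a ≠ b) (hab' : a ≠ ng b) (ζ : Lam F od) :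
    S.stuv7_nf a b 0 0 ζ = S.xl b ζ := by
  have hnb : ng (ng b) = b := ng_ng b
  have hna : ng (ng a) = a := ng_ng a
  have h1 : a ≠ ng (ng b) := by rwa [hnb]
  have h2 : ng a ≠ ng b := fun h => hab (ng_inj.mp h)
  have h3' : ng a ≠ b := fun h => hab' (by rw [← h, hna])
  have h3 : ng a ≠ ng (ng b) := by rwa [hnb]
  unfold stuv7_nf
  rw [S.stuv7_xs_zero hab' h1, S.stuv7_xs_zero h2 h3, one_mul, one_mul]

theorem stuv7_nf_A {a b : ι ⊕ ι} (hab : a ≠ b) (hab' : a ≠ ng b) (s : F) :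
    S.stuv7_nf a b s 0 (1 : Lam F od) = S.xs a (ng b) s := by
  have hnb : ng (ng b) = b := ng_ng b
  have hna : ng (ng a) = a := ng_ng a
  have h2 : ng a ≠ ng b := fun h => hab (ng_inj.mp h)
  have h3' : ng a ≠ b := fun h => hab' (by rw [← h, hna])
  have h3 : ng a ≠ ng (ng b) := by rwa [hnb]
  unfold stuv7_nf
  rw [S.stuv7_xs_zero h2 h3, S.stuv7_xl_one, mul_one, mul_one]

theorem stuv7_nf_N {a b : ι ⊕ ι} (hab : a ≠ b) (hab' : a ≠ ng b) (t : F) :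
    S.stuv7_nf a b 0 t (1 : Lam F od) = S.xs (ng a) (ng b) t := by
  have hnb : ng (ng b) = b := ng_ng b
  have h1 : a ≠ ng (ng b) := by rwa [hnb]
  unfold stuv7_nf
  rw [S.stuv7_xs_zero hab' h1, S.stuv7_xl_one, mul_one, one_mul]

/-- step 1 and the `xl b` part of step 3 -/
theorem stuv7_step_hh {a b : ι ⊕ ι} (hab : a ≠ b) (hab' : a ≠ ng b) (ρ ζ : Lam F od) :
    cj (S.xl a ρ) (S.xl b ζ) = S.stuv7_nf a b (-(ρ.v * star ζ.v)) 0 ζ := by
  have hnb : ng (ng b) = b := ng_ng b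
  have hna : ng (ng a) = a := ng_ng a
  have h2 : ng a ≠ ng b := fun h => hab (ng_inj.mp h)
  have h3' : ng a ≠ b := fun h => hab' (by rw [← h, hna])
  have h3 : ng a ≠ ng (ng b) := by rwa [hnb]
  rw [S.stuv7_cj_hh hab hab' ρ ζ]
  unfold stuv7_nf
  rw [S.stuv7_xs_zero h2 h3, mul_one]

/-- step 3 -/
theorem stuv7_step_a {a b : ι ⊕ ι} (hab : a ≠ b) (hab' : a ≠ ng b) (ρ : Lam F od) (s : F) (ζ : Lam F od) :
    cj (S.xl a ρ) (S.stuv7_nf a b s 0 ζ) = S.stuv7_nf a b (s - ρ.v * star ζ.v) 0 ζ := by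
  have hnb : ng (ng b) = b := ng_ng b
  have hna : ng (ng a) = a := ng_ng a
  have h1 : a ≠ ng (ng b) := by rwa [hnb]
  have h2 : ng a ≠ ng b := fun h => hab (ng_inj.mp h)
  have h3' : ng a ≠ b := fun h => hab' (by rw [← h, hna])
  have h3 : ng a ≠ ng (ng b) := by rwa [hnb]
  have e : S.stuv7_nf a b s 0 ζ = S.xs a (ng b) s * S.xl b ζ := by
    unfold stuv7_nf
    rw [S.stuv7_xs_zero h2 h3, mul_one]
  rw [e, cj_mul, S.stuv7_cj_comm_ls hab' h1 (ne_ng a) hab'.symm ρ s, S.stuv7_step_hh hab hab' ρ ζ,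
    ← S.stuv7_nf_A hab hab' s, S.stuv7_nf_mul hab hab']
  congr 1
  · ring
  · ring
  · ext
    · simp
    · simp

/-- step 2 -/
theorem stuv7_step_na {a b : ι ⊕ ι} (hab : a ≠ b) (hab' : a ≠ ng b) (ρ : Lam F od) (s : F) (ζ : Lam F od) :
    cj (S.xl (ng a) ρ) (S.stuv7_nf a b s 0 ζ) =
      S.stuv7_nf a b s (ρ.c * s - ρ.v * star ζ.v)
        (Lam.tr (-(star (ρ.c * s)) * s) * Lam.act (star s) (Lam.bar ρ) * ζ) := by
  have hnb : ng (ng b) = b := ng_ng b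
  have hna : ng (ng a) = a := ng_ng a
  have h1 : a ≠ ng (ng b) := by rwa [hnb]
  have h2 : ng a ≠ ng b := fun h => hab (ng_inj.mp h)
  have h3' : ng a ≠ b := fun h => hab' (by rw [← h, hna])
  have h3 : ng a ≠ ng (ng b) := by rwa [hnb]
  have e : S.stuv7_nf a b s 0 ζ = S.xs a (ng b) s * S.xl b ζ := by
    unfold stuv7_nf
    rw [S.stuv7_xs_zero h2 h3, mul_one]
  have e1 : cj (S.xl (ng a) ρ) (S.xs a (ng b) s) =
      S.xs (ng a) (ng b) (ρ.c * s) * S.xl b (Lam.act (star s) (Lam.bar ρ)) * S.xs a (ng b) s := by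
    have h := S.stuv7_cj_ls h2 h3 ρ s
    rw [hna, hnb] at h
    exact h
  have e2 : cj (S.xl (ng a) ρ) (S.xl b ζ) = S.xs (ng a) (ng b) (-(ρ.v * star ζ.v)) * S.xl b ζ :=
    S.stuv7_cj_hh h3' h2 ρ ζ
  rw [e, cj_mul, e1, e2, ← S.stuv7_nf_N hab hab', ← S.stuv7_nf_L hab hab', ← S.stuv7_nf_A hab hab',
    ← S.stuv7_nf_N hab hab' (-(ρ.v * star ζ.v)), ← S.stuv7_nf_L hab hab' ζ]
  simp only [S.stuv7_nf_mul hab hab']
  congr 1
  · ring
  · ring
  · ext
    · simp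
    · simp

/-- V7 -/
theorem cj_wl_lb {a b : ι ⊕ ι} (hab : a ≠ b) (hab' : a ≠ ng b) {ξ : Lam F od} (hc : ξ.c ≠ 0) (η : Lam F od) :
    cj (S.wl a ξ) (S.xl b η) = S.xl b (Lam.act (-(ξ.c / star ξ.c)) η) := by
  have hc' : star ξ.c ≠ 0 := fun h => hc (by simpa using congrArg star h)
  unfold wl
  rw [← cj_cj, ← cj_cj, S.stuv7_step_hh hab hab', S.stuv7_step_na hab hab']
  have ht : (Lam.mu ξ).c * -((Lam.nu ξ).v * star η.v) - (Lam.mu ξ).v * star η.v = 0 := by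
    simp only [Lam.mu_c, Lam.mu_v, Lam.nu_v]
    field_simp
    ring
  have hζ : Lam.tr (-star ((Lam.mu ξ).c * -((Lam.nu ξ).v * star η.v)) * -((Lam.nu ξ).v * star η.v)) *
        Lam.act (star (-((Lam.nu ξ).v * star η.v))) (Lam.bar (Lam.mu ξ)) * η =
      Lam.act (-(ξ.c / star ξ.c)) η := by
    ext
    · simp only [Lam.mul_v, Lam.tr_v, Lam.act_v, Lam.bar_v, Lam.mu_v, Lam.nu_v, star_neg, star_mul', star_div₀,
        star_star, zero_add]
      field_simp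
      linear_combination η.v * ξ.h
    · simp only [Lam.mul_v, Lam.mul_c, Lam.tr_v, Lam.tr_c, Lam.act_v, Lam.act_c, Lam.bar_v, Lam.bar_c, Lam.mu_v,
        Lam.mu_c, Lam.nu_v, star_neg, star_mul', star_div₀, star_star, star_inv₀, zero_add, zero_mul, sub_zero]
      field_simp
      ring
  rw [ht, S.stuv7_step_a hab hab', ← S.stuv7_nf_L hab hab', hζ]
  congr 1
  simp only [Lam.act_v, Lam.nu_v, star_neg, star_mul', star_div₀, star_star]
  field_simp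
  ring

end SysU

end Cfsg.Agent.Lib.Helper27.STU
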