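import Mathlib
import Cfsg.Agent.Lib.helper15.St2
import Cfsg.Agent.Lib.helper7.StA
import Cfsg.Agent.Lib.helper7.StC
import Cfsg.Agent.Lib.Helper24.STCI1
import Cfsg.Agent.Lib.Helper27.STU.Defs
import Cfsg.Agent.Lib.Helper27.STU.Defs2
import Cfsg.Agent.Lib.Helper12.STUV7

/-!
# STU N2 (verbatim, helper12): a root element of the Levi factor normalises `Yg o` and `Ag o`

Port of `Helper12.STCN2`.  Self-contained on the `SysU` axioms: own-name copies `stun2_*` (and `stuv7_*` of module `Helper12.STUV7`)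
of the statements of B1 / B3 / N1 that are used.
-/

set_option autoImplicit false

namespace Cfsg.Agent.Lib.Helper27.STU

open Cfsg.Agent.Lib.helper15.St2 Cfsg.Agent.Lib.helper7.St Cfsg.Agent.Lib.helper3.STC

namespace SysU

variable {F : Type*} [Field F] [StarRing F] {od : Prop} {ι : Type*} {G : Type*} [Group G] (S : SysU F od ι G)

/-- statement of B1 `xs_neg` -/
theorem stun2_xs_neg {a b : ι ⊕ ι} (hab : a ≠ b) (hab' : a ≠ ng b) (t : F) : S.xs a b (-t) = (S.xs a b t)⁻¹ := by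
  have h := S.adds a b hab hab' (-t) t
  rw [neg_add_cancel, S.stuv7_xs_zero hab hab'] at h
  exact eq_inv_of_mul_eq_one_left h

/-- statement of B3 `cj_comm_ss` -/
theorem stun2_cj_comm_ss {a b c d : ι ⊕ ι} (hab : a ≠ b) (hab' : a ≠ ng b) (hcd : c ≠ d) (hcd' : c ≠ ng d) (hbc : b ≠ c) (had : a ≠ d)
    (hbd : b ≠ ng d) (hac : a ≠ ng c) (t u : F) : cj (S.xs a b t) (S.xs c d u) = S.xs c d u := by
  unfold cj
  rw [S.comm_ss a b c d hab hab' hcd hcd' hbc had hbd hac t u]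
  group

/-- statement of B3 `cj_comm_sl` -/
theorem stun2_cj_comm_sl {a c d : ι ⊕ ι} (hcd : c ≠ d) (hcd' : c ≠ ng d) (hca : c ≠ ng a) (hda : d ≠ a) (ξ : Lam F od) (u : F) :
    cj (S.xs c d u) (S.xl a ξ) = S.xl a ξ := by
  unfold cj
  rw [← S.comm_ls a c d hcd hcd' hca hda ξ u]
  group

/-- statement of B3 `cj3` -/
theorem stun2_cj3 {a b c : ι ⊕ ι} (hab : a ≠ b) (hab' : a ≠ ng b) (hbc : b ≠ c) (hbc' : b ≠ ng c)
    (hac : a ≠ c) (hac' : a ≠ ng c) (t u : F) :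
    cj (S.xs a b t) (S.xs b c u) = S.xs a c (t * u) * S.xs b c u := by
  unfold cj
  rw [← S.comm3 a b c hab hab' hbc hbc' hac hac' t u]
  group

/-- statement of B3 `cj3'` -/
theorem stun2_cj3' {a b c : ι ⊕ ι} (hab : a ≠ b) (hab' : a ≠ ng b) (hca : c ≠ a) (hca' : c ≠ ng a)
    (hcb : c ≠ b) (hcb' : c ≠ ng b) (t u : F) :
    cj (S.xs a b t) (S.xs c a u) = S.xs c b (-(u * t)) * S.xs c a u := by
  have h := S.comm3 c a b hca hca' hab hab' hcb hcb' u t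
  rw [S.stun2_xs_neg hcb hcb', ← h]
  unfold cj
  group

/-- statement of N1 `xs_mem_Yg` -/
theorem stun2_xs_mem_Yg {o a : ι ⊕ ι} (ha : a ≠ o) (ha' : a ≠ ng o) (t : F) : S.xs a o t ∈ S.Yg o :=
  Subgroup.subset_closure (Or.inl ⟨a, o, t, ha, ha', rfl, rfl⟩)

/-- statement of N1 `xs_mem_Yg'` -/
theorem stun2_xs_mem_Yg' {o b : ι ⊕ ι} (hb : b ≠ o) (hb' : b ≠ ng o) (t : F) : S.xs (ng o) b t ∈ S.Yg o := by
  rw [S.sym (ng o) b (fun h => hb' h.symm) (fun h => hb (ng_inj.mp h).symm) t, ng_ng]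
  exact S.stun2_xs_mem_Yg (fun h => hb' (by rw [← h, ng_ng])) (fun h => hb (ng_inj.mp h)) _

/-- statement of N1 `xl_mem_Yg` -/
theorem stun2_xl_mem_Yg (o : ι ⊕ ι) (ξ : Lam F od) : S.xl (ng o) ξ ∈ S.Yg o :=
  Subgroup.subset_closure (Or.inr ⟨ng o, ξ, ng_ng o, rfl⟩)

/-- statement of N1 `xs_mem_Ag` -/
theorem stun2_xs_mem_Ag {o b : ι ⊕ ι} (hb : b ≠ o) (hb' : b ≠ ng o) (t : F) : S.xs o b t ∈ S.Ag o :=
  Subgroup.subset_closure (Or.inl ⟨o, b, t, hb.symm, fun h => hb' (by rw [h, ng_ng]), rfl, rfl⟩)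

/-- statement of N1 `xs_mem_Ag'` -/
theorem stun2_xs_mem_Ag' {o a : ι ⊕ ι} (ha : a ≠ o) (ha' : a ≠ ng o) (t : F) : S.xs a (ng o) t ∈ S.Ag o := by
  rw [S.sym a (ng o) ha' (by rw [ng_ng]; exact ha) t, ng_ng]
  exact S.stun2_xs_mem_Ag (fun h => ha' (by rw [← h, ng_ng])) (fun h => ha (ng_inj.mp h)) _

/-- statement of N1 `xl_mem_Ag` -/
theorem stun2_xl_mem_Ag (o : ι ⊕ ι) (ξ : Lam F od) : S.xl o ξ ∈ S.Ag o :=
  Subgroup.subset_closure (Or.inr ⟨o, ξ, rfl, rfl⟩)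

section N
variable (o : ι ⊕ ι)

/-- N2 [M] -/
theorem xs_cj_mem_Yg {a b : ι ⊕ ι} (hab : a ≠ b) (hab' : a ≠ ng b) (ha : a ≠ o) (ha' : a ≠ ng o) (hb : b ≠ o) (hb' : b ≠ ng o) (t : F) :
    ∀ y ∈ S.Yg o, cj (S.xs a b t) y ∈ S.Yg o := by
  apply cj_mem_of_gens
  rintro _ (⟨c, d, u, hcd, hcd', hdo, rfl⟩ | ⟨c, ξ, hco, rfl⟩)
  · change d = o at hdo
    rw [hdo] at hcd hcd' ⊢
    by_cases hbc : b = c
    · rw [← hbc]
      rw [S.stun2_cj3 hab hab' hb hb' ha ha' t u]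
      exact (S.Yg o).mul_mem (S.stun2_xs_mem_Yg ha ha' _) (S.stun2_xs_mem_Yg hb hb' _)
    · by_cases hac : a = ng c
      · have hca : ng c = a := hac.symm
        have hz : S.xs c o u ∈ S.Yg o := S.stun2_xs_mem_Yg hcd hcd' u
        have hsym := S.sym c o hcd hcd' u
        rw [hca] at hsym
        rw [hsym] at hz ⊢
        rw [S.stun2_cj3' hab hab' (fun h => ha' h.symm) (fun h => ha (ng_inj.mp h).symm)
          (fun h => hb' h.symm) (fun h => hb (ng_inj.mp h).symm) t _]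
        exact (S.Yg o).mul_mem (S.stun2_xs_mem_Yg' hb hb' _) hz
      · rw [S.stun2_cj_comm_ss hab hab' hcd hcd' hbc ha hb' hac t u]
        exact S.stun2_xs_mem_Yg hcd hcd' u
  · change ng c = o at hco
    have hc : c = ng o := by rw [← hco, ng_ng]
    rw [hc]
    rw [S.stun2_cj_comm_sl hab hab' (by rw [ng_ng]; exact ha) hb' ξ t]
    exact S.stun2_xl_mem_Yg o ξ

theorem xl_cj_mem_Yg {a : ι ⊕ ι} (ha : a ≠ o) (ha' : a ≠ ng o) (η : Lam F od) : ∀ y ∈ S.Yg o, cj (S.xl a η) y ∈ S.Yg o := by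
  apply cj_mem_of_gens
  rintro _ (⟨c, d, u, hcd, hcd', hdo, rfl⟩ | ⟨c, ξ, hco, rfl⟩)
  · change d = o at hdo
    rw [hdo] at hcd hcd' ⊢
    by_cases hca : c = ng a
    · rw [hca, S.stuv7_cj_ls ha ha' η u]
      refine (S.Yg o).mul_mem ((S.Yg o).mul_mem (S.stun2_xs_mem_Yg ha ha' _) (S.stun2_xl_mem_Yg o _)) ?_
      rw [← hca]
      exact S.stun2_xs_mem_Yg hcd hcd' u
    · rw [S.stuv7_cj_comm_ls hcd hcd' hca ha.symm η u]
      exact S.stun2_xs_mem_Yg hcd hcd' u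
  · change ng c = o at hco
    have hc : c = ng o := by rw [← hco, ng_ng]
    rw [hc, S.stuv7_cj_hh ha' (by rw [ng_ng]; exact ha) η ξ, ng_ng]
    exact (S.Yg o).mul_mem (S.stun2_xs_mem_Yg ha ha' _) (S.stun2_xl_mem_Yg o ξ)

theorem xs_cj_mem_Ag {a b : ι ⊕ ι} (hab : a ≠ b) (hab' : a ≠ ng b) (ha : a ≠ o) (ha' : a ≠ ng o) (hb : b ≠ o) (hb' : b ≠ ng o) (t : F) :
    ∀ y ∈ S.Ag o, cj (S.xs a b t) y ∈ S.Ag o := by
  apply cj_mem_of_gens
  rintro _ (⟨c, d, u, hcd, hcd', hco, rfl⟩ | ⟨c, ξ, hco, rfl⟩)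
  · change c = o at hco
    rw [hco] at hcd hcd' ⊢
    have hd : d ≠ o := hcd.symm
    have hd' : d ≠ ng o := fun h => hcd' (by rw [h, ng_ng])
    have hz : S.xs o d u ∈ S.Ag o := S.stun2_xs_mem_Ag hd hd' u
    by_cases hda : d = a
    · rw [hda] at hz ⊢
      rw [S.stun2_cj3' hab hab' ha.symm (fun h => ha' (by rw [h, ng_ng])) hb.symm
        (fun h => hb' (by rw [h, ng_ng])) t u]
      exact (S.Ag o).mul_mem (S.stun2_xs_mem_Ag hb hb' _) hz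
    · by_cases hbd : b = ng d
      · have hsym := S.sym o d hcd hcd' u
        rw [← hbd] at hsym
        rw [hsym] at hz ⊢
        rw [S.stun2_cj3 hab hab' hb' (by rw [ng_ng]; exact hb) ha' (by rw [ng_ng]; exact ha) t _]
        exact (S.Ag o).mul_mem (S.stun2_xs_mem_Ag' ha ha' _) hz
      · rw [S.stun2_cj_comm_ss hab hab' hcd hcd' hb (fun h => hda h.symm) hbd ha' t u]
        exact hz
  · change c = o at hco
    rw [hco, S.stun2_cj_comm_sl hab hab' ha' hb ξ t]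
    exact S.stun2_xl_mem_Ag o ξ

theorem xl_cj_mem_Ag {a : ι ⊕ ι} (ha : a ≠ o) (ha' : a ≠ ng o) (η : Lam F od) : ∀ y ∈ S.Ag o, cj (S.xl a η) y ∈ S.Ag o := by
  apply cj_mem_of_gens
  rintro _ (⟨c, d, u, hcd, hcd', hco, rfl⟩ | ⟨c, ξ, hco, rfl⟩)
  · change c = o at hco
    rw [hco] at hcd hcd' ⊢
    have hd : d ≠ o := hcd.symm
    have hd' : d ≠ ng o := fun h => hcd' (by rw [h, ng_ng])
    have hz : S.xs o d u ∈ S.Ag o := S.stun2_xs_mem_Ag hd hd' u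
    by_cases hda : d = a
    · rw [hda] at hcd hcd' hz ⊢
      have hsym := S.sym o a hcd hcd' u
      rw [hsym] at hz ⊢
      have h := S.stuv7_cj_ls (a := a) (b := ng o) ha' (by rw [ng_ng]; exact ha) η (-(star u))
      rw [ng_ng] at h
      rw [h]
      exact (S.Ag o).mul_mem ((S.Ag o).mul_mem (S.stun2_xs_mem_Ag' ha ha' _) (S.stun2_xl_mem_Ag o _)) hz
    · rw [S.stuv7_cj_comm_ls hcd hcd' (fun h => ha' (by rw [h, ng_ng])) hda η u]
      exact hz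
  · change c = o at hco
    rw [hco, S.stuv7_cj_hh ha ha' η ξ]
    exact (S.Ag o).mul_mem (S.stun2_xs_mem_Ag' ha ha' _) (S.stun2_xl_mem_Ag o ξ)

end N

end SysU

end Cfsg.Agent.Lib.Helper27.STU
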