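import Mathlib
import Cfsg.Agent.Lib.Helper12.STUV7

/-!
# STU V5: the long Weyl element of `a` on `xs (ng a) l` (`cj_wl_nal`), verbatim

Same method as `STUV7` (normal form `stuv7_nf` in the class two group generated by `xs a (ng b)`, `xs (ng a) (ng b)`, `xl b`, here with `b = ng l`).
-/

set_option autoImplicit false

namespace Cfsg.Agent.Lib.Helper27.STU

open Cfsg.Agent.Lib.helper15.St2 Cfsg.Agent.Lib.helper3.STC

namespace SysU

variable {F : Type*} [Field F] [StarRing F] {od : Prop} {ι : Type*} {G : Type*} [Group G] (S : SysU F od ι G)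

theorem stuv5_nf_NL {a b : ι ⊕ ι} (hab : a ≠ b) (hab' : a ≠ ng b) (t : F) (ζ : Lam F od) :
    S.stuv7_nf a b 0 t ζ = S.xs (ng a) (ng b) t * S.xl b ζ := by
  have hnb : ng (ng b) = b := ng_ng b
  have h1 : a ≠ ng (ng b) := by rwa [hnb]
  unfold stuv7_nf
  rw [S.stuv7_xs_zero hab' h1, one_mul]

/-- conjugation of a general normal form by `xl (ng a) ρ` -/
theorem stuv5_step_na {a b : ι ⊕ ι} (hab : a ≠ b) (hab' : a ≠ ng b) (ρ : Lam F od) (s t : F) (ζ : Lam F od) :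
    cj (S.xl (ng a) ρ) (S.stuv7_nf a b s t ζ) =
      S.stuv7_nf a b s (ρ.c * s + t - ρ.v * star ζ.v)
        (Lam.tr (-(star (ρ.c * s)) * s) * Lam.act (star s) (Lam.bar ρ) * ζ) := by
  have hnb : ng (ng b) = b := ng_ng b
  have hna : ng (ng a) = a := ng_ng a
  have h1 : a ≠ ng (ng b) := by rwa [hnb]
  have h2 : ng a ≠ ng b := fun h => hab (ng_inj.mp h)
  have h3' : ng a ≠ b := fun h => hab' (by rw [← h, hna])
  have h3 : ng a ≠ ng (ng b) := by rwa [hnb]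
  have e1 : cj (S.xl (ng a) ρ) (S.xs a (ng b) s) =
      S.xs (ng a) (ng b) (ρ.c * s) * S.xl b (Lam.act (star s) (Lam.bar ρ)) * S.xs a (ng b) s := by
    have h := S.stuv7_cj_ls h2 h3 ρ s
    rw [hna, hnb] at h
    exact h
  have e2 : cj (S.xl (ng a) ρ) (S.xl b ζ) = S.xs (ng a) (ng b) (-(ρ.v * star ζ.v)) * S.xl b ζ :=
    S.stuv7_cj_hh h3' h2 ρ ζ
  have e3 : cj (S.xl (ng a) ρ) (S.xs (ng a) (ng b) t) = S.xs (ng a) (ng b) t := by
    refine S.stuv7_cj_comm_ls h2 h3 ?_ (ng_ne b |> fun h => ?_) ρ t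
    · rw [hna]; exact ng_ne a
    · exact fun h' => h2 h'.symm
  have e : S.stuv7_nf a b s t ζ = S.xs a (ng b) s * S.xs (ng a) (ng b) t * S.xl b ζ := rfl
  rw [e, cj_mul, cj_mul, e1, e2, e3, ← S.stuv7_nf_N hab hab', ← S.stuv7_nf_L hab hab', ← S.stuv7_nf_A hab hab',
    ← S.stuv7_nf_N hab hab' t, ← S.stuv7_nf_N hab hab' (-(ρ.v * star ζ.v)), ← S.stuv7_nf_L hab hab' ζ]
  simp only [S.stuv7_nf_mul hab hab']
  congr 1
  · ring
  · ring
  · ext
    · simp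
    · simp

theorem stuv5_aux {a b : ι ⊕ ι} (hab : a ≠ b) (hab' : a ≠ ng b) {ξ : Lam F od} (hc : ξ.c ≠ 0) (t : F) :
    cj (S.wl a ξ) (S.xs (ng a) (ng b) t) = S.xs a (ng b) (ξ.c * t) := by
  have hc' : star ξ.c ≠ 0 := fun h => hc (by simpa using congrArg star h)
  have hnb : ng (ng b) = b := ng_ng b
  have h1 : a ≠ ng (ng b) := by rwa [hnb]
  have e1 : cj (S.xl a (Lam.nu ξ)) (S.xs (ng a) (ng b) t) =
      S.stuv7_nf a b ((Lam.nu ξ).c * t) t (Lam.act (star t) (Lam.bar (Lam.nu ξ))) := by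
    rw [S.stuv7_cj_ls hab' h1 (Lam.nu ξ) t, hnb, ← S.stuv7_nf_A hab hab', ← S.stuv7_nf_L hab hab',
      ← S.stuv7_nf_N hab hab']
    simp only [S.stuv7_nf_mul hab hab']
    congr 1
    · ring
    · ring
    · ext
      · simp
      · simp
  unfold wl
  rw [← cj_cj, ← cj_cj, e1, S.stuv5_step_na hab hab']
  have ht : (Lam.mu ξ).c * ((Lam.nu ξ).c * t) + t -
      (Lam.mu ξ).v * star (Lam.act (star t) (Lam.bar (Lam.nu ξ))).v = 0 := by
    simp only [Lam.mu_c, Lam.mu_v, Lam.nu_v, Lam.nu_c, Lam.act_v, Lam.bar_v, star_mul', star_div₀, star_star]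
    field_simp
    linear_combination t * ξ.h
  have hζ : Lam.tr (-(star ((Lam.mu ξ).c * ((Lam.nu ξ).c * t))) * ((Lam.nu ξ).c * t)) *
        Lam.act (star ((Lam.nu ξ).c * t)) (Lam.bar (Lam.mu ξ)) * Lam.act (star t) (Lam.bar (Lam.nu ξ)) = 1 := by
    ext
    · simp only [Lam.mul_v, Lam.tr_v, Lam.act_v, Lam.bar_v, Lam.mu_v, Lam.nu_v, Lam.nu_c, Lam.one_v,
        star_mul', zero_add]
      field_simp
      ring
    · simp only [Lam.mul_v, Lam.mul_c, Lam.tr_v, Lam.tr_c, Lam.act_v, Lam.act_c, Lam.bar_v, Lam.bar_c, Lam.mu_v,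
        Lam.mu_c, Lam.nu_v, Lam.nu_c, Lam.one_c, star_neg, star_mul', star_div₀, star_star, star_inv₀, zero_add,
        zero_mul, sub_zero]
      field_simp
      linear_combination (star t * t) * ξ.h
  rw [ht, hζ, S.stuv7_step_a hab hab', ← S.stuv7_nf_A hab hab']
  congr 1
  simp

/-- V5 -/
theorem cj_wl_nal {a l : ι ⊕ ι} (hla : l ≠ a) (hla' : l ≠ ng a) {ξ : Lam F od} (hc : ξ.c ≠ 0) (t : F) :
    cj (S.wl a ξ) (S.xs (ng a) l t) = S.xs a l (ξ.c * t) := by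
  have h1 : a ≠ ng l := fun h => hla' (by rw [h, ng_ng])
  have h2 : a ≠ ng (ng l) := by rw [ng_ng]; exact hla.symm
  have h := S.stuv5_aux h1 h2 hc t
  rwa [ng_ng] at h

end SysU

end Cfsg.Agent.Lib.Helper27.STU
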