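import Cfsg.Agent.Lib.Helper12.SU3S.P2
import Cfsg.Agent.Lib.Helper12.SU3S.P3
import Cfsg.Agent.Lib.Helper12.SU3S.P5

/-!
# Marked presentations of `SU₃(2)`, `SU₃(3)`, `SU₃(5)` with the universal property (helper12)

For `q = 2, 3, 5` (the values excluded from the generic presentation of `SU₃(q)`) the group `Cfsg.SU 3 F q` has three
generators `g 0`, `g 1`, `g 2` and a list `L` of at most 22 relators (5, 7 and 11 of them) in the free group on three
letters such that every triple `u` in a group `G` which satisfies `L` is the image of `g` under a homomorphism.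
In the coordinates of the antidiagonal form: `q = 3, 5`: `g = (u(1, β₀), diag(ζ, σ ζ / ζ, 1 / σ ζ), antidiag(γ, 1, -1 / γ))`
with `ζ = 1 + s` resp. `1 + 2 s`, `β₀ = 1` resp. `2`, `γ = s`, `s * s = 2`; `q = 2`: `g = (u(1, ω), u(ω, ω), antidiag(1, 1, 1))`.
Method: the relators hold for the matrices (arithmetic of pairs, checked by the kernel), a coset enumeration over a
cyclic subgroup bounds the order of the presented group, words reaching all the isotropic vectors and all the
elements of the stabiliser of one of them bound the order of the generated subgroup from below.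
-/

set_option autoImplicit false

namespace Cfsg.Agent.Lib.Helper12.SU3S

universe u

/-- `SU₃(q)`, `q = 2, 3, 5`, is presented on three marked generators by at most 22 relators, with the universal
property in the form of a homomorphism. -/
theorem su3_small_pres {F : Type u} [Field F] [Fintype F] {q : ℕ} (hF : Fintype.card F = q ^ 2)
    (hq : q = 2 ∨ q = 3 ∨ q = 5) :
    ∃ (g : Fin 3 → ↥(Cfsg.SU 3 F q)) (L : List (FreeGroup (Fin 3))), L.length ≤ 22 ∧
      Subgroup.closure (Set.range g) = ⊤ ∧ (∀ x ∈ L, FreeGroup.lift g x = 1) ∧
      ∀ (G : Type) [Group G] (u : Fin 3 → G), (∀ x ∈ L, FreeGroup.lift u x = 1) →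
        ∃ φ : ↥(Cfsg.SU 3 F q) →* G, ∀ i, φ (g i) = u i := by
  rcases hq with rfl | rfl | rfl
  · exact su3_pres_two hF
  · exact su3_pres_three hF
  · exact su3_pres_five hF

end Cfsg.Agent.Lib.Helper12.SU3S
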