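import Mathlib
import Cfsg.Prelude.Def_ClassificationK
import Cfsg.Agent.Lib.Helper12.Local

set_option autoImplicit false

namespace Cfsg.Agent.Lib.Helper12

theorem eq_of_sq_eq_one_of_isCyclic {H : Type*} [Group H] [Finite H] [IsCyclic H] {x y : H}
    (hx : x ^ 2 = 1) (hy : y ^ 2 = 1) (hx1 : x ≠ 1) (hy1 : y ≠ 1) : x = y := by
  classical
  have : Fintype H := Fintype.ofFinite H
  by_contra hxy
  have h := IsCyclic.card_pow_eq_one_le (α := H) (n := 2) (by norm_num)
  have hsub : ({1, x, y} : Finset H) ⊆ Finset.univ.filter (fun a : H => a ^ 2 = 1) := by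
    intro a ha
    simp only [Finset.mem_insert, Finset.mem_singleton] at ha
    simp only [Finset.mem_filter, Finset.mem_univ, true_and]
    rcases ha with rfl | rfl | rfl
    · exact one_pow 2
    · exact hx
    · exact hy
  have hcard : ({1, x, y} : Finset H).card = 3 := by
    rw [Finset.card_insert_of_notMem, Finset.card_insert_of_notMem, Finset.card_singleton]
    · simpa using hxy
    · simp only [Finset.mem_insert, Finset.mem_singleton, not_or]
      exact ⟨fun h => hx1 h.symm, fun h => hy1 h.symm⟩
  have := Finset.card_le_card hsub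
  omega

section InvolutionCentralizer

variable {G : Type*} [Group G]

/-- The involution `z` as an element of its centralizer. -/
def zC (z : G) : ↥(Subgroup.centralizer ({z} : Set G)) :=
  ⟨z, Subgroup.mem_centralizer_singleton_iff.mpr rfl⟩

theorem zC_mem_center (z : G) : zC z ∈ Subgroup.center ↥(Subgroup.centralizer ({z} : Set G)) := by
  rw [Subgroup.mem_center_iff]
  intro c
  apply Subtype.ext
  have := Subgroup.mem_centralizer_singleton_iff.mp c.2
  simp only [Subgroup.coe_mul, zC]
  exact this

theorem zC_mem_generalizedFittingSubgroup (z : G) :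
    zC z ∈ Cfsg.generalizedFittingSubgroup ↥(Subgroup.centralizer ({z} : Set G)) := by
  apply fittingSubgroup_le_generalizedFittingSubgroup
  have hle : Subgroup.zpowers (zC z) ≤ Subgroup.center ↥(Subgroup.centralizer ({z} : Set G)) := by
    rw [Subgroup.zpowers_le]
    exact zC_mem_center z
  have hn : (Subgroup.zpowers (zC z)).Normal := by
    constructor
    intro n hn g
    have hc := hle hn
    rw [Subgroup.mem_center_iff] at hc
    rw [hc g, mul_inv_cancel_right]
    exact hn
  have hnil : Group.IsNilpotent (Subgroup.zpowers (zC z)) := by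
    have : IsMulCommutative (Subgroup.zpowers (zC z)) := inferInstance
    let _ : CommGroup (Subgroup.zpowers (zC z)) :=
      { (inferInstance : Group (Subgroup.zpowers (zC z))) with
        mul_comm := fun a b => this.is_comm.comm a b }
    exact CommGroup.isNilpotent
  exact le_fittingSubgroup hn hnil (Subgroup.mem_zpowers _)

/-- The involution `z` as an element of `F*(C_G(z))`. -/
def zQ (z : G) : ↥(Cfsg.generalizedFittingSubgroup ↥(Subgroup.centralizer ({z} : Set G))) :=
  ⟨zC z, zC_mem_generalizedFittingSubgroup z⟩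

theorem zQ_coe (z : G) : (((zQ z : ↥(Cfsg.generalizedFittingSubgroup ↥(Subgroup.centralizer ({z} : Set G)))) :
    ↥(Subgroup.centralizer ({z} : Set G))) : G) = z := rfl

theorem zQ_mem_center (z : G) : zQ z ∈ Subgroup.center
    ↥(Cfsg.generalizedFittingSubgroup ↥(Subgroup.centralizer ({z} : Set G))) := by
  rw [Subgroup.mem_center_iff]
  intro q
  apply Subtype.ext
  have := (Subgroup.mem_center_iff.mp (zC_mem_center z)) (q : ↥(Subgroup.centralizer ({z} : Set G)))
  exact this

theorem zQ_sq (z : G) (hz : orderOf z = 2) : (zQ z) ^ 2 = 1 := by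
  apply Subtype.ext
  apply Subtype.ext
  simp only [Subgroup.coe_pow, zQ_coe, Subgroup.coe_one]
  rw [← hz]
  exact pow_orderOf_eq_one z

theorem zQ_ne_one (z : G) (hz : orderOf z = 2) : zQ z ≠ 1 := by
  intro h
  have h1 := congrArg (fun q : ↥(Cfsg.generalizedFittingSubgroup ↥(Subgroup.centralizer ({z} : Set G))) =>
    ((q : ↥(Subgroup.centralizer ({z} : Set G))) : G)) h
  simp only [zQ_coe, Subgroup.coe_one] at h1
  rw [h1, orderOf_one] at hz
  omega

/-- `Ω₁(Z(Q))` as a subgroup. -/
def omegaCenter (Q : Type*) [Group Q] : Subgroup Q where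
  carrier := {x | x ∈ Subgroup.center Q ∧ x ^ 2 = 1}
  one_mem' := ⟨Subgroup.one_mem _, one_pow 2⟩
  mul_mem' := by
    rintro a b ⟨ha, ha2⟩ ⟨hb, hb2⟩
    refine ⟨Subgroup.mul_mem _ ha hb, ?_⟩
    have hc : Commute a b := (Subgroup.mem_center_iff.mp ha b).symm
    rw [hc.mul_pow, ha2, hb2, one_mul]
  inv_mem' := by
    rintro a ⟨ha, ha2⟩
    exact ⟨Subgroup.inv_mem _ ha, by rw [inv_pow, ha2, inv_one]⟩

theorem mem_omegaCenter {Q : Type*} [Group Q] {x : Q} :
    x ∈ omegaCenter Q ↔ x ∈ Subgroup.center Q ∧ x ^ 2 = 1 := Iff.rfl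

theorem omegaCenter_characteristic (Q : Type*) [Group Q] : (omegaCenter Q).Characteristic := by
  rw [Subgroup.characteristic_iff_le_comap]
  intro e x hx
  rw [Subgroup.mem_comap]
  obtain ⟨hc, h2⟩ := hx
  refine ⟨?_, ?_⟩
  · have hchar : (Subgroup.center Q).Characteristic := inferInstance
    have := (Subgroup.characteristic_iff_le_comap.mp hchar) e hc
    exact this
  · simp only [MulEquiv.coe_toMonoidHom]
    rw [← map_pow, h2, map_one]

theorem omegaCenter_isMulCommutative (Q : Type*) [Group Q] : IsMulCommutative (omegaCenter Q) := by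
  refine ⟨⟨fun a b => ?_⟩⟩
  apply Subtype.ext
  exact ((Subgroup.mem_center_iff.mp a.2.1) b).symm

/-- In a finite group of symplectic type, a central element of order dividing 2 is trivial or equal to
any given non-identity central element of order dividing 2. -/
theorem central_involution_unique {Q : Type*} [Group Q] [Finite Q] (hQ : Cfsg.IsOfSymplecticType Q)
    {x y : Q} (hx : x ∈ Subgroup.center Q) (hx2 : x ^ 2 = 1) (hx1 : x ≠ 1)
    (hy : y ∈ Subgroup.center Q) (hy2 : y ^ 2 = 1) (hy1 : y ≠ 1) : x = y := by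
  have hcyc : IsCyclic (omegaCenter Q) :=
    hQ.2 _ (omegaCenter_characteristic Q) (omegaCenter_isMulCommutative Q)
  have h := @eq_of_sq_eq_one_of_isCyclic (omegaCenter Q) _ _ hcyc ⟨x, hx, hx2⟩ ⟨y, hy, hy2⟩
    (Subtype.ext hx2) (Subtype.ext hy2) (fun h => hx1 (congrArg Subtype.val h))
    (fun h => hy1 (congrArg Subtype.val h))
  exact congrArg Subtype.val h

/-- In a group of symplectic type, an element of order 2 of a characteristic abelian subgroup is central. -/
theorem involution_of_char_abelian_mem_center {Q : Type*} [Group Q] [Finite Q]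
    (hQ : Cfsg.IsOfSymplecticType Q) (B : Subgroup Q) (hBc : B.Characteristic)
    (hBa : IsMulCommutative B) {u : Q} (hu : u ∈ B) (hu2 : u ^ 2 = 1) :
    u ∈ Subgroup.center Q := by
  by_cases hu1 : u = 1
  · rw [hu1]; exact Subgroup.one_mem _
  have hcyc : IsCyclic B := hQ.2 B hBc hBa
  have hBn : B.Normal := inferInstance
  rw [Subgroup.mem_center_iff]
  intro q
  have hmem : q * u * q⁻¹ ∈ B := hBn.conj_mem u hu q
  have h2 : (q * u * q⁻¹) ^ 2 = 1 := by
    rw [conj_pow, hu2, mul_one, mul_inv_cancel]
  have h1 : q * u * q⁻¹ ≠ 1 := by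
    intro h
    apply hu1
    have := congrArg (fun x => q⁻¹ * x * q) h
    simpa [mul_assoc] using this
  have h := @eq_of_sq_eq_one_of_isCyclic B _ _ hcyc ⟨q * u * q⁻¹, hmem⟩ ⟨u, hu⟩
    (Subtype.ext h2) (Subtype.ext hu2) (fun h => h1 (congrArg Subtype.val h))
    (fun h => hu1 (congrArg Subtype.val h))
  have h' : q * u * q⁻¹ = u := congrArg Subtype.val h
  calc q * u = q * u * q⁻¹ * q := by group
    _ = u * q := by rw [h']

/-- Under the symplectic-type hypothesis on `Q = F*(C_G(z))`, the only non-identity element of order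
dividing 2 in a characteristic abelian subgroup of `Q` is `z`. -/
theorem involution_of_char_abelian_eq_zQ [Finite G] (z : G) (hz : orderOf z = 2)
    (hQ : Cfsg.IsOfSymplecticType ↥(Cfsg.generalizedFittingSubgroup ↥(Subgroup.centralizer ({z} : Set G))))
    (B : Subgroup ↥(Cfsg.generalizedFittingSubgroup ↥(Subgroup.centralizer ({z} : Set G))))
    (hBc : B.Characteristic) (hBa : IsMulCommutative B)
    {u : ↥(Cfsg.generalizedFittingSubgroup ↥(Subgroup.centralizer ({z} : Set G)))} (hu : u ∈ B)
    (hu2 : u ^ 2 = 1) (hu1 : u ≠ 1) : u = zQ z :=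
  central_involution_unique hQ (involution_of_char_abelian_mem_center hQ B hBc hBa hu hu2) hu2 hu1
    (zQ_mem_center z) (zQ_sq z hz) (zQ_ne_one z hz)

end InvolutionCentralizer

end Cfsg.Agent.Lib.Helper12
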