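import Mathlib
import Cfsg.Agent.Lib.helper3.T2E.Defs
import Cfsg.Agent.Lib.helper8.ChevTF6
import Cfsg.Agent.Lib.helper8.ChevTwE6b

/-!
# T2E row D13c (helper12): the commutator of the short root elements of the twisted roots of `42` and `40`
-/

set_option autoImplicit false
set_option linter.unusedVariables false

namespace Cfsg.Agent.Lib.helper3.T2E

open Cfsg.Lie Cfsg.Lie.ChevalleyDatum Matrix
open Cfsg.Agent.Lib.helper8 Cfsg.Agent.Lib.Helper10.TEM Cfsg.Agent.Lib.helper7.Ce
  Cfsg.Agent.Lib.helper15.St2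

universe u

variable {K : Type u} [Field K] {q : ℕ} {f : K ≃+* K}

/-- the commutator formula for a pair of roots of `E₆` whose sum is a root -/
theorem t2ed13ch12_rel (r s c : ℕ) (n : ℤ) (hr : r < 72) (hs : s < 72) (hne : s ≠ r) (hneg : s ≠ 71 - r)
    (hct : chevE6.commTerms r s = [(c, n, 1, 1)]) (t v : K) :
    (X s v : GG K) * X r t = X r t * X s v * X c (-((n : K) * (t * v))) := by
  have hd := root_data r hr
  have hds := root_data s hs
  have hf := h8xU_comm_formula (K := K) chevE6 hB hC r s hd.1 hds.1 hne (by rw [hd.2.1]; exact hneg) t v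
  unfold X
  rw [hf]
  congr 1
  unfold ChevalleyDatum.commWord
  rw [hct]
  simp only [List.map_cons, List.map_nil]
  rw [h8wordU_one]
  congr 1
  ring

/-- a pair of roots of `E₆` whose sum is not a root -/
theorem t2ed13ch12_comm (r s : ℕ) (hr : r < 72) (hs : s < 72) (hne : s ≠ r) (hneg : s ≠ 71 - r)
    (hct : chevE6.commTerms r s = []) (t v : K) :
    (X s v : GG K) * X r t = X r t * X s v := by
  have hd := root_data r hr
  have hds := root_data s hs
  have hf := h8xU_comm_formula (K := K) chevE6 hB hC r s hd.1 hds.1 hne (by rw [hd.2.1]; exact hneg) t v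
  unfold X
  rw [hf]
  unfold ChevalleyDatum.commWord
  rw [hct]
  simp [h8wordU]

theorem t2ed13ch12_ct1 : chevE6.commTerms 42 40 = [(44, -1, 1, 1)] := by decide +kernel
theorem t2ed13ch12_ct2 : chevE6.commTerms 37 43 = [(44, 1, 1, 1)] := by decide +kernel
theorem t2ed13ch12_ct3 : chevE6.commTerms 42 43 = [] := by decide +kernel
theorem t2ed13ch12_ct4 : chevE6.commTerms 37 40 = [] := by decide +kernel
theorem t2ed13ch12_ct5 : chevE6.commTerms 42 37 = [] := by decide +kernel
theorem t2ed13ch12_ct6 : chevE6.commTerms 40 43 = [] := by decide +kernel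
theorem t2ed13ch12_ct7 : chevE6.commTerms 42 44 = [] := by decide +kernel
theorem t2ed13ch12_ct8 : chevE6.commTerms 37 44 = [] := by decide +kernel
theorem t2ed13ch12_ct9 : chevE6.commTerms 40 44 = [] := by decide +kernel
theorem t2ed13ch12_ct10 : chevE6.commTerms 43 44 = [] := by decide +kernel

theorem t2ed13ch12_sig : h8sE6 42 = 37 ∧ h8eE6 42 = 1 ∧ h8sE6 40 = 43 ∧ h8eE6 40 = -1 := by decide +kernel

/-- the group theoretic computation -/
theorem t2ed13ch12_grp {G : Type*} [Group G] (a b c d z1 z2 : G)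
    (hca : c * a = a * c * z1) (hdb : d * b = b * d * z2) (hda : d * a = a * d) (hcb : c * b = b * c)
    (h1a : z1 * a = a * z1) (h1c : z1 * c = c * z1)
    (h2a : z2 * a = a * z2) (h2c : z2 * c = c * z2) (h2b : z2 * b = b * z2) (h2d : z2 * d = d * z2) :
    cm (a * b) (c * d) = z1⁻¹ * z2⁻¹ := by
  have hac : a * c = z1⁻¹ * c * a := by
    have hz : Commute z1 (a * c) := (show Commute z1 a from h1a).mul_right h1c
    have h' : c * a = z1 * (a * c) := by rw [hca]; exact hz.eq.symm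
    calc a * c = z1⁻¹ * (z1 * (a * c)) := by group
      _ = z1⁻¹ * (c * a) := by rw [← h']
      _ = z1⁻¹ * c * a := by group
  have hbd : b * d = z2⁻¹ * d * b := by
    have hz : Commute z2 (b * d) := (show Commute z2 b from h2b).mul_right h2d
    have h' : d * b = z2 * (b * d) := by rw [hdb]; exact hz.eq.symm
    calc b * d = z2⁻¹ * (z2 * (b * d)) := by group
      _ = z2⁻¹ * (d * b) := by rw [← h']
      _ = z2⁻¹ * d * b := by group
  have ha2 : a * z2⁻¹ = z2⁻¹ * a := ((show Commute z2 a from h2a).inv_left).eq.symm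
  have hc2 : c * z2⁻¹ = z2⁻¹ * c := ((show Commute z2 c from h2c).inv_left).eq.symm
  have key : a * b * (c * d) = z1⁻¹ * z2⁻¹ * (c * d) * (a * b) := by
    calc a * b * (c * d) = a * (b * c) * d := by group
      _ = a * (c * b) * d := by rw [hcb]
      _ = (a * c) * (b * d) := by group
      _ = (z1⁻¹ * c * a) * (z2⁻¹ * d * b) := by rw [hac, hbd]
      _ = z1⁻¹ * c * (a * z2⁻¹) * d * b := by group
      _ = z1⁻¹ * c * (z2⁻¹ * a) * d * b := by rw [ha2]
      _ = z1⁻¹ * (c * z2⁻¹) * (a * d) * b := by group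
      _ = z1⁻¹ * (z2⁻¹ * c) * (d * a) * b := by rw [hc2, hda]
      _ = z1⁻¹ * z2⁻¹ * (c * d) * (a * b) := by group
  unfold cm
  rw [key]
  group

-- ROW D13c
theorem comm_SL (hF : Frob q f) : ∃ ε : K, (ε = 1 ∨ ε = -1) ∧
    ∀ t u : K, cm (XS q 42 t) (XS q 40 u) = X 44 (ε * (t * u + (t * u) ^ q)) := by
  refine ⟨-1, Or.inr rfl, ?_⟩
  intro t u
  obtain ⟨s1, e1, s2, e2⟩ := t2ed13ch12_sig
  have hXS1 : XS q 42 t = X 42 t * X 37 (t ^ q) := by
    unfold XS
    rw [s1, e1]
    simp
  have hXS2 : XS q 40 u = X 40 u * X 43 (-(u ^ q)) := by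
    unfold XS
    rw [s2, e2]
    simp
  rw [hXS1, hXS2]
  have hca := t2ed13ch12_rel (K := K) 42 40 44 (-1) (by norm_num) (by norm_num) (by norm_num) (by norm_num)
    t2ed13ch12_ct1 t u
  have hdb := t2ed13ch12_rel (K := K) 37 43 44 1 (by norm_num) (by norm_num) (by norm_num) (by norm_num)
    t2ed13ch12_ct2 (t ^ q) (-(u ^ q))
  have hda := t2ed13ch12_comm (K := K) 42 43 (by norm_num) (by norm_num) (by norm_num) (by norm_num)
    t2ed13ch12_ct3 t (-(u ^ q))
  have hcb := t2ed13ch12_comm (K := K) 37 40 (by norm_num) (by norm_num) (by norm_num) (by norm_num)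
    t2ed13ch12_ct4 (t ^ q) u
  have h44 : ∀ (r : ℕ) (hr : r < 72) (hne : 44 ≠ r) (hneg : 44 ≠ 71 - r) (hct : chevE6.commTerms r 44 = [])
      (z v : K), (X 44 z : GG K) * X r v = X r v * X 44 z := fun r hr hne hneg hct z v =>
    t2ed13ch12_comm (K := K) r 44 hr (by norm_num) hne hneg hct v z
  have hg := t2ed13ch12_grp (X 42 t : GG K) (X 37 (t ^ q)) (X 40 u) (X 43 (-(u ^ q)))
    (X 44 (-(((-1 : ℤ) : K) * (t * u)))) (X 44 (-(((1 : ℤ) : K) * (t ^ q * -(u ^ q)))))
    hca hdb hda hcb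
    (h44 42 (by norm_num) (by norm_num) (by norm_num) t2ed13ch12_ct7 _ _)
    (h44 40 (by norm_num) (by norm_num) (by norm_num) t2ed13ch12_ct9 _ _)
    (h44 42 (by norm_num) (by norm_num) (by norm_num) t2ed13ch12_ct7 _ _)
    (h44 40 (by norm_num) (by norm_num) (by norm_num) t2ed13ch12_ct9 _ _)
    (h44 37 (by norm_num) (by norm_num) (by norm_num) t2ed13ch12_ct8 _ _)
    (h44 43 (by norm_num) (by norm_num) (by norm_num) t2ed13ch12_ct10 _ _)
  rw [hg]
  have hinv : ∀ z : K, (X 44 z : GG K)⁻¹ = X 44 (-z) := by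
    intro z
    unfold X
    rw [h8xU_inv]
  rw [hinv, hinv]
  unfold X
  rw [h8xU_add chevE6 hB 44 (root_data 44 (by norm_num)).1]
  congr 1
  push_cast
  rw [mul_pow]
  ring

end Cfsg.Agent.Lib.helper3.T2E
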