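import Mathlib
import Cfsg.Agent.Lib.helper17.T3.DefsC

/-!
# T3C row H1 (helper12): the torus element `hs j u` on the short root groups
-/

set_option autoImplicit false

namespace Cfsg.Agent.Lib.helper17.T3

open Cfsg.Agent.Lib.helper15.St2 Cfsg.Agent.Lib.helper7.Ce

variable {F K : Type*} [Field F] [Field K] [Algebra F K]

theorem t3ch1h12_nm_one (C : Cub F K) : C.nm 1 = 1 := by
  apply (algebraMap F K).injective
  rw [C.hnm, map_one, map_one, map_one]
  simp

theorem t3ch1h12_cases (i : ZMod 6) : i = 0 ∨ i = 1 ∨ i = 2 ∨ i = 3 ∨ i = 4 ∨ i = 5 := by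
  revert i; decide

variable {C : Cub F K} {G Γ : Type*} [Group G] [Group Γ]

namespace SysT

variable (S : SysT C G)

theorem hs_xs (j i : ZMod 6) (u t : K) (hu : u ≠ 0) : cj (S.hs j u) (S.xs (j + i) t) = S.xs (j + i) (C.chs i u * t) := by
  have h1 : (1 : K) ≠ 0 := one_ne_zero
  have hn : C.nm 1 = 1 := t3ch1h12_nm_one C
  have hsplit : ∀ x : G, cj (S.hs j u) x = cj (S.ws j u) (cj (S.ws j 1)⁻¹ x) := by
    intro x
    rw [cj_cj]
    rfl
  rw [hsplit]
  rcases t3ch1h12_cases i with rfl | rfl | rfl | rfl | rfl | rfl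
  · -- i = 0
    have e : cj (S.ws j 1)⁻¹ (S.xs (j + 0) t) = S.xs (j + 3) t := by
      apply cj_inv_of
      have := S.ws_s3 j 1 t h1
      rw [add_zero]
      simpa [SysT.ws] using this
    rw [e]
    have := S.ws_s3 j u t hu
    rw [add_zero]
    show cj (S.xs j u * S.xs (j + 3) u⁻¹ * S.xs j u) (S.xs (j + 3) t) = S.xs j (u ^ 2 * t)
    exact this
  · -- i = 1
    have e : cj (S.ws j 1)⁻¹ (S.xs (j + 1) t) = S.xs (j + 2) (-t) := by
      apply cj_inv_of
      have := S.ws_s2 j 1 (-t) h1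
      simpa [SysT.ws, hn] using this
    rw [e]
    have := S.ws_s2 j u (-t) hu
    show cj (S.xs j u * S.xs (j + 3) u⁻¹ * S.xs j u) (S.xs (j + 2) (-t)) = S.xs (j + 1) (algebraMap F K (C.nm u) * u⁻¹ ^ 2 * t)
    rw [this]
    congr 1
    rw [Algebra.smul_def]
    ring
  · -- i = 2
    have e : cj (S.ws j 1)⁻¹ (S.xs (j + 2) t) = S.xs (j + 1) t := by
      apply cj_inv_of
      have := S.ws_s1 j 1 t h1
      simpa [SysT.ws, hn] using this
    rw [e]
    have := S.ws_s1 j u t hu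
    show cj (S.xs j u * S.xs (j + 3) u⁻¹ * S.xs j u) (S.xs (j + 1) t) = S.xs (j + 2) (u ^ 2 * (algebraMap F K (C.nm u))⁻¹ * t)
    rw [this]
    congr 1
    rw [Algebra.smul_def, map_inv₀]
    ring
  · -- i = 3
    have e : cj (S.ws j 1)⁻¹ (S.xs (j + 3) t) = S.xs j t := by
      apply cj_inv_of
      have := S.ws_s0 j 1 t h1
      simpa [SysT.ws] using this
    rw [e]
    have := S.ws_s0 j u t hu
    show cj (S.xs j u * S.xs (j + 3) u⁻¹ * S.xs j u) (S.xs j t) = S.xs (j + 3) (u⁻¹ ^ 2 * t)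
    exact this
  · -- i = 4
    have e : cj (S.ws j 1)⁻¹ (S.xs (j + 4) t) = S.xs (j + 5) (-t) := by
      apply cj_inv_of
      have := S.ws_s5 j 1 (-t) h1
      simpa [SysT.ws, hn] using this
    rw [e]
    have := S.ws_s5 j u (-t) hu
    show cj (S.xs j u * S.xs (j + 3) u⁻¹ * S.xs j u) (S.xs (j + 5) (-t)) = S.xs (j + 4) (u ^ 2 * (algebraMap F K (C.nm u))⁻¹ * t)
    rw [this]
    congr 1
    rw [Algebra.smul_def, map_inv₀]
    ring
  · -- i = 5
    have e : cj (S.ws j 1)⁻¹ (S.xs (j + 5) t) = S.xs (j + 4) t := by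
      apply cj_inv_of
      have := S.ws_s4 j 1 t h1
      simpa [SysT.ws, hn] using this
    rw [e]
    have := S.ws_s4 j u t hu
    show cj (S.xs j u * S.xs (j + 3) u⁻¹ * S.xs j u) (S.xs (j + 4) t) = S.xs (j + 5) (algebraMap F K (C.nm u) * u⁻¹ ^ 2 * t)
    rw [this]
    congr 1
    rw [Algebra.smul_def]
    ring

end SysT

end Cfsg.Agent.Lib.helper17.T3
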