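/-
TRI piece 3-CONG (project leader helper9, target S2858): criticality of a walk only depends on its
vertices `p 0, …, p b`.
-/
import Cfsg.Agent.Lib.Helper9.TRI.Defs3

set_option autoImplicit false

namespace Cfsg.Agent.Lib.Helper9.TRI

open Cfsg.Agent.Lib.Helper19.SW
open scoped commutatorElement

variable {G : Type*} [Group G] {V : Type*} [MulAction G V] {Adj : V → V → Prop} {ty : V → Bool}
  {A : Bool} {b : ℕ}

/-- TRI-3-CONG : criticality only depends on `p 0, …, p b`. -/
theorem isCritical_congr {p q : ℕ → V} {b : ℕ} (hpq : ∀ i, i ≤ b → p i = q i)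
    (hc : IsCritical G Adj p b) : IsCritical G Adj q b := by
  obtain ⟨hw, hbel, hn⟩ := hc
  refine ⟨fun i hi => ?_, hbel, ?_⟩
  · rw [← hpq i (by omega), ← hpq (i + 1) (by omega)]
    exact hw i hi
  · rw [← hpq 0 (Nat.zero_le _), ← hpq b le_rfl]
    exact hn

end Cfsg.Agent.Lib.Helper9.TRI
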