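import Mathlib
import Cfsg.Prelude.Def_ChevStructure
import Cfsg.Prelude.Def_LieTwisted
import Cfsg.Agent.Lib.helper6.TWIE6.Defs
import Cfsg.Agent.Lib.helper8.ChevTwE6C
import Cfsg.Agent.Lib.helper8.ChevTwB7

/-!
# Project TWIE6 (S2182), piece INST1 (helper12; port of helper8's `d4_NF`): the normal form `u₁ m u₂` in `²E₆(q)`
-/

set_option autoImplicit false
set_option linter.unusedVariables false

namespace Cfsg.Agent.Lib.helper6.TWIE6

open Cfsg.Lie Cfsg.Lie.ChevalleyDatum Cfsg.Agent.Lib.helper8 Cfsg.Agent.Lib.helper14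
  Cfsg.Agent.Lib.helper14.INV Cfsg.Agent.Lib.helper14.TWI

universe u

variable {K : Type u} [Field K]

/-- INST1 : the normal form `u₁ m u₂` in `²E₆(q)` -/
theorem te6_NF [Fintype K] (q : ℕ) (hq : IsPrimePow q) (hK : Fintype.card K = q ^ 2)
    (g : GL chevE6.Idx K) (hg : g ∈ twistedE6 K q) :
    ∃ u₁ ∈ chevE6.posUnipotent K ⊓ twistedE6 K q, ∃ m ∈ chevE6.monomialSubgroup K ⊓ twistedE6 K q,
      ∃ u₂ ∈ chevE6.posUnipotent K ⊓ twistedE6 K q, g = u₁ * m * u₂ := by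
  have hD : chevE6 ∈ [chevG2, chevB2, chevD4, chevF4, chevE6, chevE7, chevE8] := by simp
  have hB := h8base_all.{u} chevE6 hD
  have hA := h8reflAll chevE6 hD
  have hC := h8commAll.{u} chevE6 hD
  have hBN := h8bn_all chevE6 hD
  have hW := h8bn2_all chevE6 hD
  obtain ⟨hO, hO2⟩ := h8ord_all chevE6 hD
  obtain ⟨f, hf, hff2, hneg⟩ := h8frob_exists hq 2 (by norm_num) hK
  have hff : ∀ t, f (f t) = t := fun t => hff2 t
  have hσp : ∀ r, chevE6.IsPosRoot r → chevE6.IsPosRoot (h8sE6 r) :=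
    fun r hr => (h8uE6_sig1 r hr.1 hr).1
  have hUfix := h8twE6_U_fix hB hC hA hBN hO2 q f hf hff hneg
  obtain ⟨u1, hu1, m, hm, u, hu, huG, e⟩ := h8tw_normal_G1 chevE6 hB hA hC hBN hW hO hO2
    h8sE6 h8tE6 h8pE6 h8qE6 h8eE6 (h8autE6 hA) f hσp (twistedE6 K q)
    (h8gen_le_group chevE6 hB _) (h8twE6_fix hB hC hA q f hf hff) hUfix g hg
  exact ⟨u1, hu1, m, hm, u, ⟨h8Um_le_U chevE6 m hu, huG⟩, e⟩

end Cfsg.Agent.Lib.helper6.TWIE6
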