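import Mathlib
import Cfsg.Prelude.Def_ChevStructure
import Cfsg.Prelude.Def_LieTwisted
import Cfsg.Agent.Lib.helper6.TWIE6.Defs
import Cfsg.Agent.Lib.helper8.TWIINST2
import Cfsg.Agent.Lib.helper8.ChevTwE6C
import Cfsg.Agent.Lib.helper8.ChevTwB7

/-!
# Project TWIE6 (S2182), piece INST2 (helper12; port of helper8's `d4_mem`): the products of root elements `x_r(1)` over the
orbits of the graph automorphism on the roots, and the elements `n_O`, lie in `²E₆(q)`

Every orbit `[r]` or `[r, ρ r]` is the image of one of the twelve generating orbits (`h8twE6_x1`, `h8twE6_x2` at `t = 1`) under a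
product of orbit reflections; the certificate list `te6MemCert` (one entry `(base, vs)` for every root) was found by a breadth
first search and is checked by `decide +kernel`.
-/

set_option autoImplicit false
set_option linter.unusedVariables false

namespace Cfsg.Agent.Lib.helper6.TWIE6

open Cfsg.Lie Cfsg.Lie.ChevalleyDatum Cfsg.Agent.Lib.helper8 Cfsg.Agent.Lib.helper14
  Cfsg.Agent.Lib.helper14.INV Cfsg.Agent.Lib.helper14.TWI

universe u

variable {K : Type u} [Field K]

/-- the twelve generating orbits: the fundamental ones, their negatives, and the pairs in both orders -/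
def twie6inst2Bases : List (List ℕ) :=
  [[46], [25], [39], [32], [56, 36], [15, 35], [42, 37], [29, 34], [36, 56], [35, 15], [37, 42], [34, 29]]

/-- for every root `r` a generating orbit `base` and a product `vs` of orbit reflections mapping `base` onto the entry `r` of
`te6RhoOrbs` -/
def te6MemCert : List (List ℕ × List (List ℕ)) :=
  [
    ([25], [[1], [3], [2, 4], [0, 5], [3], [2, 4], [3]]),
    ([25], [[3], [2, 4], [0, 5], [3], [2, 4], [3]]),
    ([25], [[2, 4], [0, 5], [3], [2, 4], [3]]),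
    ([15, 35], [[0, 5], [2, 4], [3], [2, 4], [1], [3], [2, 4]]),
    ([15, 35], [[2, 4], [3], [2, 4], [1], [3], [2, 4]]),
    ([35, 15], [[0, 5], [2, 4], [3], [2, 4], [1], [3], [2, 4]]),
    ([25], [[0, 5], [3], [2, 4], [3]]),
    ([15, 35], [[3], [2, 4], [1], [3], [2, 4]]),
    ([25], [[0, 5], [2, 4], [3]]),
    ([15, 35], [[2, 4], [1], [3], [2, 4]]),
    ([15, 35], [[1], [3], [2, 4]]),
    ([32], [[0, 5], [2, 4]]),
    ([15, 35], [[2, 4], [3], [2, 4]]),
    ([15, 35], [[3], [2, 4]]),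
    ([15, 35], [[2, 4]]),
    ([15, 35], []),
    ([35, 15], [[2, 4], [3], [2, 4], [1], [3], [2, 4]]),
    ([35, 15], [[3], [2, 4], [1], [3], [2, 4]]),
    ([25], [[3], [2, 4], [3]]),
    ([35, 15], [[2, 4], [1], [3], [2, 4]]),
    ([25], [[2, 4], [3]]),
    ([29, 34], [[1], [3]]),
    ([35, 15], [[1], [3], [2, 4]]),
    ([34, 29], [[1], [3]]),
    ([25], [[3]]),
    ([25], []),
    ([35, 15], [[2, 4], [3], [2, 4]]),
    ([32], [[2, 4]]),
    ([29, 34], [[3]]),
    ([29, 34], []),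
    ([35, 15], [[3], [2, 4]]),
    ([34, 29], [[3]]),
    ([32], []),
    ([35, 15], [[2, 4]]),
    ([34, 29], []),
    ([35, 15], []),
    ([36, 56], []),
    ([37, 42], []),
    ([36, 56], [[2, 4]]),
    ([39], []),
    ([37, 42], [[3]]),
    ([36, 56], [[3], [2, 4]]),
    ([42, 37], []),
    ([42, 37], [[3]]),
    ([39], [[2, 4]]),
    ([36, 56], [[2, 4], [3], [2, 4]]),
    ([46], []),
    ([46], [[3]]),
    ([37, 42], [[1], [3]]),
    ([36, 56], [[1], [3], [2, 4]]),
    ([42, 37], [[1], [3]]),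
    ([46], [[2, 4], [3]]),
    ([36, 56], [[2, 4], [1], [3], [2, 4]]),
    ([46], [[3], [2, 4], [3]]),
    ([36, 56], [[3], [2, 4], [1], [3], [2, 4]]),
    ([36, 56], [[2, 4], [3], [2, 4], [1], [3], [2, 4]]),
    ([56, 36], []),
    ([56, 36], [[2, 4]]),
    ([56, 36], [[3], [2, 4]]),
    ([56, 36], [[2, 4], [3], [2, 4]]),
    ([39], [[0, 5], [2, 4]]),
    ([56, 36], [[1], [3], [2, 4]]),
    ([56, 36], [[2, 4], [1], [3], [2, 4]]),
    ([46], [[0, 5], [2, 4], [3]]),
    ([56, 36], [[3], [2, 4], [1], [3], [2, 4]]),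
    ([46], [[0, 5], [3], [2, 4], [3]]),
    ([36, 56], [[0, 5], [2, 4], [3], [2, 4], [1], [3], [2, 4]]),
    ([56, 36], [[2, 4], [3], [2, 4], [1], [3], [2, 4]]),
    ([56, 36], [[0, 5], [2, 4], [3], [2, 4], [1], [3], [2, 4]]),
    ([46], [[2, 4], [0, 5], [3], [2, 4], [3]]),
    ([46], [[3], [2, 4], [0, 5], [3], [2, 4], [3]]),
    ([46], [[1], [3], [2, 4], [0, 5], [3], [2, 4], [3]])]

theorem twie6inst2_orb_valid : ∀ O ∈ te6Orbs, ∀ j ∈ O, j < chevE6.rank := by decide

set_option maxRecDepth 100000 in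
theorem twie6inst2_cert : ∀ R ∈ te6RhoOrbs, ∃ e ∈ te6MemCert, e.1 ∈ twie6inst2Bases ∧
    (∀ O ∈ e.2, O ∈ te6Orbs) ∧ e.1.map (h8sW chevE6 e.2.flatten) = R := by
  decide +kernel

theorem twie6inst2_bases_lt : ∀ R ∈ twie6inst2Bases, ∀ r ∈ R, r < 72 := by decide

/-- moving a product of root elements inside a subgroup containing the `n_O` -/
theorem twie6inst2_step [CharP K 2] (hB : H8Base.{u} chevE6) (G₁ : Subgroup (GL chevE6.Idx K))
    (hnO : ∀ O ∈ te6Orbs, (h8nWU chevE6 hB O : GL chevE6.Idx K) ∈ G₁)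
    (vs : List (List ℕ)) (hvs : ∀ O ∈ vs, O ∈ te6Orbs) (R : List ℕ) (hR : ∀ r ∈ R, r < 72)
    (hmem : (w1 chevE6 hB R : GL chevE6.Idx K) ∈ G₁) :
    (w1 chevE6 hB (R.map (h8sW chevE6 vs.flatten)) : GL chevE6.Idx K) ∈ G₁ := by
  have hD : chevE6 ∈ [chevG2, chevB2, chevD4, chevF4, chevE6, chevE7, chevE8] := by simp
  have hA := h8reflAll chevE6 hD
  have hn : (h8nWU chevE6 hB vs.flatten : GL chevE6.Idx K) ∈ G₁ := by
    induction vs with
    | nil => exact Subgroup.one_mem _
    | cons O vs ih =>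
      rw [List.flatten_cons, h8nWU_append]
      exact Subgroup.mul_mem _ (hnO O (hvs O List.mem_cons_self))
        (ih (fun O' hO' => hvs O' (List.mem_cons_of_mem _ hO')))
  have hv : ValidW chevE6 vs.flatten := by
    intro j hj
    obtain ⟨O, hO, hjO⟩ := List.mem_flatten.mp hj
    exact twie6inst2_orb_valid O (hvs O hO) j hjO
  rw [← twiinst2_conj chevE6 hB hA vs.flatten hv R hR]
  exact Subgroup.mul_mem _ (Subgroup.mul_mem _ hn hmem) (Subgroup.inv_mem _ hn)

/-- INST2 : the products of root elements `x_r(1)` over the orbits of the graph automorphism on the roots lie in `²E₆(q)`, as well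
as the elements `n_O` -/
theorem te6_mem [Fintype K] [CharP K 2] (q : ℕ) (hq : IsPrimePow q) (hK : Fintype.card K = q ^ 2)
    (hB : H8Base.{u} chevE6) :
    (∀ R ∈ te6RhoOrbs, (w1 chevE6 hB R : GL chevE6.Idx K) ∈ twistedE6 K q) ∧
    (∀ O ∈ te6Orbs, (h8nWU chevE6 hB O : GL chevE6.Idx K) ∈ twistedE6 K q) := by
  have hD : chevE6 ∈ [chevG2, chevB2, chevD4, chevF4, chevE6, chevE7, chevE8] := by simp
  have hA := h8reflAll chevE6 hD
  have hC := h8commAll.{u} chevE6 hD
  obtain ⟨f, hf, hff2, hneg⟩ := h8frob_exists hq 2 (by norm_num) hK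
  set G₁ := twistedE6 K q with hG₁
  -- the elements `n_O`
  have hnO : ∀ O ∈ te6Orbs, (h8nWU chevE6 hB O : GL chevE6.Idx K) ∈ G₁ := by
    intro O hOo
    simp only [te6Orbs, List.mem_cons, List.not_mem_nil, or_false] at hOo
    rcases hOo with rfl | rfl | rfl | rfl
    · exact h8twE6_nJ hB hC q hneg [⟨1, by decide⟩] (by simp [h8orbsE6])
    · exact h8twE6_nJ hB hC q hneg [⟨3, by decide⟩] (by simp [h8orbsE6])
    · exact h8twE6_nJ hB hC q hneg [⟨2, by decide⟩, ⟨4, by decide⟩] (by simp [h8orbsE6])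
    · exact h8twE6_nJ hB hC q hneg [⟨0, by decide⟩, ⟨5, by decide⟩] (by simp [h8orbsE6])
  have h1q : (1 : K) ^ q = 1 := one_pow q
  -- the generators at `t = 1`
  have single : ∀ r : ℕ, (w1 chevE6 hB [r] : GL chevE6.Idx K) = h8xU chevE6 hB r 1 := by
    intro r
    rw [w1_cons, w1_nil, mul_one]
  have double : ∀ a b : ℕ, (w1 chevE6 hB [a, b] : GL chevE6.Idx K) =
      h8xU chevE6 hB a 1 * h8xU chevE6 hB b 1 := by
    intro a b
    rw [w1_cons, w1_cons, w1_nil, mul_one]
  have s1 : ∀ r ∈ [46, 25, 39, 32], (w1 chevE6 hB [r] : GL chevE6.Idx K) ∈ G₁ := by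
    intro r hr
    rw [single]
    exact h8twE6_x1 hB q r hr 1 h1q
  have p1 : ∀ p ∈ [(56, 36), (15, 35), (42, 37), (29, 34)],
      (w1 chevE6 hB [p.1, p.2] : GL chevE6.Idx K) ∈ G₁ ∧
      (w1 chevE6 hB [p.2, p.1] : GL chevE6.Idx K) ∈ G₁ := by
    intro p hp
    have h1 := h8twE6_x2 (K := K) hB q p.1 p.2 hp 1
    rw [h1q] at h1
    have hc : Commute (h8xU chevE6 hB p.1 (1 : K)) (h8xU chevE6 hB p.2 (1 : K)) :=
      h8twE6_commute hB hC p.1 p.2 (by
        simp only [List.mem_cons, List.not_mem_nil, or_false] at hp ⊢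
        rcases hp with rfl | rfl | rfl | rfl <;> simp) 1 1
    refine ⟨by rw [double]; exact h1, ?_⟩
    rw [double, ← hc.eq]
    exact h1
  have hbase : ∀ R ∈ twie6inst2Bases, (w1 chevE6 hB R : GL chevE6.Idx K) ∈ G₁ := by
    intro R hR
    simp only [twie6inst2Bases, List.mem_cons, List.not_mem_nil, or_false] at hR
    rcases hR with rfl | rfl | rfl | rfl | rfl | rfl | rfl | rfl | rfl | rfl | rfl | rfl
    · exact s1 46 (by simp)
    · exact s1 25 (by simp)
    · exact s1 39 (by simp)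
    · exact s1 32 (by simp)
    · exact (p1 (56, 36) (by simp)).1
    · exact (p1 (15, 35) (by simp)).1
    · exact (p1 (42, 37) (by simp)).1
    · exact (p1 (29, 34) (by simp)).1
    · exact (p1 (56, 36) (by simp)).2
    · exact (p1 (15, 35) (by simp)).2
    · exact (p1 (42, 37) (by simp)).2
    · exact (p1 (29, 34) (by simp)).2
  refine ⟨?_, hnO⟩
  intro R hR
  obtain ⟨e, _, hb, hvs, rfl⟩ := twie6inst2_cert R hR
  exact twie6inst2_step hB G₁ hnO e.2 hvs e.1 (twie6inst2_bases_lt e.1 hb) (hbase e.1 hb)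

end Cfsg.Agent.Lib.helper6.TWIE6
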