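import Mathlib
import Cfsg.Prelude.Def_ChevStructure
import Cfsg.Prelude.Def_LieTwisted
import Cfsg.Agent.Lib.helper6.TWIE6.Defs
import Cfsg.Agent.Lib.helper8.ChevTwE6C
import Cfsg.Agent.Lib.helper8.ChevTwB7

/-!
# Project TWIE6 (S2182), piece INST3 (helper12; port of helper8's `d4_equi`): the Weyl group elements of `N ∩ ²E₆(q)`
commute with the graph automorphism, hence are equivariant with respect to the orbits
-/

set_option autoImplicit false
set_option linter.unusedVariables false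

namespace Cfsg.Agent.Lib.helper6.TWIE6

open Cfsg.Lie Cfsg.Lie.ChevalleyDatum Cfsg.Agent.Lib.helper8 Cfsg.Agent.Lib.helper14
  Cfsg.Agent.Lib.helper14.INV Cfsg.Agent.Lib.helper14.TWI

universe u

variable {K : Type u} [Field K]

/-- the Weyl group element of an element `h0 n_w` of `²E₆(q)` commutes with the graph automorphism -/
theorem twie6inst3_comm [Fintype K] (q : ℕ) (hq : IsPrimePow q) (hK : Fintype.card K = q ^ 2)
    (hB : H8Base.{u} chevE6) (w : List ℕ) (hw : ValidW chevE6 w) (h0 : GL chevE6.Idx K)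
    (hh : h0 ∈ chevE6.diagonalSubgroup K)
    (hm : h0 * (h8nWU chevE6 hB w : GL chevE6.Idx K) ∈ twistedE6 K q) :
    ∀ r < 72, h8sW chevE6 w (h8sE6 r) = h8sE6 (h8sW chevE6 w r) := by
  have hD : chevE6 ∈ [chevG2, chevB2, chevD4, chevF4, chevE6, chevE7, chevE8] := by simp
  have hA := h8reflAll chevE6 hD
  have hC := h8commAll.{u} chevE6 hD
  have hBN := h8bn_all chevE6 hD
  have hW := h8bn2_all chevE6 hD
  obtain ⟨hO, hO2⟩ := h8ord_all chevE6 hD
  obtain ⟨f, hf, hff2, hneg⟩ := h8frob_exists hq 2 (by norm_num) hK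
  have hff : ∀ t, f (f t) = t := fun t => hff2 t
  have hmN : h0 * (h8nWU chevE6 hB w : GL chevE6.Idx K) ∈ chevE6.monomialSubgroup K :=
    Subgroup.mul_mem _ (h8H_le_N chevE6 hh) (h8nWU_mem_N chevE6 hB hA w hw)
  have hact : ∀ r < 72, H8Act chevE6 hB (h0 * (h8nWU chevE6 hB w : GL chevE6.Idx K)) r
      (h8sW chevE6 w r) := by
    intro r hr
    have hr' : r < chevE6.nroots := hr
    have h1 := h8nWU_act (F := K) chevE6 hB hA w hw r hr'
    have h2 := h8perm_H_id chevE6 hB h0 hh (h8sW chevE6 w r) (h8sW_lt chevE6 hA w hw r hr')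
    exact h8act_mul chevE6 hB h0 _ _ _ _ h1 h2
  have hfix := h8twE6_fix hB hC hA q f hf hff _ hm
  have hcomm := h8tw_Pi_comm chevE6 hB hA hBN hW hO2 h8sE6 h8tE6 h8pE6 h8qE6 h8eE6 (h8autE6 hA) f
    (h8mkRho chevE6 h8sE6 h8tE6 h8pE6 h8qE6 h8eE6 (h8autE6 hA)) (fun r => rfl) _ hmN hfix
  have hPi : ∀ r : Fin chevE6.nroots,
      ((h8Pi chevE6 hB hA hBN hW hO2 ⟨_, hmN⟩) r).val = h8sW chevE6 w r.val := by
    intro r
    exact h8act_unique chevE6 hB hA hBN hW hO2 _ r.val _ _ (Fin.is_lt _)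
      (h8sW_lt chevE6 hA w hw r.val r.2) (h8Pi_act chevE6 hB hA hBN hW hO2 ⟨_, hmN⟩ r)
      (hact r.val r.2)
  intro r hr
  have h1 := congrArg (fun p : Equiv.Perm (Fin chevE6.nroots) =>
    (p (h8mkRho chevE6 h8sE6 h8tE6 h8pE6 h8qE6 h8eE6 (h8autE6 hA) ⟨r, hr⟩)).val) hcomm
  simp only [Equiv.Perm.mul_apply, Equiv.Perm.coe_inv, Equiv.symm_apply_apply] at h1
  rw [h8mkRho_val, hPi, hPi, h8mkRho_val] at h1
  exact h1.symm

theorem twie6inst3_data : chevE6.simple 0 = 56 ∧ chevE6.simple 1 = 46 ∧ chevE6.simple 2 = 42 ∧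
    chevE6.simple 3 = 39 ∧ chevE6.simple 4 = 37 ∧ chevE6.simple 5 = 36 ∧
    h8sE6 56 = 36 ∧ h8sE6 36 = 56 ∧ h8sE6 42 = 37 ∧ h8sE6 37 = 42 := by decide +kernel

/-- equivariance for an orbit `[a, b]` of size two: `ρ` swaps the two fundamental roots `x = p_a`, `y = p_b` -/
theorem twie6inst3_pair (w : List ℕ) (a b x y : ℕ) (hab : a ≠ b)
    (sa : chevE6.simple a = x) (sb : chevE6.simple b = y)
    (exy : h8sE6 x = y) (eyx : h8sE6 y = x)
    (hσp : ∀ r, chevE6.IsPosRoot r → chevE6.IsPosRoot (h8sE6 r))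
    (kx : h8sW chevE6 w y = h8sE6 (h8sW chevE6 w x))
    (ky : h8sW chevE6 w x = h8sE6 (h8sW chevE6 w y)) :
    ((∃ j ∈ [a, b], chevE6.IsPosRoot (h8sW chevE6 w (chevE6.simple j))) →
      ∀ j ∈ [a, b], chevE6.IsPosRoot (h8sW chevE6 w (chevE6.simple j))) ∧
    ((∃ j ∈ [a, b], ∃ k ∈ [a, b], h8sW chevE6 w (chevE6.simple j) = chevE6.simple k) →
      PermO chevE6 w [a, b]) := by
  have hP : ∀ z, (z = x ∨ z = y) → (h8sE6 z = x ∨ h8sE6 z = y) := by
    rintro z (rfl | rfl)
    · exact Or.inr exy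
    · exact Or.inl eyx
  have hQ : ∀ z, (z = x ∨ z = y) → ∃ k ∈ ([a, b] : List ℕ), z = chevE6.simple k := by
    rintro z (rfl | rfl)
    · exact ⟨a, by simp, sa.symm⟩
    · exact ⟨b, by simp, sb.symm⟩
  constructor
  · rintro ⟨j, hj, hpos⟩
    have hall : chevE6.IsPosRoot (h8sW chevE6 w x) ∧ chevE6.IsPosRoot (h8sW chevE6 w y) := by
      simp only [List.mem_cons, List.not_mem_nil, or_false] at hj
      rcases hj with rfl | rfl
      · rw [sa] at hpos
        exact ⟨hpos, by rw [kx]; exact hσp _ hpos⟩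
      · rw [sb] at hpos
        exact ⟨by rw [ky]; exact hσp _ hpos, hpos⟩
    intro j' hj'
    simp only [List.mem_cons, List.not_mem_nil, or_false] at hj'
    rcases hj' with rfl | rfl
    · rw [sa]; exact hall.1
    · rw [sb]; exact hall.2
  · rintro ⟨j, hj, k, hk, e⟩
    have hk' : chevE6.simple k = x ∨ chevE6.simple k = y := by
      simp only [List.mem_cons, List.not_mem_nil, or_false] at hk
      rcases hk with rfl | rfl
      · exact Or.inl sa
      · exact Or.inr sb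
    rw [← e] at hk'
    have hall : (h8sW chevE6 w x = x ∨ h8sW chevE6 w x = y) ∧
        (h8sW chevE6 w y = x ∨ h8sW chevE6 w y = y) := by
      simp only [List.mem_cons, List.not_mem_nil, or_false] at hj
      rcases hj with rfl | rfl
      · rw [sa] at hk'
        have hb := hP _ hk'
        rw [← kx] at hb
        exact ⟨hk', hb⟩
      · rw [sb] at hk'
        have ha := hP _ hk'
        rw [← ky] at ha
        exact ⟨ha, hk'⟩
    intro j' hj'
    simp only [List.mem_cons, List.not_mem_nil, or_false] at hj'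
    rcases hj' with rfl | rfl
    · rw [sa]; exact hQ _ hall.1
    · rw [sb]; exact hQ _ hall.2

/-- equivariance for an orbit `[a]` of size one -/
theorem twie6inst3_single (w : List ℕ) (a : ℕ) :
    ((∃ j ∈ [a], chevE6.IsPosRoot (h8sW chevE6 w (chevE6.simple j))) →
      ∀ j ∈ [a], chevE6.IsPosRoot (h8sW chevE6 w (chevE6.simple j))) ∧
    ((∃ j ∈ [a], ∃ k ∈ [a], h8sW chevE6 w (chevE6.simple j) = chevE6.simple k) →
      PermO chevE6 w [a]) := by
  constructor
  · rintro ⟨j, hj, hpos⟩ j' hj'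
    rw [List.mem_singleton] at hj hj'
    subst hj hj'
    exact hpos
  · rintro ⟨j, hj, k, hk, e⟩ j' hj'
    rw [List.mem_singleton] at hj hk hj'
    subst hj hk hj'
    exact ⟨j', by simp, e⟩

/-- INST3 : equivariance of the Weyl group elements of `N ∩ G₁` -/
theorem te6_equi [Fintype K] (q : ℕ) (hq : IsPrimePow q) (hK : Fintype.card K = q ^ 2)
    (hB : H8Base.{u} chevE6) (w : List ℕ) (hw : ValidW chevE6 w) (h0 : GL chevE6.Idx K)
    (hh : h0 ∈ chevE6.diagonalSubgroup K)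
    (hm : h0 * (h8nWU chevE6 hB w : GL chevE6.Idx K) ∈ twistedE6 K q) :
    EquiO chevE6 te6Orbs w := by
  have key := twie6inst3_comm q hq hK hB w hw h0 hh hm
  obtain ⟨s0, s1, s2, s3, s4, s5, e1, e2, e3, e4⟩ := twie6inst3_data
  have hσp : ∀ r, chevE6.IsPosRoot r → chevE6.IsPosRoot (h8sE6 r) :=
    fun r hr => (h8uE6_sig1 r hr.1 hr).1
  have k56 : h8sW chevE6 w 36 = h8sE6 (h8sW chevE6 w 56) := by
    have := key 56 (by norm_num)
    rwa [e1] at this
  have k36 : h8sW chevE6 w 56 = h8sE6 (h8sW chevE6 w 36) := by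
    have := key 36 (by norm_num)
    rwa [e2] at this
  have k42 : h8sW chevE6 w 37 = h8sE6 (h8sW chevE6 w 42) := by
    have := key 42 (by norm_num)
    rwa [e3] at this
  have k37 : h8sW chevE6 w 42 = h8sE6 (h8sW chevE6 w 37) := by
    have := key 37 (by norm_num)
    rwa [e4] at this
  intro O hOo
  simp only [te6Orbs, List.mem_cons, List.not_mem_nil, or_false] at hOo
  rcases hOo with rfl | rfl | rfl | rfl
  · exact twie6inst3_single w 1
  · exact twie6inst3_single w 3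
  · exact twie6inst3_pair w 2 4 42 37 (by norm_num) s2 s4 e3 e4 hσp k42 k37
  · exact twie6inst3_pair w 0 5 56 36 (by norm_num) s0 s5 e1 e2 hσp k56 k36

end Cfsg.Agent.Lib.helper6.TWIE6
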