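import Mathlib
import Cfsg.Prelude.Def_ChevStructure
import Cfsg.Prelude.Def_LieTwisted
import Cfsg.Agent.Lib.helper6.TWIE6.Defs
import Cfsg.Agent.Lib.helper8.ChevTwE6C

/-! TWIE6-INST4 (helper12): the core of `B ∩ ²E₆(q)` is trivial (helper8's `h8twE6_core`) -/

set_option autoImplicit false
set_option linter.unusedVariables false

namespace Cfsg.Agent.Lib.helper6.TWIE6

open Cfsg.Lie Cfsg.Lie.ChevalleyDatum Cfsg.Agent.Lib.helper8 Cfsg.Agent.Lib.helper14
  Cfsg.Agent.Lib.helper14.INV Cfsg.Agent.Lib.helper14.TWI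

universe u

variable {K : Type u} [Field K]

/-- INST4 : the core of `B ∩ G₁` is trivial -/
theorem te6_core [Fintype K] (q : ℕ) (hq : IsPrimePow q) (hK : Fintype.card K = q ^ 2)
    (k : GL chevE6.Idx K)
    (hk : ∀ g ∈ twistedE6 K q, g * k * g⁻¹ ∈ chevE6.borelSubgroup K) : k = 1 :=
  h8twE6_core hq hK k hk

end Cfsg.Agent.Lib.helper6.TWIE6
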