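import Mathlib
import Cfsg.Prelude.Def_ChevStructure
import Cfsg.Prelude.Def_LieTwisted
import Cfsg.Agent.Lib.helper6.TWIE6.Defs
import Cfsg.Agent.Lib.helper14.TWISTDCb

/-! TWIE6-STDC (helper12): `∏ n_r(1)` is conjugate to `∏ x_r(1)` by `∏ x_{-r}(1)` for the eleven standard root sets of
`E₆` (`twistdcb_gen` of helper14 + the Boolean check) -/

set_option autoImplicit false
set_option linter.unusedVariables false

namespace Cfsg.Agent.Lib.helper6.TWIE6

open Cfsg.Lie Cfsg.Lie.ChevalleyDatum Cfsg.Agent.Lib.helper8 Cfsg.Agent.Lib.helper14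
  Cfsg.Agent.Lib.helper14.INV Cfsg.Agent.Lib.helper14.TWI

universe u

variable {K : Type u} [Field K]

set_option maxRecDepth 100000 in
/-- the Boolean check of STDC for the eleven standard sets of `E₆` -/
theorem twie6stdc_chk : ∀ k < 11, stdcChk chevE6 (te6Std.getD k []) = true := by
  decide +kernel

/-- STDC : `∏ n_r(1)` is conjugate to `∏ x_r(1)` by `∏ x_{-r}(1)` -/
theorem te6_std_cj [CharP K 2] (hB : H8Base.{u} chevE6) (k : ℕ) (hk : k < 11) :
    (w1 chevE6 hB ((te6Std.getD k []).map chevE6.neg) : GL chevE6.Idx K) *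
      n1 chevE6 hB (te6Std.getD k []) *
      (w1 chevE6 hB ((te6Std.getD k []).map chevE6.neg) : GL chevE6.Idx K)⁻¹ =
      w1 chevE6 hB (te6Std.getD k []) :=
  twistdcb_gen chevE6 (by simp) hB _ (twie6stdc_chk k hk)

end Cfsg.Agent.Lib.helper6.TWIE6
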