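import Mathlib
import Cfsg.Agent.Lib.Helper19.U3P.Defs
import Cfsg.Agent.Lib.Helper25.SU3P.Basic
import Cfsg.Agent.Lib.Helper25.SU3P.Center
import Cfsg.Agent.Lib.helper15.U3PP4
import Cfsg.Agent.Lib.Helper19.U3PX1
import Cfsg.Agent.Lib.helper14.U3PX10
import Cfsg.Agent.Lib.helper14.U3PX14
import Cfsg.Agent.Lib.helper14.U3PX17

/-!
# Project U3P (designer helper19), row X21 core (helper12): the model `S = SU₃(q)` satisfies `RelO` and `Model`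

`u3px21_core` is the statement of `model_S` with the statements of the rows not yet landed
(F7 F8 F13 X12 X15 X16 X18 X19 X20) as hypotheses; P4 X4 X10 X14 X17 are cited.
-/

set_option autoImplicit false

namespace Cfsg.Agent.Lib.Helper19.U3P

open Cfsg.Agent.Lib.helper17.SLP Cfsg.Agent.Lib.helper14.SU3J Cfsg.Agent.Lib.Helper25.SU3P
open Polynomial Matrix

universe u v

section X

variable {F : Type u} [Field F] [Fintype F] {K : Type u} [Field K] [Fintype K] {q : ℕ}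

variable {D : Par F K q} {a b c : ↥(Cfsg.SU 3 F q)} {ρ : SL2 K →* ↥(Cfsg.SU 3 F q)}

theorem u3px21_core (hG : Gens D a b c ρ)
    (hF7 : (∀ x, D.σ (D.σ x) = x) ∧ D.al ≠ 0 ∧ D.nu = (D.σ (D.ζ : F) / (D.ζ : F)) ^ 3 ∧
      D.nu * D.σ D.nu = 1 ∧ D.σ D.γ0 = -D.γ0 ∧ D.bl ^ (q - 1) = 1 ∧
      orderOf (D.σ (D.ζ : F) / (D.ζ : F)) = q + 1 ∧ q < orderOf D.al)
    (hF8 : D.nu ≠ 1 ∧ D.nu + 1 ≠ 0 ∧ D.γ0 ≠ 0)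
    (hF13 : ∃ s₁ s₂ : K, ∀ x : F, x ≠ 0 → ∃ i : ℤ, x = D.al ^ i ∨
      x = D.al ^ i * (D.γ0 / (D.σ D.β0 - D.γ0 * D.ι s₁)) ∨
      x = D.al ^ i * (D.γ0 / (D.σ D.β0 - D.γ0 * D.ι s₂)))
    (hX12 : ∀ (US : Subgroup ↥(Cfsg.SU 3 F q)), (∀ X, X ∈ US ↔ IsUT (D.c.cj X)) →
      Nat.card ↥US = q ^ 3)
    (hX15 : D.γ0 ≠ 0 → ∀ X : ↥(Cfsg.SU 3 F q),
      X ∈ Subgroup.closure ({a, b} : Set ↥(Cfsg.SU 3 F q)) ↔ IsUp (D.c.cj X))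
    (hX16 : D.γ0 ≠ 0 →
      q ^ 3 * (q ^ 2 - 1) ≤ Nat.card ↥(Subgroup.closure ({a, b} : Set ↥(Cfsg.SU 3 F q))))
    (hX18 : (∀ x, D.σ (D.σ x) = x) → D.γ0 ≠ 0 → D.σ D.γ0 = -D.γ0 →
      ∀ (α₁ α₂ : F), (∀ x : F, x ≠ 0 → ∃ i : ℤ, x = D.al ^ i ∨ x = D.al ^ i * α₁ ∨
          x = D.al ^ i * α₂) →
      ∀ (Y₁ Y₂ : ↥(Cfsg.SU 3 F q)) (β₁ β₂ : F), D.c.cj Y₁ = uu D.σ α₁ β₁ →
        D.c.cj Y₂ = uu D.σ α₂ β₂ →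
      ∀ (X : ↥(Cfsg.SU 3 F q)), IsUT (D.c.cj X) → (∀ t : K, X ≠ ρ (xM t)) →
      ∃ (t : K) (i : ℤ) (y : ↥(Cfsg.SU 3 F q)), (y = a ∨ y = Y₁ ∨ y = Y₂) ∧
        X = ρ (xM t) * b ^ i * y * b ^ (-i))
    (hX19 : D.γ0 ≠ 0 → ∃ gc : SL2 K,
      IsUp (D.c.cj ((a * c)⁻¹ * (ρ gc * b) * (a * c))) ∧ q + 1 ≤ orderOf (ρ gc * b))
    (hX20 : (∀ x, D.σ (D.σ x) = x) → D.γ0 ≠ 0 → D.σ D.γ0 = -D.γ0 → ∀ s : K,
      ∃ Y : ↥(Cfsg.SU 3 F q), (∃ β, D.c.cj Y = uu D.σ (D.γ0 / (D.σ D.β0 - D.γ0 * D.ι s)) β) ∧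
        IsUp (D.c.cj ((Y * c)⁻¹ * ρ (wM * xM s) * (a * c)))) :
    ∃ (US : Subgroup ↥(Cfsg.SU 3 F q)) (C : ConstsO K), RelO ρ a b c C ∧ Model q ρ a b c US C := by
  obtain ⟨hσσ, -, -, -, hγσ, -, -, -⟩ := hF7
  obtain ⟨-, -, hγ⟩ := hF8
  obtain ⟨s₁, s₂, hreps⟩ := hF13
  obtain ⟨US, hUS⟩ := exists_US D
  have hB := hX15 hγ
  obtain ⟨Y₁, ⟨β₁, h1⟩, hup1⟩ := hX20 hσσ hγ hγσ s₁
  obtain ⟨Y₂, ⟨β₂, h2⟩, hup2⟩ := hX20 hσσ hγ hγσ s₂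
  obtain ⟨gc, hupc, hord⟩ := hX19 hγ
  have hY1 : Y₁ ∈ Subgroup.closure ({a, b} : Set ↥(Cfsg.SU 3 F q)) := by
    rw [hB, h1]; exact (CenterAux.isUT_uu _ _ _).1
  have hY2 : Y₂ ∈ Subgroup.closure ({a, b} : Set ↥(Cfsg.SU 3 F q)) := by
    rw [hB, h2]; exact (CenterAux.isUT_uu _ _ _).1
  obtain ⟨wu1, hwu1⟩ := exists_word_B a b Y₁ hY1
  obtain ⟨wu2, hwu2⟩ := exists_word_B a b Y₂ hY2
  obtain ⟨wb1, hwb1⟩ := exists_word_B a b _ ((hB _).2 hup1)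
  obtain ⟨wb2, hwb2⟩ := exists_word_B a b _ ((hB _).2 hup2)
  obtain ⟨wbc, hwbc⟩ := exists_word_B a b _ ((hB _).2 hupc)
  refine ⟨US, ⟨gc, wbc, wM * xM s₁, wu1, wb1, wM * xM s₂, wu2, wb2⟩, ⟨?_, ?_, ?_⟩, ?_⟩
  · show ρ gc * b * a * c = a * c * ev a b 1 wbc
    rw [hwbc]; group
  · show ρ (wM * xM s₁) * a * c = ev a b 1 wu1 * c * ev a b 1 wb1
    rw [hwu1, hwb1]; group
  · show ρ (wM * xM s₂) * a * c = ev a b 1 wu2 * c * ev a b 1 wb2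
    rw [hwu2, hwb2]; group
  · refine ⟨hX16 hγ, ?_, hX12 US hUS, ?_, ?_, ?_, ?_, hord⟩
    · intro x hx
      exact (hB x).2 ((hUS x).1 hx).1
    · intro g hg
      obtain ⟨Y, i, hY, hgY⟩ := up_decomp hG hσσ g ((hB g).1 hg)
      exact ⟨Y, (hUS Y).2 hY, i, hgY⟩
    · intro x hx hcx
      exact bruhat_S hG hσσ hγ x ((hUS x).1 hx) ((hB _).1 hcx)
    · intro t
      rw [hUS, rho_x hG t]
      exact CenterAux.isUT_uu _ _ _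
    · intro x hx hxZ
      obtain ⟨t, i, y, hy, hxy⟩ := hX18 hσσ hγ hγσ _ _ hreps Y₁ Y₂ β₁ β₂ h1 h2 x ((hUS x).1 hx) hxZ
      refine ⟨t, i, y, ?_, hxy⟩
      show y = a ∨ y = ev a b 1 wu1 ∨ y = ev a b 1 wu2
      rw [hwu1, hwu2]; exact hy

end X

end Cfsg.Agent.Lib.Helper19.U3P
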