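import Mathlib
import Cfsg.Agent.Lib.Helper19.U3P.Defs
import Cfsg.Agent.Lib.Helper12.U3PX21core
import Cfsg.Agent.Lib.helper7.U3PF7
import Cfsg.Agent.Lib.helper7.U3PF8
import Cfsg.Agent.Lib.Helper5.U3PF10
import Cfsg.Agent.Lib.Helper5.U3PX13
import Cfsg.Agent.Lib.helper14.U3PX12fin
import Cfsg.Agent.Lib.Helper11.U3PX15core
import Cfsg.Agent.Lib.Helper16.U3PX16core
import Cfsg.Agent.Lib.helper14.U3PX18
import Cfsg.Agent.Lib.Helper19.U3PX19
import Cfsg.Agent.Lib.helper6.U3PX20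

/-!
# Project U3P (designer helper19), row X21 verbatim (helper12): `model_S`

X15 / X16 are used through their landed cores (`u3px15_core`, `card_B_S_core`), so this row does not wait
for their verbatim wrappers.
-/

set_option autoImplicit false

namespace Cfsg.Agent.Lib.Helper19.U3P

open Cfsg.Agent.Lib.helper17.SLP Cfsg.Agent.Lib.helper14.SU3J Cfsg.Agent.Lib.Helper25.SU3P
open Polynomial Matrix

universe u v

section X

variable {F : Type u} [Field F] [Fintype F] {K : Type u} [Field K] [Fintype K] {q : ℕ}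

variable {D : Par F K q} {a b c : ↥(Cfsg.SU 3 F q)} {ρ : SL2 K →* ↥(Cfsg.SU 3 F q)}

theorem model_S (hG : Gens D a b c ρ) (hF : Fintype.card F = q ^ 2) (hK : Fintype.card K = q) (hq : 4 ≤ q)
    (h5 : q ≠ 5) :
    ∃ (US : Subgroup ↥(Cfsg.SU 3 F q)) (C : ConstsO K), RelO ρ a b c C ∧ Model q ρ a b c US C :=
  u3px21_core hG (par_basic D hF hK hq) (nu_ne D hF hK hq h5) (coset_reps D hF hK hq h5)
    (fun US hUS => card_US D hF US hUS)
    (fun hγ X => u3px15_core hG (fun X hX => gen_U hG hF hK hq hγ X hX)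
      (fun X hX => up_decomp hG (par_basic D hF hK hq).1 X hX) X)
    (fun hγ => card_B_S_core hG hF (exists_US D) (fun US hUS => card_US D hF US hUS)
      (fun X hX => gen_U hG hF hK hq hγ X hX))
    (fun hσσ hγ hγσ α₁ α₂ hreps Y₁ Y₂ β₁ β₂ h1 h2 X hX hXZ =>
      reps_S hG hσσ hγ hγσ α₁ α₂ hreps Y₁ Y₂ β₁ β₂ h1 h2 X hX hXZ)
    (fun hγ => stab_S hG hF hK hq hγ) (fun hσσ hγ hγσ s => move_S hG hσσ hγ hγσ s)

end X

end Cfsg.Agent.Lib.Helper19.U3P
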