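import Mathlib
import Cfsg.Agent.Lib.Helper5.UNI.Defs
import Cfsg.Agent.Lib.helper14.StChev

/-!
# Project UNI (S2314), row G7: the standard parabolic subgroups of the datum are those of the
(B,N)-pair (helper12; the argument is the step `hQ` of helper14's `st_chev_main`).
-/

set_option autoImplicit false

namespace Cfsg.Agent.Lib.Helper5.UNI

open Cfsg.Lie Cfsg.Lie.ChevalleyDatum Cfsg.Agent.Lib.helper8 Cfsg.Agent.Lib.helper3
  Cfsg.Agent.Lib.helper14

section Chevalley

universe u

variable {F : Type u} [Field F]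

section PLevel

variable (D : ChevalleyDatum) (hB : H8Base.{u} D) (P : Cfsg.BNPair ↥(D.group F))
  (σ : ℕ → ↥(D.group F))

/-- G7: the standard parabolic subgroups of the datum are those of the (B,N)-pair -/
theorem uni_par_eq (hBN : H8BN D)
    (hPB : P.B = (D.borelSubgroup F).subgroupOf (D.group F))
    (hσv : ∀ i, i < D.rank → ((σ i : ↥(D.group F)) : GL D.Idx F) = h8nU D hB (D.simple i) 1)
    (K : Finset ℕ) (hK : K ⊆ Finset.range D.rank) :
    D.parabolicIn F K = P.parabolic (σ '' (K : Set ℕ)) := by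
  have hBG := h8_B_le_group (F := F) D hB
  have hNG := h8_N_le_group (F := F) D hB
  have hsN : ∀ i, i < D.rank → h8nU D hB (D.simple i) (1 : F) ∈ D.monomialSubgroup F :=
    fun i hi => h8nU_mem_N D hB _ (h8simple_pos D hBN i hi).1
  have hJr : ∀ j ∈ K, j < D.rank := fun j hj => Finset.mem_range.1 (hK hj)
  unfold ChevalleyDatum.parabolicIn ChevalleyDatum.parabolicSubgroup Cfsg.BNPair.parabolic
  have hset : {g : GL D.Idx F | ∃ j ∈ (K : Set ℕ), j < D.rank ∧
      (g : Matrix D.Idx D.Idx F) = D.nMat F (D.simple j) 1} =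
      (D.group F).subtype '' (σ '' (K : Set ℕ)) := by
    ext g
    constructor
    · rintro ⟨j, hj, hjr, hg⟩
      refine ⟨σ j, ⟨j, hj, rfl⟩, ?_⟩
      rw [Subgroup.coe_subtype, hσv j hjr]
      apply Units.ext
      rw [hg, h8nU_val]
    · rintro ⟨_, ⟨j, hj, rfl⟩, rfl⟩
      have hjr := hJr j (Finset.mem_coe.1 hj)
      refine ⟨j, hj, hjr, ?_⟩
      rw [Subgroup.coe_subtype, hσv j hjr, h8nU_val]
  have hcl_le : Subgroup.closure {g : GL D.Idx F | ∃ j ∈ (K : Set ℕ), j < D.rank ∧
      (g : Matrix D.Idx D.Idx F) = D.nMat F (D.simple j) 1} ≤ D.group F := by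
    rw [Subgroup.closure_le]
    rintro g ⟨j, _, hjr, hg⟩
    have : g = h8nU D hB (D.simple j) 1 := by
      apply Units.ext
      rw [hg, h8nU_val]
    rw [this]
    exact hNG (hsN j hjr)
  rw [Subgroup.subgroupOf_sup hBG hcl_le, hPB]
  congr 1
  rw [hset, ← MonoidHom.map_closure]
  unfold Subgroup.subgroupOf
  exact Subgroup.comap_map_eq_self_of_injective (Subgroup.subtype_injective _) _

end PLevel

end Chevalley

end Cfsg.Agent.Lib.Helper5.UNI
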